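import Cfsg.Agent.PSLBinary.Cyclic
import Cfsg.Agent.Suz.Binary.Subspace
import Mathlib

/-!
Cosets of subgroups fixing a point of the projective line.
-/

set_option autoImplicit false
set_option linter.unusedSectionVars false
set_option linter.style.haveILetI false

namespace Cfsg.Lib.PSLBinary

open Cfsg.Lib.Suz.Binary Cfsg.Lib.Classical.PSLFour
open scoped MatrixGroups

variable {F : Type*} [Field F]

local notation "PSL₂" k => Matrix.ProjectiveSpecialLinearGroup (Fin 2) k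

/-- An upper unitriangular matrix. -/
def up (b : F) : SL(2, F) := sl 1 b 0 1 (by ring)

/-- A diagonal matrix. -/
def dg (δ : F) (h : δ ≠ 0) : SL(2, F) := sl δ 0 0 δ⁻¹ (by rw [mul_inv_cancel₀ h]; ring)

/-- The Weyl element. -/
def wy : SL(2, F) := sl 0 1 (-1) 0 (by ring)

theorem up_mul (a b : F) : up a * up b = up (a + b) := by
  refine ext_four ?_ ?_ ?_ ?_ <;> simp [val_mul, up, sl00, sl01, sl10, sl11, add_comm]

theorem up_zero : up (0 : F) = 1 := by
  refine ext_four ?_ ?_ ?_ ?_ <;> simp [up, sl00, sl01, sl10, sl11]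

theorem up_inv (a : F) : (up a)⁻¹ = up (-a) := inv_eq_of_mul_eq_one_right (by rw [up_mul, add_neg_cancel, up_zero])

theorem dg_mul (x y : F) (hx : x ≠ 0) (hy : y ≠ 0) : dg x hx * dg y hy = dg (x * y) (mul_ne_zero hx hy) := by
  refine ext_four ?_ ?_ ?_ ?_ <;> simp [val_mul, dg, sl00, sl01, sl10, sl11, mul_comm]

theorem dg_inv (x : F) (hx : x ≠ 0) : (dg x hx)⁻¹ = dg x⁻¹ (inv_ne_zero hx) := by
  refine inv_eq_of_mul_eq_one_right ?_
  rw [dg_mul]
  refine ext_four ?_ ?_ ?_ ?_ <;> simp [dg, sl00, sl01, sl10, sl11, mul_inv_cancel₀ hx]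

theorem dg_up (x : F) (hx : x ≠ 0) (b : F) : dg x hx * up b * (dg x hx)⁻¹ = up (x ^ 2 * b) := by
  rw [mul_inv_eq_iff_eq_mul]
  refine ext_four ?_ ?_ ?_ ?_ <;> simp [val_mul, dg, up, sl00, sl01, sl10, sl11]
  field_simp

/-- The group of translations. -/
def uSub : Subgroup (PSL₂ F) where
  carrier := {g | ∃ b, π (up b) = g}
  one_mem' := ⟨0, by rw [up_zero, map_one]⟩
  mul_mem' := by rintro _ _ ⟨a, rfl⟩ ⟨b, rfl⟩; exact ⟨a + b, by rw [← up_mul, map_mul]⟩
  inv_mem' := by rintro _ ⟨a, rfl⟩; exact ⟨-a, by rw [← up_inv, map_inv]⟩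

theorem up_injective {a b : F} (h : π (up a) = π (up b)) : a = b := by
  rcases π_eq_iff.1 h with e | e
  · have := congrArg (fun z : SL(2, F) => z.1 0 1) e
    simpa [up, sl01] using this.symm
  · have e0 := congrArg (fun z : SL(2, F) => z.1 0 0) e
    have e1 := congrArg (fun z : SL(2, F) => z.1 0 1) e
    simp [up, sl00, sl01, val_neg] at e0 e1
    have h2 : (2 : F) = 0 := by linear_combination e0
    linear_combination -e1 + a * h2 + (0 : F)

/-- Fixing the point at infinity. -/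
def Upper (H : Subgroup (PSL₂ F)) : Prop := ∀ s : SL(2, F), π s ∈ H → s.1 1 0 = 0

theorem upper_of_exists {H : Subgroup (PSL₂ F)} (h : ∀ g ∈ H, ∃ s : SL(2, F), π s = g ∧ s.1 1 0 = 0) : Upper H := by
  intro s hs
  obtain ⟨t, ht, ht0⟩ := h _ hs
  rcases π_eq_iff.1 ht with e | e <;> simp [e, val_neg, ht0]

theorem diag_of_upper {S : SL(2, F)} (h10 : S.1 1 0 = 0) (h01 : S.1 0 1 = 0) :
    ∃ h : S.1 0 0 ≠ 0, S = dg (S.1 0 0) h := by
  have hd := det_eq_one S
  rw [h10, mul_zero, sub_zero] at hd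
  refine ⟨left_ne_zero_of_mul_eq_one hd, ext_four ?_ ?_ ?_ ?_⟩ <;> simp [dg, sl00, sl01, sl10, sl11, h10, h01]
  exact eq_inv_of_mul_eq_one_right hd

theorem wy_conj (S : SL(2, F)) : (wy⁻¹ * S * wy).1 1 0 = -S.1 0 1 := by
  obtain ⟨i0, i1, i2, i3⟩ := inv_val (wy (F := F))
  simp only [val_mul, i0, i1, i2, i3]
  simp [wy, sl00, sl01, sl10, sl11]

theorem mem_translate {H : Subgroup (PSL₂ F)} (c : F) (S : SL(2, F)) :
    π (up c * S * (up c)⁻¹) ∈ H.map (MulAut.conj (π (up c))).toMonoidHom ↔ π S ∈ H := by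
  constructor
  · rintro ⟨y, hy, e⟩
    obtain rfl : y = π S := (MulAut.conj (π (up c))).injective (by
      rw [MulAut.conj_apply (π (up c)) (π S), π_conj]; exact e)
    exact hy
  · exact fun h => ⟨π S, h, π_conj _ _⟩

/-- Moving an element with two fixed points to diagonal form. -/
theorem to_diag {H : Subgroup (PSL₂ F)} (hup : Upper H) {S : SL(2, F)} (hS : π S ∈ H) (h : S.1 0 0 ^ 2 ≠ 1) :
    ∃ c : F, Upper (H.map (MulAut.conj (π (up c))).toMonoidHom) ∧
      ∃ hd : S.1 0 0 ≠ 0, π (dg (S.1 0 0) hd) ∈ H.map (MulAut.conj (π (up c))).toMonoidHom := by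
  have h10 := hup S hS
  have hd := det_eq_one S
  rw [h10, mul_zero, sub_zero] at hd
  have hne : S.1 0 0 - S.1 1 1 ≠ 0 := fun e => h (by linear_combination hd + S.1 0 0 * e)
  have hsh : ∀ (c : F) (T : SL(2, F)), T.1 1 0 = 0 → (up c * T * (up c)⁻¹).1 1 0 = 0 ∧
      (up c * T * (up c)⁻¹).1 0 0 = T.1 0 0 ∧
      (up c * T * (up c)⁻¹).1 0 1 = T.1 0 1 + c * (T.1 1 1 - T.1 0 0) := by
    intro c T hT
    rw [up_inv]
    simp only [val_mul, up, sl00, sl01, sl10, sl11, hT]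
    exact ⟨by ring, by ring, by ring⟩
  refine ⟨S.1 0 1 / (S.1 0 0 - S.1 1 1), upper_of_exists ?_, left_ne_zero_of_mul_eq_one hd, ?_⟩
  · rintro _ ⟨y, hy, rfl⟩
    obtain ⟨T, rfl⟩ := QuotientGroup.mk'_surjective _ y
    exact ⟨_, (π_conj _ _).symm, (hsh _ T (hup T hy)).1⟩
  · obtain ⟨e10, e00, e01⟩ := hsh (S.1 0 1 / (S.1 0 0 - S.1 1 1)) S h10
    obtain ⟨hd', e⟩ := diag_of_upper e10 (e01.trans (by field_simp; ring))
    convert (mem_translate (S.1 0 1 / (S.1 0 0 - S.1 1 1)) S).2 hS using 2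
    rw [e]
    congr 1
    exact e00.symm

/-- Translations and a torus element of order at least three, against a conjugate meeting them in the torus. -/
theorem torus_four {M : Subgroup (PSL₂ F)} {g : PSL₂ F}
    (hD : ∀ d ∈ M, g⁻¹ * d * g ∈ M → ∃ δ hδ, d = π (dg δ hδ)) {e : F} (he : e ≠ 0) (heM : π (up e) ∈ M)
    {l : F} {hd : l ≠ 0} (hlH : π (dg l hd) ∈ M) (hgl : g⁻¹ * π (dg l hd) * g ∈ M) (h1 : l ^ 2 ≠ 1) (h2 : l ^ 2 ≠ -1) :
    ¬ Bin M := by
  have hfix : ∀ b, b ≠ 0 → ∀ d ∈ M, g⁻¹ * d * g ∈ M → Commute d (π (up b)) → d = 1 := by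
    intro b hb d hd0 hd' hc
    obtain ⟨δ, hδ, rfl⟩ := hD d hd0 hd'
    have : π (up (δ ^ 2 * b)) = π (up b) := by rw [← dg_up δ hδ, ← π_conj, hc.eq, mul_inv_cancel_right]
    have hδ2 : δ ^ 2 = 1 := (mul_eq_right₀ hb).1 (up_injective this)
    rw [π_one_iff]
    rcases sq_eq_one_iff.1 hδ2 with rfl | rfl
    · exact Or.inl (ext_four (by simp [dg, sl00]) (by simp [dg, sl01]) (by simp [dg, sl10]) (by simp [dg, sl11]))
    · exact Or.inr (ext_four (by simp [val_neg, dg, sl00]) (by simp [val_neg, dg, sl01])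
        (by simp [val_neg, dg, sl10]) (by simp [val_neg, dg, sl11]))
  have hb : π (up ((1 + l ^ 2) * e)) ∈ M := by
    have h := mul_mem heM (mul_mem (mul_mem hlH heM) (inv_mem hlH))
    rwa [π_conj, dg_up, ← map_mul, up_mul, show e + l ^ 2 * e = (1 + l ^ 2) * e by ring] at h
  have hb0 : (1 + l ^ 2) * e ≠ 0 := mul_ne_zero (fun h => h2 (eq_neg_of_add_eq_zero_right h)) he
  refine not_bin_four M (uSub ⊓ M) g (π (up ((1 + l ^ 2) * e))) (π (up e)) (π (dg l hd)) (π (dg l hd) * π (dg l hd)) 1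
    inf_le_right (fun x hx hx' => ?_) (fun d hd0 hd' x hx => ⟨?_, M.mul_mem (M.mul_mem hd0 hx.2) (M.inv_mem hd0)⟩)
    ⟨⟨_, rfl⟩, hb⟩ ⟨⟨_, rfl⟩, heM⟩ (hfix _ hb0) (hfix _ he) hlH ?_ (mul_mem hlH hlH) ?_ ?_ (one_mem _)
    (by simpa using one_mem M) ?_
  · obtain ⟨b, rfl⟩ := hx.1
    obtain ⟨δ, hδ, e'⟩ := hD _ hx.2 hx'
    rcases π_eq_iff.1 e' with e'' | e'' <;> have e3 := congrArg (fun z : SL(2, F) => z.1 0 1) e'' <;>
      simp [up, dg, val_neg, sl01] at e3 <;> (first | rw [e3, up_zero, map_one] | rw [← e3, up_zero, map_one])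
  · obtain ⟨δ, hδ, rfl⟩ := hD d hd0 hd'
    obtain ⟨b, rfl⟩ := hx.1
    exact ⟨_, by rw [π_conj, dg_up]⟩
  · exact hgl
  · rw [show g⁻¹ * (π (dg l hd) * π (dg l hd)) * g = (g⁻¹ * π (dg l hd) * g) * (g⁻¹ * π (dg l hd) * g) by group]
    exact mul_mem hgl hgl
  · intro h
    have h' : π (dg l hd) = 1 := left_eq_mul.1 h
    rcases π_one_iff.1 h' with e' | e' <;> have e3 := congrArg (fun z : SL(2, F) => z.1 0 0) e' <;>
      simp [dg, sl00, val_neg] at e3 <;> exact h1 (by rw [e3]; ring)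
  · rw [inv_one, mul_one, one_mul, π_conj, ← map_mul (π : SL(2, F) →* _) (dg l hd) (dg l hd), π_conj, dg_mul, dg_up, dg_up,
      ← map_inv, ← map_inv, ← map_mul, ← map_mul, up_inv, up_inv, up_mul, up_mul]
    congr 2
    ring

/-- A point stabiliser with translations and a torus element of order at least three. -/
theorem borel_four {H : Subgroup (PSL₂ F)} (hup : Upper H) {e : F} (he : e ≠ 0) (heH : π (up e) ∈ H)
    {S : SL(2, F)} (hS : π S ∈ H) (h1 : S.1 0 0 ^ 2 ≠ 1) (h2 : S.1 0 0 ^ 2 ≠ -1) : ¬ Bin H := by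
  obtain ⟨c, hup', hd, hlH⟩ := to_diag hup hS h1
  rw [bin_conj (π (up c)) rfl]
  have heM : π (up e) ∈ H.map (MulAut.conj (π (up c))).toMonoidHom := by
    have := (mem_translate c (up e)).2 heH
    rwa [up_inv, up_mul, up_mul, add_neg_cancel_comm] at this
  generalize H.map (MulAut.conj (π (up c))).toMonoidHom = M at hup' hlH heM
  generalize S.1 0 0 = l at h1 h2 hd hlH
  set g : PSL₂ F := π wy with hg
  have hD : ∀ d ∈ M, g⁻¹ * d * g ∈ M → ∃ δ hδ, d = π (dg δ hδ) := by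
    intro d hd0 hd'
    obtain ⟨T, rfl⟩ := QuotientGroup.mk'_surjective _ d
    rw [hg] at hd'
    have h01 := hup' (wy⁻¹ * T * wy) (by simpa using hd')
    rw [wy_conj, neg_eq_zero] at h01
    obtain ⟨hδ, e⟩ := diag_of_upper (hup' T hd0) h01
    exact ⟨_, hδ, congrArg π e⟩
  refine torus_four hD he heM hlH ?_ h1 h2
  suffices g⁻¹ * π (dg l hd) * g = (π (dg l hd))⁻¹ by rw [this]; exact inv_mem hlH
  rw [hg, ← map_inv, ← map_mul, ← map_mul, ← map_inv]
  congr 1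
  rw [dg_inv]
  obtain ⟨i0, i1, i2, i3⟩ := inv_val (wy (F := F))
  refine ext_four ?_ ?_ ?_ ?_ <;> simp only [val_mul, i0, i1, i2, i3] <;> simp [wy, dg, sl00, sl01, sl10, sl11]

/-- A point stabiliser whose torus part has order two. -/
theorem borel_two {H : Subgroup (PSL₂ F)} (hup : Upper H) (h20 : (2 : F) ≠ 0) {S : SL(2, F)} (hS : π S ∈ H)
    (h1 : S.1 0 0 ^ 2 = -1) (hall : ∀ T : SL(2, F), π T ∈ H → T.1 0 0 ^ 4 = 1) : ¬ Bin H := by
  obtain ⟨c, hup', hd, hlH⟩ := to_diag hup hS (fun e => h20 (by linear_combination h1 - e))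
  rw [bin_conj (π (up c)) rfl]
  have hall' : ∀ T : SL(2, F), π T ∈ H.map (MulAut.conj (π (up c))).toMonoidHom → T.1 0 0 ^ 4 = 1 := by
    intro T hT
    have h0 := hup' T hT
    rw [show T = up c * ((up c)⁻¹ * T * up c) * (up c)⁻¹ by group, mem_translate] at hT
    have h := hall _ hT
    rw [up_inv] at h
    simp only [val_mul, up, sl00, sl01, sl10, h0] at h
    linear_combination h
  generalize H.map (MulAut.conj (π (up c))).toMonoidHom = M at hup' hlH hall'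
  generalize S.1 0 0 = i at h1 hd hlH
  have hi : i⁻¹ = -i := inv_eq_of_mul_eq_one_right (by linear_combination -h1)
  have h2i : (2 : F) * i ≠ 0 := mul_ne_zero h20 hd
  set A : SL(2, F) := dg i hd with hA
  set B : SL(2, F) := sl 0 1 (-1) 0 (by ring) with hB
  set g2 : SL(2, F) := sl i (-(1 / 2)) 1 (1 / (2 * i)) (by field_simp; ring) with hg2
  set g3 : SL(2, F) := sl 1 (-(1 / 2)) 1 (1 / 2) (by field_simp; ring) with hg3
  obtain ⟨a0, a1, a2, a3⟩ := inv_val A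
  have hBg : B * g2 = g2 * (-A) ∧ A⁻¹ * B * g3 = g3 * (-A) := by
    constructor <;> refine ext_four ?_ ?_ ?_ ?_ <;> simp only [val_mul, val_neg, a0, a1, a2, a3] <;>
      simp [hA, hB, hg2, hg3, dg, sl00, sl01, sl10, sl11, hi] <;> field_simp <;>
      first | ring1 | linear_combination h1 | linear_combination -h1
  refine not_bin_three M 1 (π g2) (π g3) (π A) (π B) (by simpa using hlH) ?_ ?_ fun d hd1 hd2 hd3 => ?_
  · rw [mul_assoc, ← map_mul, hBg.1, map_mul, π_neg, ← mul_assoc, inv_mul_cancel, one_mul]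
    exact hlH
  · rw [← map_inv (π : SL(2, F) →* _) A, ← map_mul (π : SL(2, F) →* _) A⁻¹ B, mul_assoc, ← map_mul (π : SL(2, F) →* _) (A⁻¹ * B), hBg.2, map_mul, π_neg, ← mul_assoc,
      inv_mul_cancel, one_mul]
    exact hlH
  simp only [inv_one, one_mul, mul_one] at hd1
  obtain ⟨D, rfl⟩ := QuotientGroup.mk'_surjective _ d
  have d10 := hup' D hd1
  have hdet := det_eq_one D
  rw [d10, mul_zero, sub_zero] at hdet
  have ha4 := hall' D hd1
  have e2 := hup' (g2⁻¹ * D * g2) (by simpa using hd2)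
  have e3 := hup' (g3⁻¹ * (D⁻¹ * A) * g3) (by simpa using hd3)
  obtain ⟨j0, j1, j2, j3⟩ := inv_val g2
  obtain ⟨k0, k1, k2, k3⟩ := inv_val g3
  obtain ⟨l0, l1, l2, l3⟩ := inv_val D
  simp only [val_mul, j0, j1, j2, j3] at e2
  simp only [val_mul, k0, k1, k2, k3, l0, l1, l2, l3] at e3
  simp only [hA, hg2, hg3, dg, sl00, sl01, sl10, sl11, hi, d10] at e2 e3
  have hb : D.1 0 1 = i * (D.1 1 1 - D.1 0 0) := by linear_combination -e2
  have hsum : D.1 1 1 + D.1 0 0 + i * (D.1 1 1 - D.1 0 0) = 0 := by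
    refine mul_left_cancel₀ hd ?_
    linear_combination -e3 - i * hb
  rcases mul_eq_zero.1 (show (D.1 0 0 ^ 2 - 1) * (D.1 0 0 ^ 2 + 1) = 0 by linear_combination ha4) with h | h
  · have : D.1 1 1 = D.1 0 0 := by linear_combination -D.1 1 1 * h + D.1 0 0 * hdet
    rw [this, sub_self, mul_zero, add_zero, ← two_mul, mul_eq_zero] at hsum
    rcases hsum with h' | h'
    · exact h20 h'
    · rw [h', zero_mul] at hdet; exact zero_ne_one hdet
  · have : D.1 1 1 = -D.1 0 0 := by linear_combination D.1 1 1 * h - D.1 0 0 * hdet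
    rw [this, neg_add_cancel, zero_add, show -D.1 0 0 - D.1 0 0 = 2 * -D.1 0 0 by ring, ← mul_assoc, mul_comm i 2,
      mul_eq_zero] at hsum
    rcases hsum with h' | h'
    · exact h2i h'
    · rw [neg_eq_zero] at h'; rw [h', zero_mul] at hdet; exact zero_ne_one hdet

/-- Translations in odd characteristic. -/
theorem unip_odd {H : Subgroup (PSL₂ F)} (hle : H ≤ uSub) (h20 : (2 : F) ≠ 0) {e : F} (he : e ≠ 0)
    (heH : π (up e) ∈ H) : ¬ Bin H := by
  have h2e : (2 / e : F) ≠ 0 := div_ne_zero h20 he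
  set g2 : SL(2, F) := wy * dg (2 / e) h2e with hg2
  set g3 : SL(2, F) := sl 1 0 (-(2 / e)) 1 (by ring) with hg3
  set B : SL(2, F) := g2 * up (-e) * g2⁻¹ with hB
  have hup : Upper H := upper_of_exists fun g hg => by
    obtain ⟨b, rfl⟩ := hle hg
    exact ⟨_, rfl, by simp [up, sl10]⟩
  have hg : (up e)⁻¹ * g2 * up (-e) * g2⁻¹ = -(g3 * up e * g3⁻¹) := by
    rw [up_inv]
    obtain ⟨i0, i1, i2, i3⟩ := inv_val g2
    obtain ⟨k0, k1, k2, k3⟩ := inv_val g3
    refine ext_four ?_ ?_ ?_ ?_ <;> simp only [val_mul, val_neg, i0, i1, i2, i3, k0, k1, k2, k3] <;>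
      simp [hg2, hg3, val_mul, wy, dg, up, sl00, sl01, sl10, sl11] <;> field_simp <;> ring
  refine not_bin_three H 1 (π g2) (π g3) (π (up e)) (π B) (by simpa using heH) ?_ ?_ fun d hd1 hd2 hd3 => ?_
  · rw [hB, ← π_conj, show (π g2)⁻¹ * (π g2 * π (up (-e)) * (π g2)⁻¹) * π g2 = π (up (-e)) by group, ← up_inv,
      map_inv]
    exact inv_mem heH
  · rw [hB, ← map_inv (π : SL(2, F) →* _) (up e), ← map_mul (π : SL(2, F) →* _) (up e)⁻¹, ← mul_assoc, ← mul_assoc, hg, π_neg, ← π_conj,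
      show (π g3)⁻¹ * (π g3 * π (up e) * (π g3)⁻¹) * π g3 = π (up e) by group]
    exact heH
  simp only [inv_one, one_mul, mul_one] at hd1
  obtain ⟨t, rfl⟩ := hle hd1
  have e2 := hup (g2⁻¹ * up t * g2) (by simpa using hd2)
  have e3 := hup (g3⁻¹ * ((up t)⁻¹ * up e) * g3) (by simpa using hd3)
  obtain ⟨i0, i1, i2, i3⟩ := inv_val g2
  obtain ⟨k0, k1, k2, k3⟩ := inv_val g3
  simp only [val_mul, i0, i1, i2, i3] at e2
  rw [up_inv, up_mul] at e3
  simp only [val_mul, k0, k1, k2, k3] at e3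
  simp [hg2, val_mul, wy, dg, up, sl00, sl01, sl10, sl11] at e2
  simp [hg3, up, sl00, sl01, sl10, sl11, he, h20] at e3
  simp only [h20, he, false_or, or_false] at e2
  subst e2
  exact mul_ne_zero (mul_ne_zero h2e h2e) he (by linear_combination -e3)

section Two

variable [CharP F 2]

/-- A scalar separating a small set from itself. -/
theorem exists_good_one [Fintype F] (S : Finset F) (h : S.card * S.card - S.card + 2 < Fintype.card F) :
    ∃ μ : F, μ ≠ 0 ∧ μ ≠ 1 ∧ ∀ x ∈ S, x ≠ 0 → μ * x ∉ S := by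
  classical
  have h1 := Finset.card_union_le ({0, 1} : Finset F) (S.offDiag.image fun p => p.2 / p.1)
  have h3 : ({0, 1} : Finset F).card ≤ 2 := Finset.card_le_two
  have h4 : (S.offDiag.image fun p => p.2 / p.1).card ≤ S.card * S.card - S.card :=
    Finset.card_image_le.trans (le_of_eq S.offDiag_card)
  obtain ⟨μ, -, hμ⟩ := Finset.exists_mem_notMem_of_card_lt_card
    (show (({0, 1} : Finset F) ∪ S.offDiag.image fun p => p.2 / p.1).card < (Finset.univ : Finset F).card by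
      rw [Finset.card_univ]; omega)
  simp only [Finset.mem_union, Finset.mem_insert, Finset.mem_singleton, Finset.mem_image, not_or] at hμ
  obtain ⟨⟨h0, h1'⟩, hB⟩ := hμ
  refine ⟨μ, h0, h1', fun x hx hx0 hx' => hB ⟨(x, μ * x), Finset.mem_offDiag.2 ⟨hx, hx', fun e => h1' ?_⟩, ?_⟩⟩
  · exact (mul_eq_right₀ hx0).1 e.symm
  · exact mul_div_cancel_right₀ μ hx0

/-- Three scalings of a proper nontrivial additive subgroup without the distributive law. -/
theorem exists_triple_two [Fintype F] (E : AddSubgroup F) (hne : E ≠ ⊥) (htop : E ≠ ⊤) :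
    ∃ c1 c2 c3 : F, c1 ≠ 0 ∧ c2 ≠ 0 ∧ c3 ≠ 0 ∧ ∃ a b : F, c1 * a ∈ E ∧ c2 * b ∈ E ∧ c3 * (a + b) ∈ E ∧
      ∀ d, c1 * d ∈ E → c2 * d ∈ E → c3 * (a - d) ∉ E := by
  classical
  letI := ZMod.algebra F 2
  obtain ⟨E', hE'⟩ : ∃ E' : Submodule (ZMod 2) F, ∀ x, x ∈ E' ↔ x ∈ E :=
    ⟨AddSubgroup.toZModSubmodule 2 E, fun _ => Iff.rfl⟩
  obtain ⟨n, hn⟩ : ∃ n, Module.finrank (ZMod 2) F = n := ⟨_, rfl⟩
  have hF : Fintype.card F = 2 ^ n := by
    rw [Module.card_eq_pow_finrank (K := ZMod 2) (V := F), ZMod.card, hn]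
  obtain ⟨d, hd⟩ : ∃ d, Module.finrank (ZMod 2) E' = d := ⟨_, rfl⟩
  have hdn : d < n := by
    rw [← hd, ← hn]
    refine Submodule.finrank_lt fun h => htop ((AddSubgroup.eq_top_iff' E).2 fun x => (hE' x).1 (h ▸ Submodule.mem_top))
  obtain ⟨w₀, hw₀, hw₀0⟩ : ∃ w ∈ E', w ≠ 0 := by
    obtain ⟨⟨x, hx⟩, hx0⟩ := (AddSubgroup.ne_bot_iff_exists_ne_zero).1 hne
    exact ⟨x, (hE' x).2 hx, fun h => hx0 (Subtype.ext h)⟩
  rcases Nat.lt_or_ge (2 * d) (n + 1) with hsmall | hbig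
  · let S := (Finset.univ.filter fun x : F => x ∈ E').erase 0
    have hc : S.card = 2 ^ d - 1 := by
      show ((Finset.univ.filter fun x : F => x ∈ E').erase 0).card = _
      rw [Finset.card_erase_of_mem (by simp), ← Fintype.card_subtype,
        Module.card_eq_pow_finrank (K := ZMod 2) (V := E'), hd, ZMod.card]
    obtain ⟨μ, h0, h1, hgood⟩ := exists_good_one S (by
      rw [hc, hF]
      have h2 : 2 ^ (2 * d) ≤ 2 ^ n := Nat.pow_le_pow_right two_pos (by omega)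
      have hd1 : 1 ≤ d := by
        rw [← hd, Nat.one_le_iff_ne_zero, ne_eq, Submodule.finrank_eq_zero, ← ne_eq, Submodule.ne_bot_iff]
        exact ⟨w₀, hw₀, hw₀0⟩
      have h3 : 2 ≤ 2 ^ d := Nat.le_self_pow (by omega) 2
      obtain ⟨e, he⟩ : ∃ e, 2 ^ d = e + 1 := ⟨2 ^ d - 1, by omega⟩
      rw [two_mul, pow_add, he] at h2
      rw [he, Nat.add_sub_cancel]
      have hsq : e ≤ e * e := Nat.le_mul_self e
      have : (e + 1) * (e + 1) = e * e + 2 * e + 1 := by ring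
      omega)
    have hmem : ∀ x, x ∈ S ↔ x ≠ 0 ∧ x ∈ E' := fun x => by simp [S]
    have hsep : ∀ x ∈ E', μ * x ∈ E' → x = 0 := fun x hx hx' => by
      by_contra hx0
      exact hgood x ((hmem x).2 ⟨hx0, hx⟩) hx0 ((hmem _).2 ⟨mul_ne_zero h0 hx0, hx'⟩)
    have hone : (1 : F) + μ ≠ 0 := fun e => h1 (by rw [add_comm, CharTwo.add_eq_zero] at e; exact e)
    obtain ⟨w, hw, hwn⟩ : ∃ w ∈ E', (1 + μ)⁻¹ * w ∉ E' := by
      by_contra hall
      push Not at hall
      let f : E' → E' := fun x => ⟨(1 + μ)⁻¹ * x.1, hall x.1 x.2⟩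
      obtain ⟨⟨y, hy⟩, hyw⟩ := (Finite.injective_iff_surjective (f := f)).1 (fun x y h =>
        Subtype.ext (mul_left_cancel₀ (inv_ne_zero hone) (congrArg Subtype.val h))) ⟨w₀, hw₀⟩
      have e : (1 + μ)⁻¹ * y = w₀ := congrArg Subtype.val hyw
      refine hw₀0 (hsep w₀ hw₀ ?_)
      have : μ * w₀ = y + w₀ := by
        rw [← e]; field_simp
        linear_combination (-y) * (CharTwo.two_eq_zero : (2 : F) = 0)
      rw [this]; exact E'.add_mem hy hw₀
    refine ⟨1, μ⁻¹, (1 + μ)⁻¹, one_ne_zero, inv_ne_zero h0, inv_ne_zero hone, w, μ * w, ?_, ?_, ?_,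
      fun z hz1 hz2 hz3 => ?_⟩
    · rw [one_mul]; exact (hE' w).1 hw
    · rw [inv_mul_cancel_left₀ h0]; exact (hE' w).1 hw
    · rw [show w + μ * w = (1 + μ) * w by ring, inv_mul_cancel_left₀ hone]; exact (hE' w).1 hw
    · rw [one_mul] at hz1
      have hz : μ⁻¹ * z = 0 := hsep _ ((hE' _).2 hz2) (by rw [mul_inv_cancel_left₀ h0]; exact (hE' z).2 hz1)
      rw [(mul_eq_zero.1 hz).resolve_left (inv_ne_zero h0), sub_zero] at hz3
      exact hwn ((hE' _).2 hz3)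
  · obtain ⟨c1, c2, c3, u1, u2, u3, a, b, ha, hb, hab, hno⟩ := exists_triple_large E' hn hF hd hdn hbig
    exact ⟨c1, c2, c3, u1, u2, u3, a, b, (hE' _).1 ha, (hE' _).1 hb, (hE' _).1 hab,
      fun z h1 h2 h3 => hno z ((hE' _).2 h1) ((hE' _).2 h2) ((hE' _).2 h3)⟩

/-- A proper subgroup of the translations in characteristic two. -/
theorem unip_two [Fintype F] {H : Subgroup (PSL₂ F)} (hle : H ≤ uSub) (hne : H ≠ ⊥) (htop : H ≠ uSub) :
    ¬ Bin H := by
  let E : AddSubgroup F :=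
    { carrier := {x | π (up x) ∈ H}
      zero_mem' := by show π (up 0) ∈ H; rw [up_zero, map_one]; exact one_mem H
      add_mem' := fun {x y} hx hy => by show π (up (x + y)) ∈ H; rw [← up_mul, map_mul]; exact mul_mem hx hy
      neg_mem' := fun {x} hx => by show π (up (-x)) ∈ H; rw [← up_inv, map_inv]; exact inv_mem hx }
  have hmem : ∀ x, x ∈ E ↔ π (up x) ∈ H := fun x => Iff.rfl
  have hE : E ≠ ⊥ := fun h => hne ((Subgroup.eq_bot_iff_forall H).2 fun g hg => by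
    obtain ⟨x, rfl⟩ := hle hg
    have : x ∈ (⊥ : AddSubgroup F) := h ▸ hg
    rw [AddSubgroup.mem_bot.1 this, up_zero, map_one])
  have hE' : E ≠ ⊤ := fun h => htop (le_antisymm hle fun g ⟨x, hx⟩ => hx ▸ (hmem x).1 (h ▸ AddSubgroup.mem_top x))
  obtain ⟨c1, c2, c3, u1, u2, u3, a, b, ha, hb, hab, hno⟩ := exists_triple_two E hE hE'
  choose r hr using fun x : F => exists_sq x⁻¹
  have hr0 : ∀ {x : F}, x ≠ 0 → r x ≠ 0 := fun {x} hx e => by
    have := hr x
    rw [e, zero_pow two_ne_zero] at this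
    exact inv_ne_zero hx this.symm
  have hsc : ∀ {c : F} (hc : c ≠ 0) (z : F),
      (π (dg (r c) (hr0 hc)))⁻¹ * π (up z) * π (dg (r c) (hr0 hc)) = π (up (c * z)) := fun {c} hc z => by
    rw [← map_inv, ← map_mul, ← map_mul]
    congr 1
    have hz : up z = dg (r c) (hr0 hc) * up (c * z) * (dg (r c) (hr0 hc))⁻¹ := by
      rw [dg_up, hr, inv_mul_cancel_left₀ hc]
    rw [hz]; group
  refine not_bin_three H (π (dg _ (hr0 u1))) (π (dg _ (hr0 u2))) (π (dg _ (hr0 u3))) (π (up a)) (π (up b)) ?_ ?_ ?_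
    fun d hd1 hd2 hd3 => ?_
  · rw [hsc u1]; exact ha
  · rw [hsc u2]; exact hb
  · rw [← map_inv (π : SL(2, F) →* _) (up a), ← map_mul (π : SL(2, F) →* _) (up a)⁻¹, up_inv, CharTwo.neg_eq,
      up_mul, hsc u3]
    exact hab
  obtain ⟨t, ht⟩ := hle hd1
  obtain ⟨z, rfl⟩ : ∃ z, π (up z) = d := ⟨c1⁻¹ * t, by
    have h : π (up (c1 * (c1⁻¹ * t))) = π (up t) := by rw [mul_inv_cancel_left₀ u1]
    rw [← hsc u1, ht] at h
    exact mul_left_cancel (mul_right_cancel h)⟩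
  rw [hsc u1] at hd1; rw [hsc u2] at hd2
  rw [← map_inv (π : SL(2, F) →* _) (up z), ← map_mul (π : SL(2, F) →* _) (up z)⁻¹, up_inv, up_mul, neg_add_eq_sub,
    hsc u3] at hd3
  exact hno z hd1 hd2 hd3

/-- The full group of translations in characteristic two. -/
theorem bin_uSub : Bin (uSub (F := F)) := by
  have hsq : ∀ {a : PSL₂ F}, (∃ c, c⁻¹ * a * c ∈ uSub) → a * a = 1 := by
    rintro a ⟨c, b, hb⟩
    calc a * a = c * ((c⁻¹ * a * c) * (c⁻¹ * a * c)) * c⁻¹ := by group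
      _ = 1 := by rw [← hb, ← map_mul, up_mul, CharTwo.add_self_eq_zero, up_zero, map_one]; group
  refine bin_of_comm _ (fun a b ha hb hab => ?_) (fun h hh h1 y _ hc => ?_) (fun x hx y hy => ?_)
  · have h3 := hsq hab
    rw [inv_eq_of_mul_eq_one_right (hsq ha)] at h3
    show a * b = b * a
    rw [← inv_eq_of_mul_eq_one_right h3, mul_inv_rev, inv_eq_of_mul_eq_one_right (hsq ha),
      inv_eq_of_mul_eq_one_right (hsq hb)]
  · obtain ⟨t, rfl⟩ := hh
    have ht : t ≠ 0 := fun e => h1 (by rw [e, up_zero, map_one])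
    obtain ⟨Y, rfl⟩ := QuotientGroup.mk'_surjective _ y
    have hc' : Commute (up t) Y := π_inj (by simpa using hc.eq)
    obtain ⟨e0, e1, -⟩ := commute_iff.1 hc'
    simp only [up, sl00, sl01, sl10, sl11, mul_zero, sub_self] at e0 e1
    have h10 : Y.1 1 0 = 0 := (mul_eq_zero.1 e0).resolve_left ht
    have h00 : Y.1 0 0 = Y.1 1 1 := sub_eq_zero.1 ((mul_eq_zero.1 e1).resolve_left ht)
    have hd := det_eq_one Y
    rw [h10, mul_zero, sub_zero, ← h00, ← pow_two] at hd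
    have h1' : Y.1 0 0 = 1 := by
      rcases sq_eq_one_iff.1 hd with e | e
      · exact e
      · rw [e, CharTwo.neg_eq]
    refine ⟨Y.1 0 1, congrArg π (ext_four ?_ ?_ ?_ ?_)⟩ <;> simp [up, sl00, sl01, sl10, sl11, h10, h1', ← h00]
  · obtain ⟨a, rfl⟩ := hx
    obtain ⟨b, rfl⟩ := hy
    show π (up a) * π (up b) = π (up b) * π (up a)
    rw [← map_mul, ← map_mul, up_mul, up_mul, add_comm]

end Two

end Cfsg.Lib.PSLBinary
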