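import Cfsg.Agent.PSLBinary.Seven
import Mathlib

/-!
Subgroups of `PSL₂` in odd characteristic isomorphic to `A₄`, `S₄` or `A₅`.
-/

set_option autoImplicit false
set_option linter.unusedSectionVars false
set_option linter.style.haveILetI false

namespace Cfsg.Lib.PSLBinary

open Cfsg.Lib.Suz.Binary Cfsg.Lib.Classical.PSLFour
open scoped MatrixGroups

variable {F : Type*} [Field F] [Fintype F]

local notation "PSL₂" k => Matrix.ProjectiveSpecialLinearGroup (Fin 2) k

theorem card_cast : (Fintype.card F : F) = 0 := FiniteField.cast_card_eq_zero F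

theorem not_square_three (h7 : Fintype.card F = 7) (x : F) : x * x ≠ 3 := by
  intro hx
  have h70 : (7 : F) = 0 := by exact_mod_cast h7 ▸ card_cast (F := F)
  have hx0 : x ≠ 0 := fun e => by
    rw [e, mul_zero] at hx
    exact one_ne_zero (α := F) (by linear_combination (2 : F) * hx + h70)
  have h6 := FiniteField.pow_card_sub_one_eq_one x hx0
  rw [h7] at h6
  norm_num at h6
  exact one_ne_zero (α := F) (by
    linear_combination 3 * h6 - 3 * (x ^ 4 + 3 * x ^ 2 + 9) * hx - 11 * h70)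

theorem four_two (hodd : Odd (Fintype.card F)) {z : PSL₂ F} (hz1 : z ≠ 1) (hz : z * z = 1) :
    ∃ Z : SL(2, F), π Z = z ∧ Z * Z = -1 := by
  obtain ⟨Z, rfl⟩ := QuotientGroup.mk'_surjective _ z
  refine ⟨Z, rfl, (π_one_iff.1 ((map_mul π Z Z).trans hz)).resolve_left fun h => hz1 (π_one_iff.2 ?_)⟩
  exact eq_or_neg hodd h

theorem seven_psl (h7 : Fintype.card F = 7) : Seven (PSL₂ F) := by
  classical
  have hodd : Odd (Fintype.card F) := ⟨3, h7⟩
  refine ⟨four_cent hodd, ?_, Matrix.ProjectiveSpecialLinearGroup.rank_two_simple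
    (by rw [Nat.card_eq_fintype_card, h7]; norm_num), fun u z hu hu3 hz1 hz hc => ?_, fun z hz1 hz => ?_⟩
  · have h : 2 * Nat.card (PSL₂ F) = 336 := Cfsg.Lib.Classical.SmallPSL.card_psl (F := F) h7
    omega
  · obtain ⟨U, hU, hUt⟩ := lift_three hu hu3
    obtain ⟨Z, hZ, hZZ⟩ := four_two hodd hz1 hz
    obtain ⟨c0, c1, c2⟩ := commute_iff.1 (commute_of_π hU hUt (two_ne hodd) (G := Z) (hZ ▸ hc.symm))
    have ht := (sq_iff Z).1 hZZ
    have hd := det_eq_one Z
    have hd' := det_eq_one U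
    rw [ht] at c1 c2 hd
    simp only [tr] at hUt
    refine not_square_three h7 (Z.1 0 0 * (U.1 0 0 - U.1 1 1) + Z.1 0 1 * U.1 1 0 + Z.1 1 0 * U.1 0 1) ?_
    linear_combination (Z.1 0 1 * U.1 1 0 - U.1 0 1 * Z.1 1 0) * c0 +
      (2 * Z.1 0 0 * U.1 1 0 - Z.1 1 0 * (U.1 0 0 - U.1 1 1)) * c1 -
      ((U.1 0 0 - U.1 1 1) ^ 2 + 4 * U.1 0 1 * U.1 1 0) * hd + 4 * hd' - (U.1 0 0 + U.1 1 1 - 1) * hUt
  · obtain ⟨Z, rfl, hZZ⟩ := four_two hodd hz1 hz
    obtain ⟨Y, hY⟩ := conj_to_J hodd hZZ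
    obtain ⟨h₀, hh, hJh, -⟩ := exists_anti (F := F) hodd
    let f : (C : Subgroup SL(2, F)) ⊕ (C : Subgroup SL(2, F)) → PSL₂ F :=
      Sum.elim (fun c => π (Y * c * Y⁻¹)) (fun c => π (Y * (c * h₀) * Y⁻¹))
    have hcov : ∀ x ∈ Subgroup.centralizer ({π Z} : Set (PSL₂ F)), ∃ s, f s = x := by
      intro x hx
      obtain ⟨X, rfl⟩ := QuotientGroup.mk'_surjective _ x
      have hx' := Subgroup.mem_centralizer_singleton_iff.1 hx
      have hX : ∀ e : SL(2, F), Y⁻¹ * X * Y * e ∈ (C : Subgroup SL(2, F)) ↔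
          Y⁻¹ * X * Y * e * J = J * (Y⁻¹ * X * Y * e) := fun e => Subgroup.mem_centralizer_singleton_iff
      have hZJ : Y⁻¹ * Z * Y = J := by rw [← hY]; group
      rcases π_eq_iff.1 ((map_mul π X Z).trans (hx'.trans (map_mul π Z X).symm)) with e | e
      · refine ⟨Sum.inl ⟨Y⁻¹ * X * Y * 1, (hX 1).2 ?_⟩, ?_⟩
        · rw [mul_one, ← hZJ, show Y⁻¹ * X * Y * (Y⁻¹ * Z * Y) = Y⁻¹ * (X * Z) * Y by group,
            show Y⁻¹ * Z * Y * (Y⁻¹ * X * Y) = Y⁻¹ * (Z * X) * Y by group, e]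
        · show π (Y * (Y⁻¹ * X * Y * 1) * Y⁻¹) = π X
          congr 1
          group
      · have hK : J * (Y⁻¹ * X * Y) = -(Y⁻¹ * X * Y * J) := by
          rw [← hZJ, show Y⁻¹ * X * Y * (Y⁻¹ * Z * Y) = Y⁻¹ * (X * Z) * Y by group,
            show Y⁻¹ * Z * Y * (Y⁻¹ * X * Y) = Y⁻¹ * (Z * X) * Y by group, e, mul_neg, neg_mul]
        refine ⟨Sum.inr ⟨Y⁻¹ * X * Y * h₀⁻¹, (hX _).2 ?_⟩, ?_⟩
        · have hi : h₀⁻¹ * J = -(J * h₀⁻¹) := by
            rw [inv_mul_eq_iff_eq_mul, mul_neg, ← mul_assoc, ← neg_mul, eq_mul_inv_iff_mul_eq]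
            exact hJh
          calc Y⁻¹ * X * Y * h₀⁻¹ * J = Y⁻¹ * X * Y * (h₀⁻¹ * J) := mul_assoc _ _ _
            _ = -(Y⁻¹ * X * Y * J * h₀⁻¹) := by rw [hi, mul_neg, ← mul_assoc]
            _ = J * (Y⁻¹ * X * Y * h₀⁻¹) := by rw [← mul_assoc J, hK, neg_mul]
        · show π (Y * (Y⁻¹ * X * Y * h₀⁻¹ * h₀) * Y⁻¹) = π X
          congr 1
          group
    have hle : Nat.card (Subgroup.centralizer ({π Z} : Set (PSL₂ F))) ≤
        Nat.card ((C : Subgroup SL(2, F)) ⊕ (C : Subgroup SL(2, F))) := by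
      choose s hs using fun x : Subgroup.centralizer ({π Z} : Set (PSL₂ F)) => hcov x.1 x.2
      exact Nat.card_le_card_of_injective s fun a b e => Subtype.ext (by rw [← hs a, ← hs b, e])
    rw [Nat.card_sum, (card_C hodd).2 (by rw [h7]), h7] at hle
    exact hle

/-- The normal four group of the symmetric group. -/
def vFour : Subgroup (Equiv.Perm (Fin 4)) where
  carrier := {x | x * x = 1 ∧ Equiv.Perm.sign x = 1}
  one_mem' := ⟨one_mul 1, map_one _⟩
  mul_mem' := fun {x y} hx hy => by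
    have h : ∀ a b : Equiv.Perm (Fin 4), a * a = 1 → Equiv.Perm.sign a = 1 → b * b = 1 → Equiv.Perm.sign b = 1 →
        a * b * (a * b) = 1 := by decide +kernel
    exact ⟨h x y hx.1 hx.2 hy.1 hy.2, by rw [map_mul, hx.2, hy.2, one_mul]⟩
  inv_mem' := fun {x} hx => ⟨by rw [← mul_inv_rev, hx.1, inv_one], by rw [map_inv, hx.2, inv_one]⟩

set_option maxRecDepth 20000 in
theorem vFour_facts :
    Fintype.card {x : Equiv.Perm (Fin 4) // x * x = 1 ∧ Equiv.Perm.sign x = 1} = 4 ∧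
      Fintype.card {x : alternatingGroup (Fin 4) // x * x = 1} = 4 := by decide +kernel

set_option maxRecDepth 20000 in
theorem vFour_trans : ∀ v : alternatingGroup (Fin 4), v * v = 1 → v ≠ 1 → ∀ w : alternatingGroup (Fin 4),
    w * w = 1 → w ≠ 1 → ∃ h : alternatingGroup (Fin 4), h * v * h⁻¹ = w := by decide +kernel

/-- Building the four group data from an isomorphism. -/
theorem fourIn_map {G P : Type*} [Group G] [Group P] {H : Subgroup G} (ψ : H ≃* P) (W : Subgroup P)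
    (hW : Nat.card W = 4) (hsq : ∀ w ∈ W, w * w = 1) (hn : ∀ h, ∀ w ∈ W, h * w * h⁻¹ ∈ W)
    (ht : ∀ v ∈ W, v ≠ 1 → ∀ w ∈ W, w ≠ 1 → ∃ h, h * v * h⁻¹ = w) (h3 : 3 ∣ Nat.card P) :
    FourIn H (W.map (H.subtype.comp ψ.symm.toMonoidHom)) := by
  have hinj : Function.Injective (H.subtype.comp ψ.symm.toMonoidHom) := H.subtype_injective.comp ψ.symm.injective
  refine ⟨?_, by rw [Subgroup.card_map_of_injective hinj, hW], ?_, ?_, ?_, by rwa [Nat.card_congr ψ.toEquiv]⟩
  · rintro _ ⟨w, -, rfl⟩; exact (ψ.symm w).2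
  · rintro _ ⟨w, hw, rfl⟩; rw [← map_mul, hsq w hw, map_one]
  · rintro h hh _ ⟨w, hw, rfl⟩
    exact ⟨_, hn (ψ ⟨h, hh⟩) w hw, by simp⟩
  · rintro _ ⟨v, hv, rfl⟩ hv1 _ ⟨w, hw, rfl⟩ hw1
    obtain ⟨h, e⟩ := ht v hv (fun e => hv1 (by rw [e, map_one])) w hw (fun e => hw1 (by rw [e, map_one]))
    exact ⟨_, (ψ.symm h).2, by rw [← e]; simp⟩

theorem symFour_seven (h7 : Fintype.card F = 7) {H : Subgroup (PSL₂ F)} (ψ : H ≃* Equiv.Perm (Fin 4)) : ¬ Bin H := by
  have htr : ∀ v : Equiv.Perm (Fin 4), v * v = 1 → Equiv.Perm.sign v = 1 → v ≠ 1 → ∀ w : Equiv.Perm (Fin 4),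
      w * w = 1 → Equiv.Perm.sign w = 1 → w ≠ 1 → ∃ h : Equiv.Perm (Fin 4), h * v * h⁻¹ = w := by decide +kernel
  refine seven_symFour (seven_psl h7) (fourIn_map ψ vFour ?_ (fun w hw => hw.1) (fun h w hw => ⟨?_, ?_⟩)
    (fun v hv hv1 w hw hw1 => htr v hv.1 hv.2 hv1 w hw.1 hw.2 hw1) ?_) ?_
  · rw [show Nat.card vFour = Nat.card {x : Equiv.Perm (Fin 4) // x * x = 1 ∧ Equiv.Perm.sign x = 1} from rfl,
      Nat.card_eq_fintype_card, vFour_facts.1]
  · rw [show h * w * h⁻¹ * (h * w * h⁻¹) = h * (w * w) * h⁻¹ by group, hw.1]; group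
  · rw [map_mul, map_mul, hw.2, mul_one, map_inv, mul_inv_cancel]
  · rw [Nat.card_perm, Nat.card_fin]; decide
  · rw [Nat.card_congr ψ.toEquiv, Nat.card_perm, Nat.card_fin]; rfl

set_option maxRecDepth 20000 in
theorem altFour_seven (h7 : Fintype.card F = 7) {H : Subgroup (PSL₂ F)} (ψ : H ≃* alternatingGroup (Fin 4)) :
    ¬ Bin H := by
  classical
  have hodd : Odd (Fintype.card F) := ⟨3, h7⟩
  have h70 : (7 : F) = 0 := by exact_mod_cast h7 ▸ card_cast (F := F)
  have h30 : (3 : F) ≠ 0 := fun h => one_ne_zero (α := F) (by linear_combination h70 - 2 * h)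
  let W : Subgroup (alternatingGroup (Fin 4)) :=
    { carrier := {x | x * x = 1}
      one_mem' := one_mul 1
      mul_mem' := fun {x y} hx hy => by
        have h : ∀ a b : alternatingGroup (Fin 4), a * a = 1 → b * b = 1 → a * b * (a * b) = 1 := by decide +kernel
        exact h x y hx hy
      inv_mem' := fun {x} hx => by
        show x⁻¹ * x⁻¹ = 1
        rw [← mul_inv_rev, show x * x = 1 from hx, inv_one] }
  have hH : Nat.card H = 12 := by
    rw [Nat.card_congr ψ.toEquiv, nat_card_alternatingGroup, Nat.card_fin]; rfl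
  have T := fourIn_map ψ W (by
      rw [show Nat.card W = Nat.card {x : alternatingGroup (Fin 4) // x * x = 1} from rfl, Nat.card_eq_fintype_card,
        vFour_facts.2]) (fun w hw => hw) (fun h w hw => by
      show h * w * h⁻¹ * (h * w * h⁻¹) = 1
      rw [show h * w * h⁻¹ * (h * w * h⁻¹) = h * (w * w) * h⁻¹ by group, show w * w = 1 from hw]; group)
    (fun v hv hv1 w hw hw1 => vFour_trans v hv hv1 w hw hw1)
    (by rw [nat_card_alternatingGroup, Nat.card_fin]; decide)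
  have hti := fun {g x : PSL₂ F} (hx : x ∈ H) (hx1 : x ≠ 1) (hg : g⁻¹ * x * g ∈ H) =>
    seven_ti (seven_psl h7) T hH (fun x hx hx2 => ⟨ψ ⟨x, hx⟩, show ψ ⟨x, hx⟩ * ψ ⟨x, hx⟩ = 1 by
        rw [← map_mul, ← map_one ψ]; exact congrArg ψ (Subtype.ext hx2), by simp⟩)
      (fun x hx hx2 => by
        have h : ∀ a : alternatingGroup (Fin 4), a * a ≠ 1 → a ^ 3 = 1 := by decide +kernel
        have e := h (ψ ⟨x, hx⟩) (fun e => hx2 (by
          rw [← map_mul, ← map_one ψ] at e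
          exact congrArg Subtype.val (ψ.injective e)))
        rw [← map_pow, ← map_one ψ] at e
        exact congrArg Subtype.val (ψ.injective e)) hx hx1 hg
  -- the three elements
  have h8 : (2 : F) * 4 - 0 * 0 = 1 := by linear_combination h70
  have h8' : (4 : F) * 2 - 1 * 0 = 1 := by linear_combination h70
  set A : SL(2, F) := sl 2 0 0 4 h8 with hA
  set B : SL(2, F) := sl 4 1 0 2 h8' with hB
  set l : H := ψ.symm a4
  have hl1 : (l : PSL₂ F) ≠ 1 := fun h => by
    have : a4 = 1 := ψ.symm.injective ((Subtype.ext h).trans (map_one ψ.symm).symm)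
    revert this; decide +kernel
  have hl3 : (l : PSL₂ F) ^ 3 = 1 := by
    rw [← Subgroup.coe_pow, ← map_pow, show a4 ^ 3 = 1 by decide +kernel, map_one, Subgroup.coe_one]
  obtain ⟨L, hL, hLt⟩ := lift_three hl1 hl3
  have hconj : ∀ {X : SL(2, F)}, tr X = -1 → ∃ g : PSL₂ F, g⁻¹ * π X * g ∈ H := fun {X} hX => by
    obtain ⟨g, e⟩ := isConj_iff.1 (π_conj_of_tr (s := L)
      (by rw [hLt]; intro e; exact h30 (by linear_combination -e)) (Or.inl (hX.trans hLt.symm)))
    exact ⟨g, by rw [← e, hL, show g⁻¹ * (g * (l : PSL₂ F) * g⁻¹) * g = l by group]; exact l.2⟩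
  obtain ⟨g1, e1⟩ := hconj (X := A) (by simp [hA, tr, sl00, sl11]; linear_combination h70)
  obtain ⟨g2, e2⟩ := hconj (X := B) (by simp [hB, tr, sl00, sl11]; linear_combination h70)
  obtain ⟨g3, e3⟩ := hconj (X := A⁻¹ * B) (by
    obtain ⟨i0, i1, i2, i3⟩ := inv_val A
    simp only [tr, val_mul, i0, i1, i2, i3]
    simp [hA, hB, sl00, sl01, sl10, sl11]
    linear_combination 3 * h70)
  rw [map_mul, map_inv] at e3
  have hBA : B * A = up 4 := by
    refine ext_four ?_ ?_ ?_ ?_ <;> simp [val_mul, hA, hB, up, sl00, sl01, sl10, sl11] <;>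
      first | ring1 | linear_combination h70
  have hno7 : ∀ g, g⁻¹ * π (up (4 : F)) * g ∉ H := fun g hg => by
    have h12 := pow_card_eq_one' (x := (⟨_, hg⟩ : H))
    rw [hH] at h12
    have e := congrArg Subtype.val h12
    simp only [Subgroup.coe_pow, Subgroup.coe_one] at e
    rw [show g⁻¹ * π (up (4 : F)) * g = MulAut.conj g⁻¹ (π (up 4)) by simp, ← map_pow,
      MulEquiv.map_eq_one_iff] at e
    have hp : ∀ n : ℕ, π (up (4 : F)) ^ n = π (up ((n : F) * 4)) := fun n => by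
      induction n with
      | zero => simp [up_zero]
      | succ n ih => rw [pow_succ, ih, ← map_mul, up_mul]; congr 2; push_cast; ring
    rw [hp, ← map_one π, ← up_zero] at e
    exact one_ne_zero (α := F) (by
      have := up_injective e
      push_cast at this
      linear_combination 7 * h70 - this)
  have hsame : ∀ {g g' x y : PSL₂ F}, x ≠ 1 → g⁻¹ * x * g ∈ H → g'⁻¹ * x * g' ∈ H → g⁻¹ * y * g ∈ H →
      g'⁻¹ * y * g' ∈ H := fun {g g' x y} hx h1 h2 h3 => by
    have := hti (g := g⁻¹ * g') h1 (fun e => hx (by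
      calc x = g * (g⁻¹ * x * g) * g⁻¹ := by group
        _ = 1 := by rw [e]; group)) (by simpa [mul_assoc] using h2) _ h3
    simpa [mul_assoc] using this
  refine not_bin_three H g1 g2 g3 (π A) (π B) e1 e2 e3 fun d hd1 hd2 hd3 => ?_
  by_cases hd : d = 1
  · rw [hd, inv_one, one_mul] at hd3
    refine hno7 g3 ?_
    rw [← hBA, map_mul, show π B * π A = π A * ((π A)⁻¹ * π B) * π A by group,
      show g3⁻¹ * (π A * ((π A)⁻¹ * π B) * π A) * g3 =
        (g3⁻¹ * π A * g3) * (g3⁻¹ * ((π A)⁻¹ * π B) * g3) * (g3⁻¹ * π A * g3) by group]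
    exact mul_mem (mul_mem hd3 e3) hd3
  · refine hno7 g2 ?_
    rw [← hBA, map_mul, show g2⁻¹ * (π B * π A) * g2 = (g2⁻¹ * π B * g2) * (g2⁻¹ * π A * g2) by group]
    exact mul_mem e2 (hsame hd hd1 hd2 e1)

theorem two_not_square (hq : Fintype.card F = 11 ∨ Fintype.card F = 13) (x : F) : x * x ≠ 2 := by
  intro hx
  have h0 := card_cast (F := F)
  have hx0 : x ≠ 0 := fun e => by
    rw [e, mul_zero] at hx
    rcases hq with h | h <;> rw [h] at h0 <;> push_cast at h0
    · exact one_ne_zero (α := F) (by linear_combination h0 + 5 * hx)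
    · exact one_ne_zero (α := F) (by linear_combination h0 + 6 * hx)
  have h := FiniteField.pow_card_sub_one_eq_one x hx0
  have hc : ∀ k : ℕ, x ^ (2 * k) = 2 ^ k := fun k => by rw [pow_mul, pow_two, hx]
  rcases hq with e | e <;> rw [e] at h h0 <;> push_cast at h0
  · have h' : (2 : F) ^ 5 = 1 := by rw [← hc]; exact h
    exact one_ne_zero (α := F) (by linear_combination 5 * h' - 14 * h0)
  · have h' : (2 : F) ^ 6 = 1 := by rw [← hc]; exact h
    exact one_ne_zero (α := F) (by linear_combination 6 * h' - 29 * h0)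

theorem big_card (hodd : Odd (Fintype.card F)) (h4 : 4 ≤ Fintype.card F) (h5 : Fintype.card F ≠ 5)
    (h7 : Fintype.card F ≠ 7) (h11 : Fintype.card F ≠ 11) (h13 : Fintype.card F ≠ 13) :
    17 ≤ Fintype.card F ∨ (9 ≤ Fintype.card F ∧ (3 : F) = 0) := by
  have h0 := card_cast (F := F)
  rcases Nat.lt_or_ge (Fintype.card F) 17 with hlt | hge
  swap
  · exact Or.inl hge
  obtain ⟨k, hk⟩ := hodd
  rcases (by omega : Fintype.card F = 9 ∨ Fintype.card F = 15) with e | e
  · rw [e] at h0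
    push_cast at h0
    exact Or.inr ⟨e.ge, mul_self_eq_zero.1 (show (3 : F) * 3 = 0 by linear_combination h0)⟩
  · exfalso
    obtain ⟨p, -, n, hp, hc⟩ := FiniteField.card' F
    rw [e] at hc
    have hn : (n : ℕ) ≠ 0 := n.pos.ne'
    have h3 : p = 3 := ((Nat.prime_dvd_prime_iff_eq Nat.prime_three hp).1
      (Nat.prime_three.dvd_of_dvd_pow (hc ▸ (by norm_num : 3 ∣ 15)))).symm
    have h5' : p = 5 := ((Nat.prime_dvd_prime_iff_eq (by norm_num) hp).1
      ((by norm_num : Nat.Prime 5).dvd_of_dvd_pow (hc ▸ (by norm_num : 5 ∣ 15)))).symm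
    omega

set_option maxRecDepth 20000 in
theorem altFour_case (hodd : Odd (Fintype.card F)) (h4 : 4 ≤ Fintype.card F) (h5 : Fintype.card F ≠ 5)
    {H : Subgroup (PSL₂ F)} (ψ : H ≃* alternatingGroup (Fin 4)) : ¬ Bin H := by
  by_cases h7 : Fintype.card F = 7
  · exact altFour_seven h7 ψ
  have h9 : 9 ≤ Fintype.card F := by obtain ⟨k, hk⟩ := hodd; omega
  have hl1 : ((ψ.symm a4 : H) : PSL₂ F) ≠ 1 := fun h => by
    have : a4 = 1 := ψ.symm.injective ((Subtype.ext h).trans (map_one ψ.symm).symm)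
    revert this; decide +kernel
  have hl3 : ((ψ.symm a4 : H) : PSL₂ F) ^ 3 = 1 := by
    rw [← Subgroup.coe_pow, ← map_pow, show a4 ^ 3 = 1 by decide +kernel, map_one, Subgroup.coe_one]
  obtain ⟨g, hg, g1, g2, g3⟩ := exists_cent hodd h9 hl1 hl3
  refine altFour (four_cent hodd) ψ hg fun hgH => ?_
  have hd : ∀ x : alternatingGroup (Fin 4), x * a4 = a4 * x → x = 1 ∨ x = a4 ∨ x = a4⁻¹ := by decide +kernel
  rcases hd (ψ ⟨g, hgH⟩) (by
    rw [← ψ.apply_symm_apply a4, ← map_mul, ← map_mul]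
    exact congrArg ψ (Subtype.ext hg.eq)) with e | e | e
  · exact g1 (congrArg Subtype.val (ψ.injective (e.trans (map_one ψ).symm)))
  · refine g2 (congrArg Subtype.val (show (⟨g, hgH⟩ : H) = ψ.symm a4 by rw [← e, ψ.symm_apply_apply]))
  · refine g3 ?_
    rw [← Subgroup.coe_inv, ← map_inv]
    exact congrArg Subtype.val (show (⟨g, hgH⟩ : H) = ψ.symm a4⁻¹ by rw [← e, ψ.symm_apply_apply])

set_option maxRecDepth 20000 in
theorem symFour_case (hodd : Odd (Fintype.card F)) (h4 : 4 ≤ Fintype.card F) (h5 : Fintype.card F ≠ 5)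
    {H : Subgroup (PSL₂ F)} (ψ : H ≃* Equiv.Perm (Fin 4)) : ¬ Bin H := by
  by_cases h7 : Fintype.card F = 7
  · exact symFour_seven h7 ψ
  have hne : Fintype.card F ≠ 11 ∧ Fintype.card F ≠ 13 := by
    by_contra h
    have hc : Fintype.card F = 11 ∨ Fintype.card F = 13 := by omega
    set t : Equiv.Perm (Fin 4) := Equiv.swap 0 1 * Equiv.swap 1 2 * Equiv.swap 2 3
    have ht : t * t ≠ 1 ∧ t * t * (t * t) = 1 := by decide +kernel
    obtain ⟨T, hT⟩ := QuotientGroup.mk'_surjective _ ((ψ.symm t : H) : PSL₂ F)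
    have hz1 : π (T * T) ≠ 1 := fun e => ht.1 (ψ.symm.injective (Subtype.ext (by
      rw [map_mul, map_one, Subgroup.coe_mul, Subgroup.coe_one, ← hT]
      exact (map_mul π T T).symm.trans e)))
    have hz2 : π (T * T) * π (T * T) = 1 := by
      have := congrArg (fun z => ((ψ.symm z : H) : PSL₂ F)) ht.2
      simp only [map_mul, map_one, Subgroup.coe_mul, Subgroup.coe_one, ← hT] at this
      rw [map_mul]; exact this
    obtain ⟨Z, hZ, hZZ⟩ := four_two hodd hz1 hz2
    have htr : tr (T * T) = 0 := by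
      have h0 : tr Z = 0 := by rw [tr, (sq_iff Z).1 hZZ]; ring
      rcases π_eq_iff.1 hZ with e | e <;> rw [e]
      · exact h0
      · rw [tr_neg, h0, neg_zero]
    refine two_not_square hc (tr T) ?_
    have hd := det_eq_one T
    simp only [tr, val_mul] at htr ⊢
    linear_combination htr + 2 * hd
  have hbig := big_card hodd h4 h5 h7 hne.1 hne.2
  have hl1 : ((ψ.symm c4 : H) : PSL₂ F) ≠ 1 := fun h => by
    have : c4 = 1 := ψ.symm.injective ((Subtype.ext h).trans (map_one ψ.symm).symm)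
    revert this; decide +kernel
  have hl3 : ((ψ.symm c4 : H) : PSL₂ F) ^ 3 = 1 := by
    rw [← Subgroup.coe_pow, ← map_pow, show c4 ^ 3 = 1 by decide +kernel, map_one, Subgroup.coe_one]
  obtain ⟨g, hg, g1, g2, g3⟩ := exists_cent_sq hodd hbig hl1 hl3
  refine symFour (four_cent hodd) ψ hg (fun hgH => ?_) fun t ht1 ht2 htl => ?_
  · have hd : ∀ x : Equiv.Perm (Fin 4), x * c4 = c4 * x → x = 1 ∨ x = c4 ∨ x = c4⁻¹ := by decide +kernel
    rcases hd (ψ ⟨g * g, hgH⟩) (by
      rw [← ψ.apply_symm_apply c4, ← map_mul, ← map_mul]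
      exact congrArg ψ (Subtype.ext (hg.mul_left hg).eq)) with e | e | e
    · exact g1 (congrArg Subtype.val (ψ.injective (e.trans (map_one ψ).symm)))
    · exact g2 (congrArg Subtype.val (show (⟨g * g, hgH⟩ : H) = ψ.symm c4 by rw [← e, ψ.symm_apply_apply]))
    · refine g3 ?_
      rw [← Subgroup.coe_inv, ← map_inv]
      exact congrArg Subtype.val (show (⟨g * g, hgH⟩ : H) = ψ.symm c4⁻¹ by rw [← e, ψ.symm_apply_apply])
  · refine inverts_cent hodd hl1 hl3 ?_ ?_ hg
    · rw [← Subgroup.coe_inv, ← map_inv, ← htl, map_mul, map_mul]; rfl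
    · rw [← Subgroup.coe_mul, ← map_mul, ht2, map_one, Subgroup.coe_one]

set_option maxRecDepth 20000 in
theorem altFive_case (hodd : Odd (Fintype.card F)) (h4 : 4 ≤ Fintype.card F) (h5 : Fintype.card F ≠ 5)
    {H : Subgroup (PSL₂ F)} (ψ : H ≃* alternatingGroup (Fin 5)) : ¬ Bin H := by
  have hH : Nat.card H = 60 := by
    rw [Nat.card_congr ψ.toEquiv, nat_card_alternatingGroup, Nat.card_fin]; rfl
  have hG : ∀ q, Fintype.card F = q → Nat.gcd 2 (q - 1) * Nat.card (PSL₂ F) = q * (q ^ 2 - 1) := fun q hq =>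
    Cfsg.Lib.Classical.SmallPSL.card_psl hq
  have hdvd := hH ▸ Subgroup.card_subgroup_dvd_card H
  have h7 : Fintype.card F ≠ 7 := fun e => by
    have := hG 7 e
    rw [show Nat.gcd 2 (7 - 1) = 2 from rfl] at this
    norm_num at this
    omega
  have h13 : Fintype.card F ≠ 13 := fun e => by
    have := hG 13 e
    rw [show Nat.gcd 2 (13 - 1) = 2 from rfl] at this
    norm_num at this
    omega
  have hl1 : ((ψ.symm a5 : H) : PSL₂ F) ≠ 1 := fun h => by
    have : a5 = 1 := ψ.symm.injective ((Subtype.ext h).trans (map_one ψ.symm).symm)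
    revert this; decide +kernel
  have hl3 : ((ψ.symm a5 : H) : PSL₂ F) ^ 3 = 1 := by
    rw [← Subgroup.coe_pow, ← map_pow, show a5 ^ 3 = 1 by decide +kernel, map_one, Subgroup.coe_one]
  have hd : ∀ x : alternatingGroup (Fin 5), x * a5 = a5 * x → x = 1 ∨ x = a5 ∨ x = a5⁻¹ := by decide +kernel
  have hmem : ∀ g : PSL₂ F, Commute g (ψ.symm a5 : H) → g ≠ 1 → g ≠ (ψ.symm a5 : H) →
      g ≠ ((ψ.symm a5 : H) : PSL₂ F)⁻¹ → g ∉ H := fun g hg g1 g2 g3 hgH => by
    rcases hd (ψ ⟨g, hgH⟩) (by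
      rw [← ψ.apply_symm_apply a5, ← map_mul, ← map_mul]
      exact congrArg ψ (Subtype.ext hg.eq)) with e | e | e
    · exact g1 (congrArg Subtype.val (ψ.injective (e.trans (map_one ψ).symm)))
    · exact g2 (congrArg Subtype.val (show (⟨g, hgH⟩ : H) = ψ.symm a5 by rw [← e, ψ.symm_apply_apply]))
    · refine g3 ?_
      rw [← Subgroup.coe_inv, ← map_inv]
      exact congrArg Subtype.val (show (⟨g, hgH⟩ : H) = ψ.symm a5⁻¹ by rw [← e, ψ.symm_apply_apply])
  by_cases h11 : Fintype.card F = 11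
  · obtain ⟨g, hg, g1, g2, g3⟩ := exists_cent hodd (by omega) hl1 hl3
    have hgH := hmem g hg g1 g2 g3
    refine altFive (four_cent hodd) ψ hg hgH (Or.inr ?_)
    by_contra hall
    push Not at hall
    have hGc : Nat.card (PSL₂ F) = 660 := by
      have := hG 11 h11
      rw [show Nat.gcd 2 (11 - 1) = 2 from rfl] at this
      norm_num at this
      omega
    set N := Subgroup.normalizer (H : Set (PSL₂ F))
    have hgN : g⁻¹ ∈ N := Subgroup.mem_normalizer_fintype fun x hx => by simpa using hall x hx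
    have hle : H ≤ N := Subgroup.le_normalizer
    obtain ⟨k, hk⟩ := hH ▸ Subgroup.card_dvd_of_le hle
    have hdvdN := hGc ▸ Subgroup.card_subgroup_dvd_card N
    rw [hk, show 660 = 60 * 11 from rfl] at hdvdN
    rcases (Nat.dvd_prime (by norm_num : Nat.Prime 11)).1 (Nat.dvd_of_mul_dvd_mul_left (by norm_num) hdvdN) with
      rfl | rfl
    · refine hgH ?_
      rw [show H = N from Subgroup.eq_of_le_of_card_ge hle (by rw [hk, hH])]
      simpa using inv_mem hgN
    · have hn : H.Normal := Subgroup.normalizer_eq_top_iff.1 (Subgroup.eq_top_of_card_eq _ (by rw [hk, hGc]))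
      haveI := Matrix.ProjectiveSpecialLinearGroup.rank_two_simple (F := F) (by rwa [Nat.card_eq_fintype_card])
      rcases hn.eq_bot_or_eq_top with e | e
      · rw [e, Subgroup.card_bot] at hH; omega
      · rw [e, Subgroup.card_top, hGc] at hH; omega
  · obtain ⟨g, hg, g1, g2, g3⟩ := exists_cent_sq hodd (big_card hodd h4 h5 h7 h11 h13) hl1 hl3
    have := hmem _ (hg.mul_left hg) g1 g2 g3
    exact altFive (four_cent hodd) ψ hg (fun h => this (mul_mem h h)) (Or.inl this)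

end Cfsg.Lib.PSLBinary
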