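import Cfsg.Agent.PSLBinary.Upper
import Cfsg.Agent.Classical.Misc.PSLRat
import Cfsg.Agent.Classical.Misc.PSLBounds
import Cfsg.Agent.Classical.Misc.SmallPSL
import Mathlib

/-!
Cosets of the subgroups over a subfield.
-/

set_option autoImplicit false
set_option linter.unusedSectionVars false
set_option linter.style.haveILetI false

namespace Cfsg.Lib.PSLBinary

open Cfsg.Lib.Suz.Binary Cfsg.Lib.Classical.PSLFour Cfsg.Lib.Classical.PSLEmbed
open scoped MatrixGroups

variable {F : Type*} [Field F] [Fintype F] {K : Type*} [Field K] [Fintype K]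

local notation "PSL₂" k => Matrix.ProjectiveSpecialLinearGroup (Fin 2) k

open Cfsg.Lib.Classical in
theorem card_psl_le_pgl : Nat.card (PSL₂ K) ≤ Nat.card (Matrix.ProjGenLinGroup (Fin 2) K) := by
  have h := SmallPSL.card_psl (F := K) rfl
  rw [PSLBounds.card_pgl_two, ← h]
  exact Nat.le_mul_of_pos_left _ (Nat.gcd_pos_of_pos_left _ two_pos)

open Cfsg.Lib.Classical in
theorem card_psl_two_le_pgl (hK : Odd (Fintype.card K)) :
    Nat.card (Matrix.ProjGenLinGroup (Fin 2) K) = 2 * Nat.card (PSL₂ K) := by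
  have h := SmallPSL.card_psl (F := K) rfl
  rw [PSLBounds.card_pgl_two, ← h]
  congr 1
  obtain ⟨m, hm⟩ := hK
  rw [hm, show 2 * m + 1 - 1 = 2 * m by omega, Nat.gcd_mul_right_right]

variable (φ : K →+* F)

/-- The rational elements of determinant class one form at least half of all rational elements. -/
theorem rat_cases {x y : PSL₂ F} (hx : x ∈ Cfsg.Lib.Classical.PSLRat.rat φ)
    (hy : y ∈ Cfsg.Lib.Classical.PSLRat.rat φ) :
    x ∈ (pslMap φ).range ∨ y ∈ (pslMap φ).range ∨ x⁻¹ * y ∈ (pslMap φ).range := by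
  classical
  have key : ∀ s : SL(2, F), ∀ ρ : F, ρ ≠ 0 → (∀ r c, ∃ e : K, s.1 r c * ρ = φ e) →
      ∃ δ : K, δ ≠ 0 ∧ φ δ = ρ * ρ ∧ (IsSquare δ → π s ∈ (pslMap φ).range) := by
    intro s ρ hρ hs
    choose M hM using hs
    have hdet : φ (M 0 0 * M 1 1 - M 0 1 * M 1 0) = ρ * ρ := by
      rw [map_sub, map_mul, map_mul, ← hM, ← hM, ← hM, ← hM]
      linear_combination ρ * ρ * det_eq_one s
    refine ⟨_, fun e => hρ (mul_self_eq_zero.1 (by rw [← hdet, e, map_zero])), hdet, fun ⟨e, he⟩ => ?_⟩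
    have he0 : e ≠ 0 := fun h => hρ (mul_self_eq_zero.1 (by rw [← hdet, he, h, mul_zero, map_zero]))
    have hfe : φ e ≠ 0 := (map_ne_zero φ).2 he0
    refine ⟨π (sl (M 0 0 / e) (M 0 1 / e) (M 1 0 / e) (M 1 1 / e) ?_), ?_⟩
    · field_simp
      linear_combination he
    · rw [pslMap_π, π_eq_iff]
      rcases mul_self_eq_mul_self_iff.1 (show φ e * φ e = ρ * ρ by rw [← map_mul, ← he, hdet]) with h | h
      · left
        refine ext_four ?_ ?_ ?_ ?_ <;> simp [slMap_apply, sl00, sl01, sl10, sl11, ← hM, h] <;> field_simp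
      · right
        refine ext_four ?_ ?_ ?_ ?_ <;> simp [slMap_apply, val_neg, sl00, sl01, sl10, sl11, ← hM, h] <;>
          field_simp
  obtain ⟨s, ρ, hρ, rfl, hs⟩ := hx
  obtain ⟨t, σ, hσ, rfl, ht⟩ := hy
  obtain ⟨δ, hδ, eδ, h1⟩ := key s ρ hρ hs
  obtain ⟨ε, hε, eε, h2⟩ := key t σ hσ ht
  by_cases hs1 : IsSquare δ
  · exact Or.inl (h1 hs1)
  by_cases ht1 : IsSquare ε
  · exact Or.inr (Or.inl (h2 ht1))
  right; right
  choose M hM using hs
  choose N hN using ht
  obtain ⟨ζ, hζ, eζ, h3⟩ := key (s⁻¹ * t) (ρ * σ) (mul_ne_zero hρ hσ) (fun r c => by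
    obtain ⟨i0, i1, i2, i3⟩ := inv_val s
    fin_cases r <;> fin_cases c <;> simp only [val_mul]
    · exact ⟨M 1 1 * N 0 0 - M 0 1 * N 1 0, by
        simp [i0, i1, map_sub, map_mul, ← hM, ← hN]; ring⟩
    · exact ⟨M 1 1 * N 0 1 - M 0 1 * N 1 1, by
        simp [i0, i1, map_sub, map_mul, ← hM, ← hN]; ring⟩
    · exact ⟨M 0 0 * N 1 0 - M 1 0 * N 0 0, by
        simp [i2, i3, map_sub, map_mul, ← hM, ← hN]; ring⟩
    · exact ⟨M 0 0 * N 1 1 - M 1 0 * N 0 1, by
        simp [i2, i3, map_sub, map_mul, ← hM, ← hN]; ring⟩)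
  rw [← map_inv, ← map_mul]
  refine h3 ?_
  have e : ζ = δ * ε := φ.injective (by rw [eζ, map_mul, eδ, eε]; ring)
  rw [e]
  rw [← quadraticChar_one_iff_isSquare (mul_ne_zero hδ hε), map_mul,
    quadraticChar_neg_one_iff_not_isSquare.2 hs1, quadraticChar_neg_one_iff_not_isSquare.2 ht1]
  norm_num

theorem rat_card : Nat.card (Cfsg.Lib.Classical.PSLRat.rat φ) ≤ 2 * Nat.card (PSL₂ K) := by
  classical
  set R := Cfsg.Lib.Classical.PSLRat.rat φ with hR
  set W := (pslMap φ).range with hW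
  have hWc : Nat.card W = Nat.card (PSL₂ K) :=
    (Nat.card_congr (MonoidHom.ofInjective (pslMap_injective φ)).toEquiv).symm
  by_cases hall : ∀ x ∈ R, x ∈ W
  · exact (Subgroup.card_le_of_le hall).trans (by rw [hWc]; exact Nat.le_mul_of_pos_left _ two_pos)
  push Not at hall
  obtain ⟨x, hx, hxW⟩ := hall
  let f : R → W ⊕ W := fun y =>
    if h : (y : PSL₂ F) ∈ W then Sum.inl ⟨y, h⟩
    else Sum.inr ⟨x⁻¹ * y, ((rat_cases φ hx y.2).resolve_left hxW).resolve_left h⟩
  have hf : Function.Injective f := by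
    intro a b e
    simp only [f] at e
    split_ifs at e <;> simp at e <;> first | exact e | exact Subtype.ext e
  have := Nat.card_le_card_of_injective f hf
  rw [Nat.card_sum, hWc] at this
  omega

variable {φ} {H : Subgroup (PSL₂ F)}

theorem range_le (h4 : 4 ≤ Fintype.card K) (hle : H ≤ Cfsg.Lib.Classical.PSLRat.rat φ)
    (hcard : Nat.card (PSL₂ K) ≤ Nat.card H) : (pslMap φ).range ≤ H := by
  have hW : (pslMap φ).range ≤ Cfsg.Lib.Classical.PSLRat.rat φ := by
    rintro _ ⟨k, rfl⟩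
    obtain ⟨s, rfl⟩ := QuotientGroup.mk'_surjective _ k
    exact ⟨slMap φ s, 1, one_ne_zero, (pslMap_π φ s).symm, fun r c => ⟨s.1 r c, by rw [mul_one, slMap_apply]⟩⟩
  haveI := Matrix.ProjectiveSpecialLinearGroup.rank_two_simple (F := K) (by rwa [Nat.card_eq_fintype_card])
  have hne : H.relIndex (Cfsg.Lib.Classical.PSLRat.rat φ) ≠ 0 := Subgroup.index_ne_zero_of_finite
  have h2 : (H.comap (pslMap φ)).index ≤ 2 := by
    rw [Subgroup.index_comap]
    refine (Subgroup.relIndex_le_of_le_right hW hne).trans ?_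
    refine Nat.le_of_mul_le_mul_left ?_ (Nat.card_pos (α := H))
    have hmul := Subgroup.relIndex_mul_relIndex (⊥ : Subgroup (PSL₂ F)) H (Cfsg.Lib.Classical.PSLRat.rat φ) bot_le hle
    rw [Subgroup.relIndex_bot_left, Subgroup.relIndex_bot_left] at hmul
    rw [hmul]
    exact (rat_card φ).trans (by omega)
  have htop : H.comap (pslMap φ) = ⊤ := by
    rcases (by have := Subgroup.index_ne_zero_of_finite (H := H.comap (pslMap φ)); omega :
      (H.comap (pslMap φ)).index = 1 ∨ (H.comap (pslMap φ)).index = 2) with h | h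
    · exact Subgroup.index_eq_one.1 h
    · rcases (Subgroup.normal_of_index_eq_two h).eq_bot_or_eq_top with e | e
      · rw [e, Subgroup.index_bot] at h
        have := Cfsg.Lib.Classical.SmallPSL.card_psl (F := K) rfl
        rw [h] at this
        have hg : Nat.gcd 2 (Fintype.card K - 1) ≤ 2 := Nat.gcd_le_left _ two_pos
        have : 15 ≤ Fintype.card K ^ 2 - 1 := by
          have : 4 ^ 2 ≤ Fintype.card K ^ 2 := Nat.pow_le_pow_left h4 2
          omega
        nlinarith
      · exact e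
  rintro _ ⟨k, rfl⟩
  exact (htop ▸ Subgroup.mem_top k : k ∈ H.comap (pslMap φ))

/-- A subfield subgroup with a rational torus element of order at least three. -/
theorem subfield_four (h4 : 4 ≤ Fintype.card K) (hq : Fintype.card K ^ 2 ≤ Fintype.card F)
    (hle : H ≤ Cfsg.Lib.Classical.PSLRat.rat φ) (hW : (pslMap φ).range ≤ H) {l : F} {hl0 : l ≠ 0}
    (hl : π (dg l hl0) ∈ H) (hl4 : l ^ 4 ≠ 1) : ¬ Bin H := by
  classical
  obtain ⟨κ, hκ0, hκ⟩ : ∃ κ : F, κ ≠ 0 ∧ ∀ k : K, κ ^ 4 ≠ φ k := by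
    by_contra hall
    push Not at hall
    let R : Finset F := (Finset.univ.erase 0).image φ
    have hfib : ∀ b ∈ R, ((Finset.univ.erase (0 : F)).filter fun x => x ^ 4 = b).card ≤ 4 := by
      intro b _
      refine le_trans (Finset.card_le_card (t := (Polynomial.nthRoots 4 b).toFinset) fun x hx => ?_)
        ((Multiset.toFinset_card_le _).trans (Polynomial.card_nthRoots 4 b))
      simp only [Finset.mem_filter] at hx
      rw [Multiset.mem_toFinset, Polynomial.mem_nthRoots (by norm_num)]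
      exact hx.2
    have h := Finset.card_le_mul_card_image_of_maps_to (f := fun x : F => x ^ 4) (s := Finset.univ.erase 0)
      (t := R) (fun x hx => by
        obtain ⟨k, hk⟩ := hall x (Finset.ne_of_mem_erase hx)
        refine Finset.mem_image.2 ⟨k, Finset.mem_erase.2 ⟨fun e => ?_, Finset.mem_univ k⟩, hk.symm⟩
        rw [e, map_zero] at hk
        exact Finset.ne_of_mem_erase hx (pow_eq_zero_iff (by norm_num) |>.1 hk)) 4 hfib
    have hR : R.card ≤ Fintype.card K - 1 := Finset.card_image_le.trans (by simp)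
    rw [Finset.card_erase_of_mem (Finset.mem_univ _), Finset.card_univ] at h
    have h16 : 4 * Fintype.card K ≤ Fintype.card K ^ 2 := by
      rw [pow_two]; exact Nat.mul_le_mul_right _ h4
    omega
  have hgd : ∀ δ hδ, (π (dg κ hκ0))⁻¹ * π (dg δ hδ) * π (dg κ hκ0) = π (dg δ hδ) := fun δ hδ => by
    rw [mul_assoc, ← map_mul, dg_mul, show π (dg (δ * κ) (mul_ne_zero hδ hκ0)) = π (dg κ hκ0) * π (dg δ hδ) by
      rw [← map_mul, dg_mul]; congr 1; simp only [mul_comm δ κ], inv_mul_cancel_left]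
  refine torus_four (g := π (dg κ hκ0)) (fun d hd hd' => ?_) one_ne_zero (hW ⟨π (up 1), ?_⟩) hl
    (by rw [hgd]; exact hl) (fun e => hl4 (by rw [show l ^ 4 = (l ^ 2) ^ 2 by ring, e, one_pow]))
    (fun e => hl4 (by rw [show l ^ 4 = (l ^ 2) ^ 2 by ring, e, neg_one_sq]))
  swap
  · rw [pslMap_π]
    congr 1
    refine ext_four ?_ ?_ ?_ ?_ <;> simp [slMap_apply, up, sl00, sl01, sl10, sl11]
  obtain ⟨s, ρ, hρ, rfl, hs⟩ := hle hd
  obtain ⟨t, σ, hσ, ht, ht'⟩ := hle hd'
  obtain ⟨ε, hε, hte⟩ : ∃ ε : F, ε ≠ 0 ∧ t.1 0 0 = ε * s.1 0 0 ∧ t.1 0 1 * κ ^ 2 = ε * s.1 0 1 ∧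
      t.1 1 0 = ε * s.1 1 0 * κ ^ 2 := by
    have hconj : π t = π ((dg κ hκ0)⁻¹ * s * dg κ hκ0) := by rw [ht, map_mul, map_mul, map_inv]
    obtain ⟨i0, i1, i2, i3⟩ := inv_val (dg κ hκ0)
    rcases π_eq_iff.1 hconj.symm with e | e
    · refine ⟨1, one_ne_zero, ?_, ?_, ?_⟩ <;> rw [e] <;> simp only [val_mul, i0, i1, i2, i3] <;>
        simp [dg, sl00, sl01, sl10, sl11] <;> field_simp
    · refine ⟨-1, neg_ne_zero.2 one_ne_zero, ?_, ?_, ?_⟩ <;> rw [e] <;>
        simp only [val_neg, val_mul, i0, i1, i2, i3] <;> simp [dg, sl00, sl01, sl10, sl11] <;> field_simp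
  obtain ⟨t00, t01, t10⟩ := hte
  choose M hM using hs
  choose N hN using ht'
  have hM0 : ∀ r c, s.1 r c ≠ 0 → φ (M r c) ≠ 0 := fun r c h => by rw [← hM]; exact mul_ne_zero h hρ
  have hκ2 : ∀ k : K, κ ^ 2 ≠ φ k := fun k e => hκ (k * k) (by rw [map_mul, ← e]; ring)
  suffices s.1 0 1 = 0 ∧ s.1 1 0 = 0 by
    obtain ⟨h, e⟩ := diag_of_upper this.2 this.1
    exact ⟨_, h, congrArg π e⟩
  by_cases h00 : s.1 0 0 = 0
  · exfalso
    have hd := det_eq_one s
    rw [h00, zero_mul, zero_sub] at hd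
    have h01 : s.1 0 1 ≠ 0 := fun e => by simp [e] at hd
    have h10 : s.1 1 0 ≠ 0 := fun e => by simp [e] at hd
    have a1 := hM0 0 1 h01
    have a2 := hM0 1 0 h10
    have b1 : φ (N 0 1) ≠ 0 := by
      rw [← hN]
      refine mul_ne_zero (fun e => ?_) hσ
      rw [e, zero_mul] at t01
      exact mul_ne_zero hε h01 t01.symm
    refine hκ (N 1 0 * M 0 1 / (M 1 0 * N 0 1)) ?_
    rw [map_div₀, map_mul, map_mul, eq_div_iff (mul_ne_zero a2 b1), ← hM, ← hM, ← hN, ← hN, t10]
    linear_combination s.1 1 0 * ρ * σ * κ ^ 2 * t01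
  · have a0 := hM0 0 0 h00
    have b0 : φ (N 0 0) ≠ 0 := by rw [← hN, t00]; exact mul_ne_zero (mul_ne_zero hε h00) hσ
    constructor <;> by_contra h
    · have b1 : φ (N 0 1) ≠ 0 := by
        rw [← hN]
        refine mul_ne_zero (fun e => ?_) hσ
        rw [e, zero_mul] at t01
        exact mul_ne_zero hε h t01.symm
      refine hκ2 (M 0 1 * N 0 0 / (M 0 0 * N 0 1)) ?_
      rw [map_div₀, map_mul, map_mul, eq_div_iff (mul_ne_zero a0 b1), ← hM, ← hM, ← hN, ← hN, t00]
      linear_combination s.1 0 0 * ρ * σ * t01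
    · refine hκ2 (N 1 0 * M 0 0 / (M 1 0 * N 0 0)) ?_
      rw [map_div₀, map_mul, map_mul, eq_div_iff (mul_ne_zero (hM0 1 0 h) b0), ← hM, ← hM, ← hN, ← hN, t00, t10]
      ring

open Cfsg.Lib.Classical in
/-- Subgroups over a subfield with at least four elements, apart from the icosahedral one. -/
theorem subfield (hne : H ≠ ⊤) {m : ℕ} (hm : Fintype.card K ^ m = Fintype.card F)
    (hle : H ≤ PSLRat.rat φ)
    (hk : (Nonempty (H ≃* PSL₂ K) ∧ (Fintype.card K = 4 ∨ 6 ≤ Fintype.card K)) ∨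
      (Nonempty (H ≃* Matrix.ProjGenLinGroup (Fin 2) K) ∧ 4 ≤ Fintype.card K)) : ¬ Bin H := by
  classical
  have h4 : 4 ≤ Fintype.card K := by
    rcases hk with ⟨-, h | h⟩ | ⟨-, h⟩ <;> omega
  have hcard : Nat.card (PSL₂ K) ≤ Nat.card H := by
    rcases hk with ⟨⟨e⟩, -⟩ | ⟨⟨e⟩, -⟩
    · exact (Nat.card_congr e.toEquiv).ge
    · exact card_psl_le_pgl.trans (Nat.card_congr e.toEquiv).ge
  have hW := range_le h4 hle hcard
  have hm2 : 2 ≤ m := by
    by_contra hlt
    rcases (by omega : m = 0 ∨ m = 1) with rfl | rfl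
    · rw [pow_zero] at hm
      have := Fintype.one_lt_card (α := F)
      omega
    · rw [pow_one] at hm
      have hs : Function.Surjective φ :=
        ((Fintype.bijective_iff_injective_and_card φ).2 ⟨φ.injective, hm⟩).2
      refine hne (eq_top_iff.2 fun g _ => hW ?_)
      obtain ⟨s, rfl⟩ := QuotientGroup.mk'_surjective _ g
      choose M hM using fun r c => hs (s.1 r c)
      refine ⟨π (sl (M 0 0) (M 0 1) (M 1 0) (M 1 1) (φ.injective ?_)), ?_⟩
      · rw [map_sub, map_mul, map_mul, hM, hM, hM, hM, map_one]; exact det_eq_one s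
      · rw [pslMap_π]
        refine congrArg π (ext_four ?_ ?_ ?_ ?_) <;> simp [slMap_apply, sl00, sl01, sl10, sl11, hM]
  have hq : Fintype.card K ^ 2 ≤ Fintype.card F := hm ▸ Nat.pow_le_pow_right (by omega) hm2
  have hbig : (Fintype.card K = 4 ∨ 6 ≤ Fintype.card K) → ¬ Bin H := by
    intro hK
    obtain ⟨k, hk0, hk4⟩ : ∃ k : K, k ≠ 0 ∧ k ^ 4 ≠ 1 := by
      rcases hK with hK | hK
      · obtain ⟨k, -, hk⟩ := Finset.exists_mem_notMem_of_card_lt_card
          (show ({0, 1} : Finset K).card < (Finset.univ : Finset K).card by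
            rw [Finset.card_univ]; exact Finset.card_le_two.trans_lt (by omega))
        simp only [Finset.mem_insert, Finset.mem_singleton, not_or] at hk
        have e := FiniteField.pow_card k
        rw [hK] at e
        exact ⟨k, hk.1, by rw [e]; exact hk.2⟩
      · obtain ⟨k, -, hk⟩ := Finset.exists_mem_notMem_of_card_lt_card
          (show (insert (0 : K) (Polynomial.nthRoots 4 (1 : K)).toFinset).card < (Finset.univ : Finset K).card by
            rw [Finset.card_univ]
            refine (Finset.card_insert_le _ _).trans_lt ?_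
            have := (Multiset.toFinset_card_le (Polynomial.nthRoots 4 (1 : K))).trans (Polynomial.card_nthRoots 4 1)
            omega)
        simp only [Finset.mem_insert, Multiset.mem_toFinset, Polynomial.mem_nthRoots (show 0 < 4 by norm_num),
          not_or] at hk
        exact ⟨k, hk⟩
    refine subfield_four h4 hq hle hW (l := φ k) (hl0 := (map_ne_zero φ).2 hk0) (hW ⟨π (dg k hk0), ?_⟩)
      (fun e => hk4 (φ.injective (by rw [map_pow, e, map_one])))
    rw [pslMap_π]
    refine congrArg π (ext_four ?_ ?_ ?_ ?_) <;> simp [slMap_apply, dg, sl00, sl01, sl10, sl11]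
  rcases hk with ⟨-, hK⟩ | ⟨⟨e⟩, -⟩
  · exact hbig hK
  by_cases hK : Fintype.card K = 4 ∨ 6 ≤ Fintype.card K
  · exact hbig hK
  have hK5 : Fintype.card K = 5 := by omega
  have hodd : Odd (Fintype.card K) := ⟨2, hK5⟩
  have hchar : ringChar K ≠ 2 := fun h2 => by
    have := FiniteField.even_card_of_char_two h2
    omega
  obtain ⟨ν, hν⟩ := FiniteField.exists_nonsquare hchar
  have hHc : Nat.card H = 2 * Nat.card (PSL₂ K) := by rw [Nat.card_congr e.toEquiv, card_psl_two_le_pgl hodd]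
  have hHR : H = PSLRat.rat φ := Subgroup.eq_of_le_of_card_ge hle (by rw [hHc]; exact rat_card φ)
  obtain ⟨l, hl⟩ : IsSquare (φ ν) := by
    by_contra hns
    have hall : PSLRat.rat φ ≤ (pslMap φ).range := by
      intro g hg
      obtain ⟨s, ρ, hρ, rfl, hs⟩ := hg
      by_contra hnr
      choose M hM using hs
      have hdet : φ (M 0 0 * M 1 1 - M 0 1 * M 1 0) = ρ * ρ := by
        rw [map_sub, map_mul, map_mul, ← hM, ← hM, ← hM, ← hM]
        linear_combination ρ * ρ * det_eq_one s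
      set δ := M 0 0 * M 1 1 - M 0 1 * M 1 0 with hδ
      have hδ0 : δ ≠ 0 := fun h => hρ (mul_self_eq_zero.1 (by rw [← hdet, h, map_zero]))
      by_cases hsq : IsSquare δ
      · obtain ⟨e, he⟩ := hsq
        have he0 : e ≠ 0 := fun h => hδ0 (by rw [he, h, mul_zero])
        have hfe : φ e ≠ 0 := (map_ne_zero φ).2 he0
        refine hnr ⟨π (sl (M 0 0 / e) (M 0 1 / e) (M 1 0 / e) (M 1 1 / e) ?_), ?_⟩
        · field_simp
          linear_combination hδ.symm.trans he
        · rw [pslMap_π, π_eq_iff]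
          rcases mul_self_eq_mul_self_iff.1 (show φ e * φ e = ρ * ρ by rw [← map_mul, ← he, hdet]) with h | h
          · left
            refine ext_four ?_ ?_ ?_ ?_ <;> simp [slMap_apply, sl00, sl01, sl10, sl11, ← hM, h] <;> field_simp
          · right
            refine ext_four ?_ ?_ ?_ ?_ <;> simp [slMap_apply, val_neg, sl00, sl01, sl10, sl11, ← hM, h] <;>
              field_simp
      · have hν0 : ν ≠ 0 := fun h => hν (h ▸ IsSquare.zero)
        obtain ⟨e, he⟩ : IsSquare (δ * ν) := by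
          rw [← quadraticChar_one_iff_isSquare (mul_ne_zero hδ0 hν0), map_mul,
            quadraticChar_neg_one_iff_not_isSquare.2 hsq, quadraticChar_neg_one_iff_not_isSquare.2 hν]
          norm_num
        refine hns ⟨φ e / ρ, ?_⟩
        field_simp
        rw [pow_two, pow_two, ← map_mul, ← he, map_mul, hdet]
        ring
    have h1 := Subgroup.card_le_of_le hall
    rw [← hHR, hHc, ← Nat.card_congr (MonoidHom.ofInjective (pslMap_injective φ)).toEquiv] at h1
    have : 0 < Nat.card (PSL₂ K) := Nat.card_pos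
    omega
  have hν0 : ν ≠ 0 := fun h => hν (h ▸ IsSquare.zero)
  have hl0 : l ≠ 0 := fun h => hν0 ((map_eq_zero φ).1 (by rw [hl, h, mul_zero]))
  refine subfield_four h4 hq hle hW (hl0 := hl0) (hHR ▸ ?_) fun e => ?_
  · refine ⟨dg l hl0, l, hl0, rfl, fun r c => ?_⟩
    fin_cases r <;> fin_cases c <;> simp [dg, sl00, sl01, sl10, sl11]
    · exact ⟨ν, hl.symm⟩
    · exact ⟨0, (map_zero φ).symm⟩
    · exact ⟨0, (map_zero φ).symm⟩
    · exact ⟨1, by rw [inv_mul_cancel₀ hl0, map_one]⟩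
  · have h2 : ν * ν = 1 := φ.injective (by rw [map_mul, hl, map_one]; linear_combination e)
    rcases mul_self_eq_one_iff.1 h2 with h | h
    · exact hν (h ▸ IsSquare.one)
    · exact hν (h ▸ FiniteField.isSquare_neg_one_iff.2 (by omega))

end Cfsg.Lib.PSLBinary
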