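import Cfsg.Agent.PSLBinary.Dihedral
import Cfsg.Agent.PSLBinary.Exceptional
import Cfsg.Agent.PSLBinary.Subfield
import Cfsg.Agent.Classical.Misc.PSLDickson
import Cfsg.Agent.Classical.Misc.PSLFull
import Cfsg.Agent.Classical.Misc.PGLMax
import Mathlib

/-!
The binary coset actions of `PSL₂`.
-/

set_option autoImplicit false
set_option linter.unusedSectionVars false
set_option linter.style.haveILetI false

namespace Cfsg.Lib.PSLBinary

open Cfsg.Lib.Suz.Binary Cfsg.Lib.Classical.PSLFour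
open scoped MatrixGroups

universe u

variable {F : Type u} [Field F] [Fintype F]

local notation "PSL₂" k => Matrix.ProjectiveSpecialLinearGroup (Fin 2) k

theorem charTwo (h2 : (2 : F) = 0) : CharP F 2 :=
  ringChar.of_eq (CharP.ringChar_of_prime_eq_zero Nat.prime_two (by exact_mod_cast h2))

theorem two_group_dvd (h2 : (2 : F) = 0) {Q : Subgroup (PSL₂ F)} (hQ : IsPGroup 2 Q) :
    Nat.card Q ∣ Fintype.card F := by
  haveI : CharP F 2 := charTwo h2
  obtain ⟨k, hk⟩ := IsPGroup.iff_card.1 hQ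
  have heven : Fintype.card F % 2 = 0 := FiniteField.even_card_of_char_two (ringChar.eq F 2)
  have hG := Cfsg.Lib.Classical.SmallPSL.card_psl (F := F) rfl
  have h1 : 1 < Fintype.card F := Fintype.one_lt_card
  have hg : Nat.gcd 2 (Fintype.card F - 1) = 1 := by
    rw [Nat.gcd_rec, show (Fintype.card F - 1) % 2 = 1 by omega, Nat.gcd_one_left]
  rw [hg, one_mul] at hG
  have hd := Subgroup.card_subgroup_dvd_card Q
  rw [hk, hG] at hd
  rw [hk]
  refine (Nat.Coprime.pow_left k (Nat.coprime_two_left.2 ?_)).dvd_of_dvd_mul_right hd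
  rw [Nat.odd_iff]
  have : (Fintype.card F ^ 2) % 2 = 0 := by rw [Nat.pow_mod, heven]
  have : 1 ≤ Fintype.card F ^ 2 := Nat.one_le_pow _ _ (by omega)
  omega

theorem two_card (h2 : (2 : F) = 0) : ∃ a : ℕ, Fintype.card F = 2 ^ a := by
  haveI : CharP F 2 := charTwo h2
  obtain ⟨n, -, hn⟩ := FiniteField.card F 2
  exact ⟨n, hn⟩

theorem two_zero {a : ℕ} (ha : Fintype.card F = 2 ^ a) : (2 : F) = 0 := by
  have h := FiniteField.cast_card_eq_zero F
  rw [ha, Nat.cast_pow, Nat.cast_ofNat] at h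
  exact eq_zero_of_pow_eq_zero h

theorem no_omega_iff {a : ℕ} (ha : Fintype.card F = 2 ^ a) : Odd a ↔ ∀ ω : F, ω ^ 2 + ω + 1 ≠ 0 := by
  classical
  have h2 := two_zero ha
  constructor
  · rintro ⟨b, rfl⟩ ω hω
    have hω0 : ω ≠ 0 := fun e => by rw [e] at hω; simp at hω
    have h3 : ω ^ 3 = 1 := by linear_combination (ω - 1) * hω
    have h := FiniteField.pow_card_sub_one_eq_one ω hω0
    have hq : (2 ^ (2 * b + 1) - 1) % 3 = 1 := by
      have h4 : 4 ^ b % 3 = 1 := by rw [Nat.pow_mod]; simp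
      rw [pow_succ, pow_mul, show 2 ^ 2 = 4 from rfl]
      omega
    rw [ha, ← Nat.div_add_mod (2 ^ (2 * b + 1) - 1) 3, hq, pow_add, pow_mul, h3, one_pow, one_mul, pow_one] at h
    rw [h] at hω
    exact one_ne_zero (α := F) (by linear_combination hω - h2)
  · intro hno
    by_contra hodd
    obtain ⟨b, rfl⟩ := Nat.not_odd_iff_even.1 hodd
    have h3 : 3 ∣ Nat.card Fˣ := by
      rw [Nat.card_units, Nat.card_eq_fintype_card, ha, ← two_mul, pow_mul, show 2 ^ 2 = 4 from rfl]
      have h4 : 4 ^ b % 3 = 1 := by rw [Nat.pow_mod]; simp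
      omega
    have : Fact (Nat.Prime 3) := ⟨Nat.prime_three⟩
    obtain ⟨ω, hω⟩ := exists_prime_orderOf_dvd_card' 3 h3
    have h1 : (ω : F) ≠ 1 := fun e => by
      rw [Units.val_eq_one.1 e, orderOf_one] at hω; omega
    have e3 : (ω : F) ^ 3 = 1 := by
      rw [← Units.val_pow_eq_pow_val, ← hω, pow_orderOf_eq_one, Units.val_one]
    refine hno ω (mul_left_cancel₀ (sub_ne_zero.2 h1) ?_)
    linear_combination e3

/-- Unipotent elements are recognised by the trace. -/
theorem pow_p_of_tr (p : ℕ) [Fact p.Prime] [CharP F p] {S : SL(2, F)} (h : tr S ^ 2 = 4) : π S ^ p = 1 := by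
  obtain ⟨ε, hε, ht⟩ : ∃ ε : F, ε * ε = 1 ∧ tr S = 2 * ε := by
    rcases mul_self_eq_mul_self_iff.1 (show tr S * tr S = 2 * 2 by linear_combination h) with e | e
    · exact ⟨1, one_mul 1, by rw [e, mul_one]⟩
    · exact ⟨-1, by ring, by rw [e]; ring⟩
  have hd := det_eq_one S
  simp only [tr] at ht
  rcases eq_or_ne (S.1 1 0) 0 with h10 | h10
  · refine (Cfsg.Lib.Classical.PSLGeom.pow_p_iff p h10).2 ?_
    rw [h10, mul_zero, sub_zero] at hd
    have : (S.1 0 0 - ε) ^ 2 = 0 := by linear_combination -hd + S.1 0 0 * ht + hε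
    have := pow_eq_zero_iff (two_ne_zero) |>.1 this
    linear_combination ht - 2 * this
  · set X : SL(2, F) := sl (S.1 0 0 - ε) (-(S.1 1 0)⁻¹) (S.1 1 0) 0 (by
      rw [mul_zero, zero_sub, neg_mul, neg_neg, inv_mul_cancel₀ h10]) with hX
    obtain ⟨x0, x1, x2, x3⟩ := inv_val X
    have e10 : (X⁻¹ * S * X).1 1 0 = 0 := by
      simp only [val_mul, x0, x1, x2, x3]
      simp only [hX, sl00, sl01, sl10, sl11]
      linear_combination S.1 1 0 * (hd - ε * ht - hε)
    have e11 : (X⁻¹ * S * X).1 1 1 = (X⁻¹ * S * X).1 0 0 := by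
      have e := tr_conj X⁻¹ S
      rw [inv_inv] at e
      have hd' := det_eq_one (X⁻¹ * S * X)
      rw [e10, mul_zero, sub_zero] at hd'
      simp only [tr] at e
      have hsq : ((X⁻¹ * S * X).1 0 0 - ε) ^ 2 = 0 := by
        linear_combination -hd' + (X⁻¹ * S * X).1 0 0 * (e.trans ht) + hε
      have := pow_eq_zero_iff (two_ne_zero) |>.1 hsq
      linear_combination e.trans ht - 2 * this
    have h' := (Cfsg.Lib.Classical.PSLGeom.pow_p_iff p e10).2 e11
    rw [map_mul, map_mul, map_inv] at h'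
    calc π S ^ p = π X * ((π X)⁻¹ * π S * π X) ^ p * (π X)⁻¹ := by rw [← conj_pow]; group
      _ = 1 := by rw [h']; group

/-- Cyclic subgroups of order prime to the characteristic. -/
theorem cyclic_case {H : Subgroup (PSL₂ F)} (hc : IsCyclic H) (hp : ¬ ringChar F ∣ Nat.card H) (hne : H ≠ ⊥)
    (hbin : Bin H) : (∃ a : ℕ, Odd a ∧ Fintype.card F = 2 ^ a) ∧ Nat.card H = 3 := by
  have hpp : (ringChar F).Prime := CharP.char_is_prime F (ringChar F)
  haveI : Fact (ringChar F).Prime := ⟨hpp⟩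
  obtain ⟨⟨g, hgH⟩, hg⟩ := IsCyclic.exists_generator (α := H)
  obtain ⟨S, rfl⟩ := QuotientGroup.mk'_surjective _ g
  have hHz : Subgroup.zpowers (π S) = H := by
    refine le_antisymm (Subgroup.zpowers_le.2 hgH) fun x hx => ?_
    obtain ⟨k, hk⟩ := Subgroup.mem_zpowers_iff.1 (hg ⟨x, hx⟩)
    exact ⟨k, congrArg Subtype.val hk⟩
  have hS : tr S ^ 2 ≠ 4 := fun h => by
    have h1 := pow_p_of_tr (ringChar F) h
    have hs : π S ≠ 1 := fun e => hne (by rw [← hHz, e, Subgroup.zpowers_one_eq_bot])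
    refine hp ?_
    rw [← hHz, Nat.card_zpowers, orderOf_eq_prime h1 hs]
  by_cases hex : (2 : F) ≠ 0 ∨ tr S ≠ 1 ∨ ∃ ω : F, ω ^ 2 + ω + 1 = 0
  · exact absurd hbin (hHz ▸ cyclic_not_bin hS hex)
  push Not at hex
  obtain ⟨h2, ht, hω⟩ := hex
  obtain ⟨a, ha⟩ := two_card h2
  refine ⟨⟨a, (no_omega_iff ha).2 hω, ha⟩, ?_⟩
  have h3 := π_cube (G := S) (by rw [ht, one_pow])
  haveI : Fact (Nat.Prime 3) := ⟨Nat.prime_three⟩
  rw [← hHz, Nat.card_zpowers]
  refine orderOf_eq_prime h3 fun e => hne ?_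
  rw [← hHz, e, Subgroup.zpowers_one_eq_bot]

theorem card_uSub : Nat.card (uSub : Subgroup (PSL₂ F)) = Fintype.card F := by
  rw [← Nat.card_eq_fintype_card]
  exact (Nat.card_congr (Equiv.ofBijective (fun b : F => (⟨π (up b), b, rfl⟩ : (uSub : Subgroup (PSL₂ F))))
    ⟨fun a b e => up_injective (congrArg Subtype.val e), fun ⟨_, b, rfl⟩ => ⟨b, rfl⟩⟩)).symm

/-- The conclusion. -/
def Good (H : Subgroup (PSL₂ F)) : Prop :=
  ((∃ a : ℕ, Fintype.card F = 2 ^ a) ∧ ∃ P : Sylow 2 (PSL₂ F), H = P) ∨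
    ((∃ a : ℕ, Odd a ∧ Fintype.card F = 2 ^ a) ∧ Nat.card H = 3)

theorem good_of_card (h2 : (2 : F) = 0) {H : Subgroup (PSL₂ F)} (hH : Nat.card H = Fintype.card F) : Good H := by
  obtain ⟨a, ha⟩ := two_card h2
  have : Fact (Nat.Prime 2) := ⟨Nat.prime_two⟩
  obtain ⟨P, hP⟩ := (IsPGroup.of_card (hH.trans ha) : IsPGroup 2 H).exists_le_sylow
  refine Or.inl ⟨⟨a, ha⟩, P, Subgroup.eq_of_le_of_card_ge hP ?_⟩
  rw [hH]
  exact Nat.le_of_dvd Fintype.card_pos (two_group_dvd h2 P.2)

/-- Subgroups fixing the point at infinity. -/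
theorem upper_case {H : Subgroup (PSL₂ F)} (hup : Upper H) (hne : H ≠ ⊥) (hbin : Bin H) :
    ((∃ a : ℕ, Odd a ∧ Fintype.card F = 2 ^ a) ∧ Nat.card H = 3) ∨ ((2 : F) = 0 ∧ H = uSub) := by
  classical
  choose lift hlift using fun g : H => QuotientGroup.mk'_surjective (Subgroup.center SL(2, F)) (g : PSL₂ F)
  have hup' : ∀ g : H, (lift g).1 1 0 = 0 := fun g => hup _ (by rw [show π (lift g) = (g : PSL₂ F) from hlift g]; exact g.2)
  have hd' : ∀ T : SL(2, F), T.1 1 0 = 0 → T.1 0 0 * T.1 1 1 = 1 := fun T h => by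
    have := det_eq_one T
    rwa [h, mul_zero, sub_zero] at this
  have huni : ∀ T : SL(2, F), T.1 1 0 = 0 → T.1 0 0 ^ 2 = 1 → π T ∈ uSub := by
    intro T h10 h00
    have := hd' T h10
    have h11 : T.1 1 1 = T.1 0 0 := by linear_combination T.1 0 0 * this - T.1 1 1 * h00
    refine ⟨T.1 0 0 * T.1 0 1, ?_⟩
    rw [π_eq_iff]
    rcases sq_eq_one_iff.1 h00 with e | e
    · left; refine ext_four ?_ ?_ ?_ ?_ <;> simp [up, sl00, sl01, sl10, sl11, h10, h11, e]
    · right; refine ext_four ?_ ?_ ?_ ?_ <;> simp [val_neg, up, sl00, sl01, sl10, sl11, h10, h11, e]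
  by_cases hE : ∃ e : F, e ≠ 0 ∧ π (up e) ∈ H
  · obtain ⟨e, he, heH⟩ := hE
    by_cases h4 : ∃ T : SL(2, F), π T ∈ H ∧ T.1 0 0 ^ 2 ≠ 1 ∧ T.1 0 0 ^ 2 ≠ -1
    · obtain ⟨T, hT, h1, h2⟩ := h4
      exact absurd hbin (borel_four hup he heH hT h1 h2)
    push Not at h4
    by_cases htwo : ∃ T : SL(2, F), π T ∈ H ∧ T.1 0 0 ^ 2 ≠ 1
    · obtain ⟨T, hT, h1⟩ := htwo
      have h2 := h4 T hT h1
      refine absurd hbin (borel_two hup (fun h => h1 (by linear_combination h2 - h)) hT h2 fun U hU => ?_)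
      by_cases hU1 : U.1 0 0 ^ 2 = 1
      · linear_combination (U.1 0 0 ^ 2 + 1) * hU1
      · linear_combination (U.1 0 0 ^ 2 - 1) * h4 U hU hU1
    push Not at htwo
    have hle : H ≤ uSub := fun g hg => by
      obtain ⟨T, rfl⟩ := QuotientGroup.mk'_surjective _ g
      exact huni T (hup T hg) (htwo T hg)
    by_cases h2 : (2 : F) = 0
    · haveI : CharP F 2 := charTwo h2
      by_contra h
      push Not at h
      exact unip_two hle hne (h.2 h2) hbin
    · exact absurd hbin (unip_odd hle h2 he heH)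
  · left
    push Not at hE
    let φ : H →* F :=
      { toFun := fun g => (lift g).1 0 0 ^ 2
        map_one' := by
          have h : π (lift (1 : H)) = 1 := hlift 1
          rcases π_one_iff.1 h with e | e <;> rw [e] <;> simp [val_neg]
        map_mul' := fun g h => by
          have e : π (lift g * lift h) = π (lift (g * h)) := by
            rw [map_mul, show π (lift g) = (g : PSL₂ F) from hlift g, show π (lift h) = (h : PSL₂ F) from hlift h,
              show π (lift (g * h)) = ((g * h : H) : PSL₂ F) from hlift (g * h), Subgroup.coe_mul]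
          have e00 : (lift g * lift h).1 0 0 = (lift g).1 0 0 * (lift h).1 0 0 := by
            rw [val_mul, hup' h, mul_zero, add_zero]
          show (lift (g * h)).1 0 0 ^ 2 = (lift g).1 0 0 ^ 2 * (lift h).1 0 0 ^ 2
          rcases π_eq_iff.1 e with e' | e' <;> simp only [e', val_neg, e00] <;> ring }
    have hφ : Function.Injective φ := (injective_iff_map_eq_one φ).2 fun g hg => by
      obtain ⟨b, hb⟩ := huni _ (hup' g) hg
      rw [show π (lift g) = (g : PSL₂ F) from hlift g] at hb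
      by_cases hb0 : b = 0
      · rw [hb0, up_zero, map_one] at hb; exact Subtype.ext hb.symm
      · exact absurd (hb ▸ g.2) (hE b hb0)
    have hunit : Function.Injective φ.toHomUnits := fun a b e => hφ (congrArg Units.val e)
    refine cyclic_case (isCyclic_of_injective _ hunit) (fun h => ?_) hne hbin
    have hd : Nat.card H ∣ Fintype.card F - 1 := by
      rw [← Fintype.card_units, ← Nat.card_eq_fintype_card]
      exact Subgroup.card_dvd_of_injective _ hunit
    have hpp : (ringChar F).Prime := CharP.char_is_prime F (ringChar F)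
    obtain ⟨n, hn, hq⟩ := FiniteField.card F (ringChar F)
    have h1 : ringChar F ∣ Fintype.card F := hq ▸ dvd_pow_self _ n.pos.ne'
    have h2 := Nat.dvd_sub h1 (h.trans hd)
    have := Fintype.one_lt_card (α := F)
    rw [show Fintype.card F - (Fintype.card F - 1) = 1 by omega, Nat.dvd_one] at h2
    exact hpp.one_lt.ne' h2

theorem borel_case (p : ℕ) [Fact p.Prime] [CharP F p] {H : Subgroup (PSL₂ F)} (P : Sylow p (PSL₂ F))
    (hle : H ≤ Subgroup.normalizer ((P : Subgroup (PSL₂ F)) : Set (PSL₂ F))) :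
    ∃ c, Upper (H.map (MulAut.conj c).toMonoidHom) := by
  let k := AlgebraicClosure F
  let i : F →+* k := algebraMap F k
  haveI : CharP k p := charP_of_injective_ringHom i.injective p
  obtain ⟨z, ⟨a', ha⟩, hfix⟩ := Cfsg.Lib.Classical.PSLFull.borel_fix i p rfl P
  obtain ⟨a, rfl⟩ := (Cfsg.Lib.Classical.PSLFull.eW i).surjective a'
  refine ⟨a⁻¹, fun T hT => ?_⟩
  obtain ⟨g, hg, e⟩ := hT
  rw [MulEquiv.coe_toMonoidHom, MulAut.conj_apply, inv_inv] at e
  have h : Cfsg.Lib.Classical.PSLFull.eW i (π T) • (Cfsg.Lib.Classical.PSLGeom.pinf : Projectivization k (Fin 2 → k)) =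
      Cfsg.Lib.Classical.PSLGeom.pinf := by
    rw [← e, map_mul, map_mul, map_inv, mul_smul, mul_smul, inv_smul_eq_iff]
    rw [show Cfsg.Lib.Classical.PSLFull.eW i a • (Cfsg.Lib.Classical.PSLGeom.pinf : Projectivization k (Fin 2 → k)) = z
      from ha]
    exact hfix g (hle hg)
  have h' : π (Cfsg.Lib.Classical.PSLEmbed.slMap i T) •
      (Cfsg.Lib.Classical.PSLGeom.pinf : Projectivization k (Fin 2 → k)) = Cfsg.Lib.Classical.PSLGeom.pinf := h
  have h0 := (Cfsg.Lib.Classical.PSLGeom.smul_pinf _).1 h'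
  rw [Cfsg.Lib.Classical.PSLEmbed.slMap_apply, map_eq_zero] at h0
  exact h0

theorem good_of_upper {H : Subgroup (PSL₂ F)} (c : PSL₂ F) (hup : Upper (H.map (MulAut.conj c).toMonoidHom))
    (hne : H ≠ ⊥) (hbin : Bin H) : Good H := by
  have hcard := Subgroup.card_map_of_injective (K := H) (f := (MulAut.conj c).toMonoidHom) (MulAut.conj c).injective
  rcases upper_case hup (by rwa [ne_eq, Subgroup.map_eq_bot_iff_of_injective _ (MulAut.conj c).injective])
    ((bin_conj c rfl).1 hbin) with ⟨ha, h3⟩ | ⟨h2, e⟩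
  · exact Or.inr ⟨ha, hcard ▸ h3⟩
  · exact good_of_card h2 (by rw [← hcard, e, card_uSub])

/-- In characteristic two a subgroup with a commuting class of involutions fixes a point. -/
theorem four_upper (h2 : (2 : F) = 0) {H : Subgroup (PSL₂ F)} {v : PSL₂ F} (hv1 : v ≠ 1)
    (hv : v * v = 1) (hcom : ∀ h ∈ H, Commute (h * v * h⁻¹) v) :
    ∃ c, Upper (H.map (MulAut.conj c).toMonoidHom) := by
  haveI : CharP F 2 := charTwo h2
  obtain ⟨c, hc⟩ := isConj_iff.1 (conj_to_up hv1 hv).symm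
  refine ⟨c, fun T hT => ?_⟩
  obtain ⟨h, hh, e⟩ := hT
  rw [MulEquiv.coe_toMonoidHom, MulAut.conj_apply] at e
  have h1 := (hcom h hh).map (MulAut.conj c).toMonoidHom
  rw [MulEquiv.coe_toMonoidHom, MulAut.conj_apply, MulAut.conj_apply, hc,
    show c * (h * v * h⁻¹) * c⁻¹ = (c * h * c⁻¹) * (c * v * c⁻¹) * (c * h * c⁻¹)⁻¹ by group, hc, e, π_conj] at h1
  have h1' : Commute (T * up 1 * T⁻¹) (up 1) := π_inj (by simpa using h1.eq)
  obtain ⟨e0, -, -⟩ := commute_iff.1 h1'
  obtain ⟨i0, i1, i2, i3⟩ := inv_val T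
  simp only [val_mul, i0, i1, i2, i3] at e0
  simp only [up, sl00, sl01, sl10, sl11] at e0
  have : T.1 1 0 ^ 2 = 0 := by linear_combination e0
  exact pow_eq_zero_iff two_ne_zero |>.1 this

theorem tetra_case (h4 : 4 ≤ Fintype.card F) (h5 : Fintype.card F ≠ 5) {H : Subgroup (PSL₂ F)}
    {P : Type} [Group P] (ψ : H ≃* P) (v : P) (hv1 : v ≠ 1) (hv : v * v = 1)
    (hcom : ∀ h : P, Commute (h * v * h⁻¹) v) (h3 : 3 ∣ Nat.card P) (hP : Nat.card P ≠ 3)
    (hodd : Odd (Fintype.card F) → ¬ Bin H) : ¬ Bin H := fun hbin => by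
  by_cases h2 : (2 : F) = 0
  · obtain ⟨c, hc⟩ := four_upper h2 (H := H) (v := ((ψ.symm v : H) : PSL₂ F))
      (fun e => hv1 (ψ.symm.injective ((Subtype.ext e).trans (map_one ψ.symm).symm)))
      (by rw [← Subgroup.coe_mul, ← map_mul, hv, map_one, Subgroup.coe_one]) fun h hh => by
        have := ((hcom (ψ ⟨h, hh⟩)).map ψ.symm).map H.subtype
        simpa using this
    have hH := Nat.card_congr ψ.toEquiv
    rcases good_of_upper c hc (fun e => by rw [e, Subgroup.card_bot] at hH; rw [← hH] at h3; norm_num at h3) hbin with ⟨⟨a, ha⟩, Q, hQ⟩ | ⟨-, h⟩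
    · have h := two_group_dvd h2 Q.2
      rw [← hQ, hH, ha] at h
      have := Nat.prime_three.dvd_of_dvd_pow (h3.trans h)
      norm_num at this
    · exact hP (hH ▸ h)
  · refine hodd ?_ hbin
    rw [Nat.odd_iff]
    exact FiniteField.odd_card_of_char_ne_two fun h => h2 (by
      haveI : CharP F 2 := ringChar.of_eq h
      exact CharTwo.two_eq_zero)

set_option maxRecDepth 20000 in
theorem altFour_all (h4 : 4 ≤ Fintype.card F) (h5 : Fintype.card F ≠ 5) {H : Subgroup (PSL₂ F)}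
    (ψ : H ≃* alternatingGroup (Fin 4)) : ¬ Bin H :=
  tetra_case h4 h5 ψ (ev (Equiv.swap 0 1 * Equiv.swap 2 3) (by decide +kernel)) (by decide +kernel) (by decide +kernel)
    (fun h => by
      have : ∀ h : alternatingGroup (Fin 4), h * ev (Equiv.swap 0 1 * Equiv.swap 2 3) (by decide +kernel) * h⁻¹ *
          ev (Equiv.swap 0 1 * Equiv.swap 2 3) (by decide +kernel) = ev (Equiv.swap 0 1 * Equiv.swap 2 3) (by decide +kernel) *
          (h * ev (Equiv.swap 0 1 * Equiv.swap 2 3) (by decide +kernel) * h⁻¹) := by decide +kernel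
      exact this h)
    (by rw [nat_card_alternatingGroup, Nat.card_fin]; decide) (by rw [nat_card_alternatingGroup, Nat.card_fin]; decide)
    (fun ho => altFour_case ho h4 h5 ψ)

set_option maxRecDepth 20000 in
theorem symFour_all (h4 : 4 ≤ Fintype.card F) (h5 : Fintype.card F ≠ 5) {H : Subgroup (PSL₂ F)}
    (ψ : H ≃* Equiv.Perm (Fin 4)) : ¬ Bin H :=
  tetra_case h4 h5 ψ (Equiv.swap 0 1 * Equiv.swap 2 3) (by decide +kernel) (by decide +kernel)
    (fun h => by
      have : ∀ h : Equiv.Perm (Fin 4), h * (Equiv.swap 0 1 * Equiv.swap 2 3) * h⁻¹ * (Equiv.swap 0 1 * Equiv.swap 2 3) =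
          (Equiv.swap 0 1 * Equiv.swap 2 3) * (h * (Equiv.swap 0 1 * Equiv.swap 2 3) * h⁻¹) := by decide +kernel
      exact this h)
    (by rw [Nat.card_perm, Nat.card_fin]; decide) (by rw [Nat.card_perm, Nat.card_fin]; decide)
    (fun ho => symFour_case ho h4 h5 ψ)

open Cfsg.Lib.Classical in
theorem rat_case (h4 : 4 ≤ Fintype.card F) (h5 : Fintype.card F ≠ 5) {H : Subgroup (PSL₂ F)} (hH : H ≠ ⊤)
    (h : PSLDickson.RatSub (Fintype.card F) H) : ¬ Bin H := fun hbin => by
  obtain ⟨K, _, _, φ, m, hK3, hm, ⟨τ, hτ, -⟩, hiso⟩ := h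
  set H' := H.map τ.toMonoidHom with hH'
  have hle : H' ≤ PSLRat.rat φ := by
    rintro _ ⟨g, hg, rfl⟩; exact hτ g hg
  have hbin' : Bin H' := bin_map τ rfl hbin
  have hne' : H' ≠ ⊤ := fun e => hH (by
    refine (Subgroup.eq_top_iff' H).2 fun g => ?_
    obtain ⟨g', hg', e'⟩ := (show τ g ∈ H' from e ▸ Subgroup.mem_top _)
    exact τ.injective e' ▸ hg')
  let eH : H ≃* H' := H.equivMapOfInjective _ τ.injective
  rcases hiso with ⟨hKodd, ⟨ψ⟩⟩ | hiso
  · by_cases h6 : 6 ≤ Fintype.card K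
    · exact subfield hne' hm hle (Or.inl ⟨⟨eH.symm.trans ψ⟩, Or.inr h6⟩) hbin'
    obtain ⟨j, hj⟩ := hKodd
    rcases (by omega : Fintype.card K = 3 ∨ Fintype.card K = 5) with e | e
    · obtain ⟨e'⟩ := SmallPSL.psl_three e
      exact altFour_all h4 h5 (ψ.trans e') hbin
    · obtain ⟨e'⟩ := SmallPSL.psl_five e
      exact altFive_case (hm ▸ Odd.pow ⟨2, e⟩) h4 h5 (ψ.trans e') hbin
  · obtain ⟨ψ⟩ := hiso
    by_cases h4' : 4 ≤ Fintype.card K
    · exact subfield hne' hm hle (Or.inr ⟨⟨eH.symm.trans ψ⟩, h4'⟩) hbin'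
    obtain ⟨e'⟩ := PGLMax.pgl_three (show Fintype.card K = 3 by omega)
    exact symFour_all h4 h5 (ψ.trans e') hbin

theorem dihedral_case (h4 : 4 ≤ Fintype.card F) (h5 : Fintype.card F ≠ 5) {H : Subgroup (PSL₂ F)} (hne : H ≠ ⊥)
    {n : ℕ} (hn : n ≠ 0) (ψ : H ≃* DihedralGroup n) (hp : ¬ ringChar F ∣ n) (hbin : Bin H) : Good H := by
  classical
  have hpp : (ringChar F).Prime := CharP.char_is_prime F (ringChar F)
  haveI : Fact (ringChar F).Prime := ⟨hpp⟩
  have hHc : Nat.card H = 2 * n := by rw [Nat.card_congr ψ.toEquiv, DihedralGroup.nat_card]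
  rcases eq_or_ne n 1 with rfl | hn1
  · by_cases h2 : (2 : F) = 0
    · haveI : CharP F 2 := charTwo h2
      have : Fact (Nat.Prime 2) := ⟨Nat.prime_two⟩
      obtain ⟨P, hP⟩ := (IsPGroup.of_card (n := 1) hHc : IsPGroup 2 H).exists_le_sylow
      obtain ⟨c, hc⟩ := borel_case 2 P (hP.trans Subgroup.le_normalizer)
      exact good_of_upper c hc hne hbin
    · refine absurd (cyclic_case (isCyclic_of_prime_card (p := 2) hHc) ?_ hne hbin).2 (by omega)
      rw [hHc, mul_one, Nat.prime_dvd_prime_iff_eq hpp Nat.prime_two]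
      intro h
      haveI : CharP F 2 := ringChar.of_eq h
      exact h2 CharTwo.two_eq_zero
  exfalso
  set s : H := ψ.symm (DihedralGroup.sr 0)
  set r : H := ψ.symm (DihedralGroup.r 1)
  have hs2 : (s : PSL₂ F) * (s : PSL₂ F) = 1 := by
    rw [← Subgroup.coe_mul, ← map_mul, DihedralGroup.sr_mul_self, map_one, Subgroup.coe_one]
  have hs1 : (s : PSL₂ F) ≠ 1 := fun h => by
    have h' : DihedralGroup.sr (0 : ZMod n) = 1 := ψ.symm.injective ((Subtype.ext h).trans (map_one ψ.symm).symm)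
    cases h'
  by_cases h2 : (2 : F) = 0
  · haveI : CharP F 2 := charTwo h2
    have hodd : Odd n := by
      rw [ringChar.eq F 2] at hp
      rw [Nat.odd_iff]; omega
    have hinj : ∀ j : ZMod n, j + j = 0 → j = 0 := fun j hj => by
      have hu : IsUnit ((2 : ℕ) : ZMod n) := (ZMod.isUnit_iff_coprime 2 n).2 (Nat.coprime_two_left.2 hodd)
      exact (hu.mul_right_eq_zero).1 (by rw [Nat.cast_ofNat, two_mul, hj])
    have hinv : ∀ z : DihedralGroup n, z ≠ 1 → z * z = 1 → ∃ j, z = DihedralGroup.sr j := by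
      rintro (j | j) h1 h2'
      · exfalso
        rw [DihedralGroup.r_mul_r, ← DihedralGroup.r_zero] at h2'
        injection h2' with h2'
        exact h1 (by rw [hinj j h2', DihedralGroup.r_zero])
      · exact ⟨j, rfl⟩
    have htr : ∀ {x : PSL₂ F} (hx : x ∈ H), (ψ ⟨x, hx⟩ = 1 ↔ x = 1) := fun {x} hx => by
      rw [EmbeddingLike.map_eq_one_iff, ← Subtype.val_inj, Subgroup.coe_one]
    have hmul : ∀ {x y : PSL₂ F} (hx : x ∈ H) (hy : y ∈ H),
        ψ ⟨x * y, mul_mem hx hy⟩ = ψ ⟨x, hx⟩ * ψ ⟨y, hy⟩ := fun {x y} hx hy => by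
      rw [← map_mul]; rfl
    refine dihedral_two h4 s.2 hs1 hs2 (fun x hx y hy hx1 hy1 hx2 hy2 hxy hprod => ?_)
      (fun x hx y hy hx1 hx2 hy2 => ?_) hbin
    · obtain ⟨i, hi⟩ := hinv (ψ ⟨x, hx⟩) (fun e => hx1 ((htr hx).1 e)) (by rw [← hmul hx hx, htr]; exact hx2)
      obtain ⟨j, hj⟩ := hinv (ψ ⟨y, hy⟩) (fun e => hy1 ((htr hy).1 e)) (by rw [← hmul hy hy, htr]; exact hy2)
      have := (htr (mul_mem (mul_mem hx hy) (mul_mem hx hy))).2 hprod
      rw [hmul (mul_mem hx hy) (mul_mem hx hy), hmul hx hy, hi, hj, DihedralGroup.sr_mul_sr, DihedralGroup.r_mul_r,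
        ← DihedralGroup.r_zero] at this
      injection this with this
      have e : i = j := (sub_eq_zero.1 (hinj _ this)).symm
      exact hxy (congrArg Subtype.val (ψ.injective (hi.trans (e ▸ hj.symm))))
    · obtain ⟨i, hi⟩ := hinv (ψ ⟨x, hx⟩) (fun e => hx1 ((htr hx).1 e)) (by rw [← hmul hx hx, htr]; exact hx2)
      have hy2' : ψ ⟨y, hy⟩ * ψ ⟨y, hy⟩ ≠ 1 := fun e => hy2 ((htr (mul_mem hy hy)).1 (by rw [hmul hy hy]; exact e))
      obtain ⟨j, hj⟩ : ∃ j, ψ ⟨y, hy⟩ = DihedralGroup.r j := by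
        rcases h : ψ ⟨y, hy⟩ with j | j
        · exact ⟨j, rfl⟩
        · rw [h, DihedralGroup.sr_mul_self] at hy2'; exact absurd rfl hy2'
      have : ψ ⟨x * y * x, mul_mem (mul_mem hx hy) hx⟩ = (ψ ⟨y, hy⟩)⁻¹ := by
        rw [hmul (mul_mem hx hy) hx, hmul hx hy, hi, hj, DihedralGroup.sr_mul_r, DihedralGroup.sr_mul_sr,
          DihedralGroup.inv_r]
        congr 1
        ring
      rw [← map_inv] at this
      exact congrArg Subtype.val (ψ.injective this)
  · have hodd : Odd (Fintype.card F) := by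
      rw [Nat.odd_iff]
      exact FiniteField.odd_card_of_char_ne_two fun h => h2 (by
        haveI : CharP F 2 := ringChar.of_eq h
        exact CharTwo.two_eq_zero)
    have h7 : 7 ≤ Fintype.card F := by obtain ⟨k, hk⟩ := hodd; omega
    obtain ⟨S, hS, hSS⟩ := four_two hodd hs1 hs2
    obtain ⟨Y, hY⟩ := conj_to_J hodd hSS
    set c := (π Y)⁻¹
    have hbin' := (bin_conj c rfl).1 hbin
    obtain ⟨R₀, hR₀⟩ := QuotientGroup.mk'_surjective _ (r : PSL₂ F)
    set R := Y⁻¹ * R₀ * Y with hR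
    have hR' : π R = c * (r : PSL₂ F) * c⁻¹ := by
      rw [hR, map_mul, map_mul, map_inv, show π R₀ = (r : PSL₂ F) from hR₀, inv_inv]
    have hJ' : π J = c * (s : PSL₂ F) * c⁻¹ := by
      rw [← hS, ← hY, map_mul, map_mul, map_inv]; simp only [c]; group
    have hrel : π J * π R * π J = (π R)⁻¹ := by
      rw [hJ', hR', show c * (s : PSL₂ F) * c⁻¹ * (c * (r : PSL₂ F) * c⁻¹) * (c * (s : PSL₂ F) * c⁻¹) =
        c * ((s : PSL₂ F) * (r : PSL₂ F) * (s : PSL₂ F)) * c⁻¹ by group]
      rw [show (s : PSL₂ F) * (r : PSL₂ F) * (s : PSL₂ F) = ((s * r * s : H) : PSL₂ F) by simp]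
      rw [show s * r * s = r⁻¹ by
        rw [← map_mul, ← map_mul, ← map_inv, DihedralGroup.sr_mul_r, DihedralGroup.sr_mul_sr, DihedralGroup.inv_r]
        congr 2; ring]
      rw [Subgroup.coe_inv]; group
    have hJi : (J : SL(2, F))⁻¹ = -J := inv_eq_of_mul_eq_one_right (by rw [mul_neg, J_sq, neg_neg])
    have hRt : tr R ^ 2 ≠ 4 := fun h => by
      have h1 := pow_p_of_tr (ringChar F) h
      rw [hR', conj_pow, conj_eq_one_iff] at h1
      have hr : r ^ ringChar F = 1 := Subtype.ext (by rw [Subgroup.coe_pow]; exact h1)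
      have := orderOf_dvd_of_pow_eq_one hr
      rw [show orderOf r = n by rw [MulEquiv.orderOf_eq, DihedralGroup.orderOf_r_one]] at this
      rcases (Nat.dvd_prime hpp).1 this with e | e
      · exact hn1 e
      · exact hp (e ▸ dvd_rfl)
    have hsym : R.1 0 1 = R.1 1 0 := by
      obtain ⟨i0, i1, i2, i3⟩ := inv_val R
      rw [← map_mul, ← map_mul, ← map_inv] at hrel
      rcases π_eq_iff.1 hrel with e | e <;> have e00 := congrArg (fun z : SL(2, F) => z.1 0 0) e <;>
        have e01 := congrArg (fun z : SL(2, F) => z.1 0 1) e <;>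
        simp only [val_neg, val_mul, i0, i1, i2, i3, J, sl00, sl01, sl10, sl11] at e00 e01
      · exfalso
        -- the rotation would commute with the reflection
        have htr : R.1 0 0 + R.1 1 1 = 0 := by
          have h := congrArg tr e
          rw [tr_inv] at h
          simp only [tr, val_mul, J, sl00, sl01, sl10, sl11] at h
          refine (mul_eq_zero.1 (show (2 : F) * (R.1 0 0 + R.1 1 1) = 0 by linear_combination h)).resolve_left h2
        have hd := det_eq_one R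
        have h11 : R.1 1 1 = 0 := (mul_eq_zero.1 (show (2 : F) * R.1 1 1 = 0 by
          linear_combination e00)).resolve_left h2
        have h00 : R.1 0 0 = 0 := by linear_combination htr - h11
        have h10 : R.1 1 0 = -R.1 0 1 := by linear_combination -e01
        rw [h00, h10] at hd
        have hJR : π R = π J := by
          rw [π_eq_iff]
          rcases mul_self_eq_one_iff.1 (show R.1 0 1 * R.1 0 1 = 1 by linear_combination hd) with h | h
          · left; refine ext_four ?_ ?_ ?_ ?_ <;> simp [J, sl00, sl01, sl10, sl11, h00, h10, h, h11]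
          · right; refine ext_four ?_ ?_ ?_ ?_ <;> simp [val_neg, J, sl00, sl01, sl10, sl11, h00, h10, h, h11]
        rw [hJ', hR'] at hJR
        have := ψ.symm.injective (Subtype.ext (mul_left_cancel (mul_right_cancel hJR)) : r = s)
        cases this
      · linear_combination -e01
    refine dihedral_odd hodd h7 (H := H.map (MulAut.conj c).toMonoidHom) ⟨s, s.2, hJ'.symm⟩ hsym hRt
      (fun T hT => ?_) hbin'
    obtain ⟨x, hx, e⟩ := hT
    rw [MulEquiv.coe_toMonoidHom, MulAut.conj_apply] at e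
    have hzc : ∀ j : ℕ, c * ((r ^ j : H) : PSL₂ F) * c⁻¹ = π (R ^ j) := fun j => by
      rw [map_pow, hR', conj_pow, Subgroup.coe_pow]
    rcases h : ψ ⟨x, hx⟩ with j | j
    · left
      haveI : NeZero n := ⟨hn⟩
      have hxr : (⟨x, hx⟩ : H) = r ^ j.val := ψ.injective (by
        rw [h, map_pow, MulEquiv.apply_symm_apply, DihedralGroup.r_one_pow, ZMod.natCast_zmod_val])
      rw [show x = ((r ^ j.val : H) : PSL₂ F) from congrArg Subtype.val hxr, hzc] at e
      rcases π_eq_iff.1 e with e' | e' <;> rw [e']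
      · exact (Commute.refl R).pow_left _
      · exact ((Commute.refl R).pow_left _).neg_left
    · right
      haveI : NeZero n := ⟨hn⟩
      have hxr : (⟨x, hx⟩ : H) = s * r ^ j.val := ψ.injective (by
        rw [h, map_mul, map_pow, MulEquiv.apply_symm_apply, MulEquiv.apply_symm_apply, DihedralGroup.r_one_pow,
          ZMod.natCast_zmod_val, DihedralGroup.sr_mul_r, zero_add])
      rw [show x = ((s * r ^ j.val : H) : PSL₂ F) from congrArg Subtype.val hxr, Subgroup.coe_mul,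
        show c * ((s : PSL₂ F) * ((r ^ j.val : H) : PSL₂ F)) * c⁻¹ =
          (c * (s : PSL₂ F) * c⁻¹) * (c * ((r ^ j.val : H) : PSL₂ F) * c⁻¹) by group, ← hJ', hzc, ← map_mul] at e
      rcases π_eq_iff.1 e with e' | e' <;> rw [e']
      · rw [← mul_assoc, J_sq, neg_one_mul]
        exact ((Commute.refl R).pow_left _).neg_left
      · rw [mul_neg, ← mul_assoc, J_sq, neg_one_mul, neg_neg]
        exact (Commute.refl R).pow_left _

theorem not_dvd_of_hk {n : ℕ} (hk : n ∣ (Fintype.card F + 1) / Nat.gcd 2 (Fintype.card F - 1) ∨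
    n ∣ (Fintype.card F - 1) / Nat.gcd 2 (Fintype.card F - 1)) : ¬ ringChar F ∣ n := by
  intro h
  have hpp : (ringChar F).Prime := CharP.char_is_prime F (ringChar F)
  obtain ⟨m, -, hq⟩ := FiniteField.card F (ringChar F)
  have h1 : ringChar F ∣ Fintype.card F := hq ▸ dvd_pow_self _ m.pos.ne'
  have hone := Fintype.one_lt_card (α := F)
  have hg : ∀ k, Nat.gcd 2 (Fintype.card F - 1) ∣ k → n ∣ k / Nat.gcd 2 (Fintype.card F - 1) → ringChar F ∣ k :=
    fun k hk hn => (h.trans hn).trans (Nat.div_dvd_of_dvd hk)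
  have hgd := Nat.gcd_dvd_right 2 (Fintype.card F - 1)
  have hgd' : Nat.gcd 2 (Fintype.card F - 1) ∣ Fintype.card F + 1 := by
    have := Nat.dvd_add hgd (Nat.gcd_dvd_left 2 (Fintype.card F - 1))
    rwa [show Fintype.card F - 1 + 2 = Fintype.card F + 1 by omega] at this
  have key : ringChar F ∣ 1 := by
    rcases hk with hk | hk
    · exact (Nat.dvd_add_right h1).1 (hg _ hgd' hk)
    · have := Nat.dvd_sub h1 (hg _ hgd hk)
      rwa [show Fintype.card F - (Fintype.card F - 1) = 1 by omega] at this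
  exact hpp.one_lt.ne' (Nat.dvd_one.1 key)

/-- The binary coset actions of `PSL₂`. -/
theorem main (h4 : 4 ≤ Fintype.card F) (h5 : Fintype.card F ≠ 5) {H : Subgroup (PSL₂ F)} (hH : H ≠ ⊤) :
    Bin H ↔ H = ⊥ ∨ Good H := by
  classical
  constructor
  · intro hbin
    refine or_iff_not_imp_left.2 fun hne => ?_
    set p := ringChar F with hpdef
    haveI : Fact p.Prime := ⟨CharP.char_is_prime F p⟩
    rcases Cfsg.Lib.Classical.PSLDickson.dickson_rat p (q := Fintype.card F) rfl H with h | h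
    · rcases h with ⟨h, hk⟩ | ⟨n, hn, ⟨ψ⟩, hk⟩ | ⟨P, h⟩ | ⟨⟨ψ⟩⟩ | ⟨⟨ψ⟩⟩ | ⟨⟨ψ⟩⟩
      · exact Or.inr (cyclic_case h (not_dvd_of_hk hk) hne hbin)
      · exact dihedral_case h4 h5 hne hn ψ (not_dvd_of_hk hk) hbin
      · obtain ⟨c, hc⟩ := borel_case p P h
        exact good_of_upper c hc hne hbin
      · exact absurd hbin (altFour_all h4 h5 ψ)
      · exact absurd hbin (symFour_all h4 h5 ψ)
      · by_cases hp : p = 2 ∨ p = 5
        · exact absurd hbin (rat_case h4 h5 hH (Cfsg.Lib.Classical.PSLDickson.altFive_rat p rfl H ψ hp))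
        · push Not at hp
          exact absurd hbin (altFive_case (by
            rw [Nat.odd_iff]; exact FiniteField.odd_card_of_char_ne_two hp.1) h4 h5 ψ)
    · exact absurd hbin (rat_case h4 h5 hH h)
  · rintro (rfl | ⟨⟨a, ha⟩, P, rfl⟩ | ⟨⟨a, ha, hq⟩, h3⟩)
    · exact bin_bot
    · have h2 := two_zero ha
      haveI : CharP F 2 := charTwo h2
      haveI : Fact (Nat.Prime 2) := ⟨Nat.prime_two⟩
      have hU : Nat.card (uSub : Subgroup (PSL₂ F)) = Fintype.card F := card_uSub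
      rcases good_of_card h2 hU with ⟨-, Q, hQ⟩ | ⟨-, h⟩
      · obtain ⟨c, hc⟩ := MulAction.exists_smul_eq (PSL₂ F) Q P
        refine (bin_conj c ?_).1 (hQ ▸ bin_uSub (F := F))
        rw [← hc, Sylow.coe_subgroup_smul]
        rfl
      · rw [hU] at h; omega
    · have h2 := two_zero hq
      haveI : CharP F 2 := charTwo h2
      haveI : Fact (Nat.Prime 3) := ⟨Nat.prime_three⟩
      haveI := isCyclic_of_prime_card (p := 3) h3
      obtain ⟨⟨g, hgH⟩, hg⟩ := IsCyclic.exists_generator (α := H)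
      have hHz : Subgroup.zpowers g = H := by
        refine le_antisymm (Subgroup.zpowers_le.2 hgH) fun x hx => ?_
        obtain ⟨k, hk⟩ := Subgroup.mem_zpowers_iff.1 (hg ⟨x, hx⟩)
        exact ⟨k, congrArg Subtype.val hk⟩
      have ho : orderOf g = 3 := by rw [← Nat.card_zpowers, hHz, h3]
      obtain ⟨L, hL, hLt⟩ := lift_three (l := g) (fun e => by rw [e, orderOf_one] at ho; omega)
        (ho ▸ pow_orderOf_eq_one g)
      obtain ⟨c, hc⟩ := isConj_iff.1 (π_conj_of_tr (s := comp (1 : F)) (t := L)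
        (by rw [tr_comp]; intro e; exact one_ne_zero (α := F) (by linear_combination e + 2 * h2))
        (Or.inl (by rw [hLt, tr_comp, CharTwo.neg_eq])))
      refine (bin_conj c ?_).1 (bin_order_three ((no_omega_iff hq).1 ha))
      rw [MonoidHom.map_zpowers, MulEquiv.coe_toMonoidHom, MulAut.conj_apply, hc, hL, hHz]

end Cfsg.Lib.PSLBinary
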