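import Cfsg.Agent.Suz.Binary.Generic
import Cfsg.Agent.Classical.Misc.PSLFourGroupsMain
import Mathlib

/-!
Binary actions of `PSL₂`: a sufficient criterion, traces and centralisers.
-/

set_option autoImplicit false
set_option linter.unusedSectionVars false
set_option linter.style.haveILetI false

namespace Cfsg.Lib.PSLBinary

open Cfsg.Lib.Suz.Binary Cfsg.Lib.Classical.PSLFour
open scoped MatrixGroups

/-- A criterion for binary actions. -/
theorem bin_of_comm {G : Type*} [Group G] (H : Subgroup G)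
    (hex : ∀ a b : G, (∃ c, c⁻¹ * a * c ∈ H) → (∃ c, c⁻¹ * b * c ∈ H) → (∃ c, c⁻¹ * (a⁻¹ * b) * c ∈ H) →
      Commute a b)
    (hcent : ∀ h ∈ H, h ≠ 1 → ∀ y, (∃ c, c⁻¹ * y * c ∈ H) → Commute h y → y ∈ H)
    (hcomm : ∀ x ∈ H, ∀ y ∈ H, Commute x y) : Bin H := by
  have hne : ∀ {g x : G}, x ≠ 1 → g⁻¹ * x * g ≠ 1 := fun {g x} h e => h (by
    calc x = g * (g⁻¹ * x * g) * g⁻¹ := by group
      _ = 1 := by rw [e]; group)
  have hpush : ∀ {g x y : G}, Commute x y → Commute (g⁻¹ * x * g) (g⁻¹ * y * g) := fun {g x y} h => by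
    simpa using h.map (MulAut.conj g⁻¹).toMonoidHom
  have hTI : ∀ g h x : G, x ≠ 1 → g⁻¹ * x * g ∈ H → h⁻¹ * x * h ∈ H → ∀ y, g⁻¹ * y * g ∈ H → h⁻¹ * y * h ∈ H := by
    intro g h x hx hg hh y hy
    have hc : Commute x y := by
      have := (hcomm _ hg _ hy).map (MulAut.conj g).toMonoidHom
      simpa [mul_assoc] using this
    exact hcent _ hh (hne hx) _ ⟨h⁻¹ * g, by simpa [mul_assoc] using hy⟩ (hpush hc)
  intro n I J hn hpair
  choose c hc using fun i => QuotientGroup.mk_surjective (I i)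
  have hstab : ∀ i (x : G), x • I i = I i ↔ (c i)⁻¹ * x * c i ∈ H := fun i x => by
    rw [← hc i]; exact smul_mk_eq_iff _ _ _
  set z : Fin n := ⟨0, by omega⟩
  by_cases hall : ∀ i (x : G), x • I z = I z → x • I i = I i
  · obtain ⟨g, hg, -⟩ := hpair z ⟨1, by omega⟩ (by simp [z, Fin.ext_iff])
    refine ⟨g, fun i => ?_⟩
    rcases eq_or_ne i z with rfl | hi
    · exact hg
    obtain ⟨g', hgi, hgz⟩ := hpair i z hi
    have := hall i (g'⁻¹ * g) (by rw [mul_smul, hg, ← hgz, inv_smul_smul])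
    rwa [mul_smul, inv_smul_eq_iff, hgi] at this
  · push Not at hall
    obtain ⟨j, w, hwz, hwj⟩ := hall
    have hjz : z ≠ j := fun e => hwj (e ▸ hwz)
    obtain ⟨g, hgz, hgj⟩ := hpair z j hjz
    refine ⟨g, fun k => ?_⟩
    rcases eq_or_ne k z with rfl | hkz
    · exact hgz
    rcases eq_or_ne k j with rfl | hkj
    · exact hgj
    obtain ⟨u, huk, huz⟩ := hpair k z hkz
    obtain ⟨v, hvk, hvj⟩ := hpair k j hkj
    suffices (g⁻¹ * u) • I k = I k by rwa [mul_smul, huk, inv_smul_eq_iff, eq_comm] at this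
    have ha : (g⁻¹ * u) • I z = I z := by rw [mul_smul, huz, ← hgz, inv_smul_smul]
    have hb : (g⁻¹ * v) • I j = I j := by rw [mul_smul, hvj, ← hgj, inv_smul_smul]
    have hab : (u⁻¹ * v) • I k = I k := by rw [mul_smul, hvk, ← huk, inv_smul_smul]
    rw [show u⁻¹ * v = (g⁻¹ * u)⁻¹ * (g⁻¹ * v) by group] at hab
    rw [ne_eq, hstab] at hwj
    rw [hstab] at ha hb hab hwz ⊢
    generalize g⁻¹ * u = a at ha hab ⊢
    generalize g⁻¹ * v = b at hb hab
    rcases eq_or_ne a 1 with rfl | ha1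
    · simp
    rcases eq_or_ne b 1 with rfl | hb1
    · rw [mul_one] at hab
      have := inv_mem hab
      simpa [mul_assoc] using this
    have hb' := hcent _ ha (hne ha1) ((c z)⁻¹ * b * c z) ⟨(c z)⁻¹ * c j, by simpa [mul_assoc] using hb⟩
      (hpush (hex a b ⟨_, ha⟩ ⟨_, hb⟩ ⟨_, hab⟩))
    exact absurd (hTI (c z) (c j) b hb1 hb' hb w hwz) hwj

variable {F : Type*} [Field F]

/-- The trace of a matrix of determinant one. -/
def tr (s : SL(2, F)) : F := s.1 0 0 + s.1 1 1

theorem tr_neg (s : SL(2, F)) : tr (-s) = -tr s := by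
  simp only [tr, val_neg]; ring

/-- The companion matrix. -/
def comp (τ : F) : SL(2, F) := sl 0 (-1) 1 τ (by ring)

theorem tr_comp (τ : F) : tr (comp τ) = τ := by simp [tr, comp, sl00, sl11]

theorem inv_val (s : SL(2, F)) : (s⁻¹).1 0 0 = s.1 1 1 ∧ (s⁻¹).1 0 1 = -s.1 0 1 ∧ (s⁻¹).1 1 0 = -s.1 1 0 ∧
    (s⁻¹).1 1 1 = s.1 0 0 := by
  rw [Matrix.SpecialLinearGroup.coe_inv, Matrix.adjugate_fin_two]
  simp

theorem tr_inv (s : SL(2, F)) : tr s⁻¹ = tr s := by
  obtain ⟨h0, -, -, h1⟩ := inv_val s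
  rw [tr, tr, h0, h1, add_comm]

/-- Every element is a square in characteristic two. -/
theorem exists_sq [Fintype F] [CharP F 2] (x : F) : ∃ y : F, y ^ 2 = x :=
  (Finite.injective_iff_surjective.1 (frobenius_inj F 2) x).imp fun y h => by simpa [frobenius_def] using h

/-- A binary quadratic form with nonzero discriminant represents one. -/
theorem quad_one [Fintype F] (a b c : F) (hd : b * b - 4 * a * c ≠ 0) :
    ∃ x y : F, a * x * x + b * x * y + c * y * y = 1 := by
  classical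
  rcases eq_or_ne a 0 with rfl | ha
  · have hb : b ≠ 0 := fun e => hd (by rw [e]; ring)
    exact ⟨(1 - c) / b, 1, by field_simp; ring⟩
  by_cases h2 : ringChar F = 2
  · haveI : CharP F 2 := ringChar.of_eq h2
    obtain ⟨x, hx⟩ := exists_sq a⁻¹
    exact ⟨x, 0, by rw [mul_zero, mul_zero, add_zero, add_zero, mul_assoc, ← pow_two, hx, mul_inv_cancel₀ ha]⟩
  · have h20 : (2 : F) ≠ 0 := Ring.two_ne_zero h2
    obtain ⟨u, y, h⟩ := FiniteField.exists_root_sum_quadratic
      (f := (Polynomial.X : Polynomial F) ^ 2)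
      (g := Polynomial.C (-(b * b - 4 * a * c)) * Polynomial.X ^ 2 + Polynomial.C 0 * Polynomial.X +
        Polynomial.C (-(4 * a))) (Polynomial.degree_X_pow 2)
      (Polynomial.degree_quadratic (neg_ne_zero.2 hd)) (FiniteField.odd_card_of_char_ne_two h2)
    simp at h
    refine ⟨(u - b * y) / (2 * a), y, ?_⟩
    field_simp
    linear_combination h

/-- An element with distinct eigenvalues is conjugate to a companion matrix. -/
theorem conj_comp [Fintype F] (t : SL(2, F)) (ht : tr t ^ 2 ≠ 4) : IsConj (comp (tr t)) t := by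
  have hdet := det_eq_one t
  obtain ⟨x, y, h⟩ := quad_one (t.1 1 0) (t.1 1 1 - t.1 0 0) (-t.1 0 1) (fun e => ht (by
    rw [tr]
    linear_combination e + 4 * hdet))
  have hx : x * (t.1 1 0 * x + t.1 1 1 * y) - (t.1 0 0 * x + t.1 0 1 * y) * y = 1 := by linear_combination h
  refine isConj_iff.2 ⟨sl x (t.1 0 0 * x + t.1 0 1 * y) y (t.1 1 0 * x + t.1 1 1 * y) hx, ?_⟩
  rw [mul_inv_eq_iff_eq_mul]
  refine ext_four ?_ ?_ ?_ ?_ <;> simp [val_mul, comp, tr, sl00, sl01, sl10, sl11]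
  · linear_combination x * hdet
  · linear_combination y * hdet

/-- Elements with the same trace up to sign are conjugate. -/
theorem π_conj_of_tr [Fintype F] {s t : SL(2, F)} (hs : tr s ^ 2 ≠ 4) (h : tr t = tr s ∨ tr t = -tr s) :
    IsConj (π s) (π t) := by
  have h1 := MonoidHom.map_isConj (π : SL(2, F) →* _) (conj_comp s hs)
  rcases h with h | h
  · have h2 := conj_comp t (by rwa [h])
    rw [h] at h2
    exact h1.symm.trans (MonoidHom.map_isConj (π : SL(2, F) →* _) h2)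
  · have h2 := conj_comp (-t) (by rwa [tr_neg, h, neg_neg])
    rw [tr_neg, h, neg_neg] at h2
    have h3 := h1.symm.trans (MonoidHom.map_isConj (π : SL(2, F) →* _) h2)
    rwa [π_neg] at h3

theorem commute_iff {x y : SL(2, F)} : Commute x y ↔ x.1 0 1 * y.1 1 0 = y.1 0 1 * x.1 1 0 ∧
    x.1 0 1 * (y.1 0 0 - y.1 1 1) = y.1 0 1 * (x.1 0 0 - x.1 1 1) ∧
    x.1 1 0 * (y.1 0 0 - y.1 1 1) = y.1 1 0 * (x.1 0 0 - x.1 1 1) := by
  constructor
  · intro h
    have e0 := congrArg (fun z : SL(2, F) => z.1 0 0) h.eq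
    have e1 := congrArg (fun z : SL(2, F) => z.1 0 1) h.eq
    have e2 := congrArg (fun z : SL(2, F) => z.1 1 0) h.eq
    simp only [val_mul] at e0 e1 e2
    exact ⟨by linear_combination e0, by linear_combination -e1, by linear_combination e2⟩
  · rintro ⟨h0, h1, h2⟩
    refine ext_four ?_ ?_ ?_ ?_ <;> simp only [val_mul]
    · linear_combination h0
    · linear_combination -h1
    · linear_combination h2
    · linear_combination -h0

/-- The centraliser of an element outside the centre is commutative. -/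
theorem commute_of_common {t x y : SL(2, F)} (ht : π t ≠ 1) (hx : Commute x t) (hy : Commute y t) : Commute x y := by
  rw [commute_iff] at hx hy ⊢
  obtain ⟨a0, a1, a2⟩ := hx
  obtain ⟨b0, b1, b2⟩ := hy
  rcases ne_or_eq (t.1 0 1) 0 with h | h
  · refine ⟨?_, ?_, ?_⟩ <;> apply mul_left_cancel₀ h
    · linear_combination x.1 0 1 * (-b0) + y.1 0 1 * a0
    · linear_combination x.1 0 1 * (-b1) + y.1 0 1 * a1
    · linear_combination (y.1 0 0 - y.1 1 1) * (-a0) + y.1 1 0 * a1 + x.1 0 1 * (-b2)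
  rcases ne_or_eq (t.1 1 0) 0 with h' | h'
  · refine ⟨?_, ?_, ?_⟩ <;> apply mul_left_cancel₀ h'
    · linear_combination y.1 1 0 * a0 + x.1 1 0 * (-b0)
    · linear_combination (y.1 0 0 - y.1 1 1) * a0 + x.1 1 0 * (-b1) + y.1 0 1 * a2
    · linear_combination x.1 1 0 * (-b2) + y.1 1 0 * a2
  have hd : t.1 0 0 - t.1 1 1 ≠ 0 := fun e => ht (by
    have hdet := det_eq_one t
    rw [h', mul_zero, sub_zero, sub_eq_zero.1 e, ← pow_two] at hdet
    rw [π_one_iff]
    rcases sq_eq_one_iff.1 hdet with e' | e'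
    · exact Or.inl (ext_four (by simp [sub_eq_zero.1 e, e']) (by simp [h]) (by simp [h']) (by simp [e']))
    · exact Or.inr (ext_four (by simp [val_neg, sub_eq_zero.1 e, e']) (by simp [val_neg, h])
        (by simp [val_neg, h']) (by simp [val_neg, e'])))
  simp only [h, h', zero_mul, mul_eq_zero, hd, or_false] at a1 a2 b1 b2
  simp [a1, a2, b1, b2]

end Cfsg.Lib.PSLBinary
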