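import Cfsg.Agent.PSLBinary.Basic
import Mathlib

/-!
Cosets of a cyclic subgroup of order prime to the characteristic.
-/

set_option autoImplicit false
set_option linter.unusedSectionVars false
set_option linter.style.haveILetI false

namespace Cfsg.Lib.PSLBinary

open Cfsg.Lib.Suz.Binary Cfsg.Lib.Classical.PSLFour
open scoped MatrixGroups

variable {F : Type*} [Field F]

theorem tr_mul_comm (x y : SL(2, F)) : tr (x * y) = tr (y * x) := by
  simp only [tr, val_mul]; ring

theorem tr_conj (x y : SL(2, F)) : tr (x * y * x⁻¹) = tr y := by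
  rw [tr_mul_comm, ← mul_assoc, inv_mul_cancel, one_mul]

/-- Three conjugates of a generator forming a triangle. -/
theorem cyclic_cert [Fintype F] {s A B : SL(2, F)} (hs : tr s ^ 2 ≠ 4) (hA : tr A = tr s ∨ tr A = -tr s)
    (hB : tr B = tr s ∨ tr B = -tr s) (hAB : tr (A⁻¹ * B) = tr s ∨ tr (A⁻¹ * B) = -tr s)
    (hne : ¬ Commute A B) : ¬ Bin (Subgroup.zpowers (π s)) := by
  obtain ⟨g1, e1⟩ := isConj_iff.1 (π_conj_of_tr hs hA)
  obtain ⟨g2, e2⟩ := isConj_iff.1 (π_conj_of_tr hs hB)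
  obtain ⟨g3, e3⟩ := isConj_iff.1 (π_conj_of_tr hs hAB)
  have key : ∀ {X : SL(2, F)} {g d : _}, g * π s * g⁻¹ = π X → g⁻¹ * d * g ∈ Subgroup.zpowers (π s) →
      ∃ D, π D = d ∧ Commute D X := by
    intro X g d e hd
    obtain ⟨g, rfl⟩ := QuotientGroup.mk'_surjective _ g
    obtain ⟨n, hn⟩ := Subgroup.mem_zpowers_iff.1 hd
    refine ⟨g * s ^ n * g⁻¹, ?_, ?_⟩
    · rw [map_mul, map_mul, map_inv, map_zpow, hn]; group
    · have hc : Commute (g * s ^ n * g⁻¹) (g * s * g⁻¹) := by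
        simpa using ((Commute.refl s).zpow_left n).map (MulAut.conj g).toMonoidHom
      rw [π_conj, π_eq_iff] at e
      rcases e with e | e <;> rw [e]
      · exact hc
      · exact hc.neg_right
  have hin : ∀ {g x : Matrix.ProjectiveSpecialLinearGroup (Fin 2) F}, g * π s * g⁻¹ = x →
      g⁻¹ * x * g ∈ Subgroup.zpowers (π s) := fun {g x} e => by
    rw [← e, show g⁻¹ * (g * π s * g⁻¹) * g = π s by group]
    exact Subgroup.mem_zpowers _
  refine not_bin_three _ g1 g2 g3 (π A) (π B) (hin e1) (hin e2) (by rw [← map_inv, ← map_mul]; exact hin e3)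
    fun d hd1 hd2 hd3 => ?_
  obtain ⟨D, rfl, hDA⟩ := key e1 hd1
  obtain ⟨D', hD', hDB⟩ := key e2 hd2
  have hDB' : Commute D B := by
    rcases π_eq_iff.1 hD' with e | e <;> rw [e]
    · exact hDB
    · exact hDB.neg_left
  have hd : π D = 1 := by
    by_contra h
    exact hne (commute_of_common h hDA.symm hDB'.symm)
  rw [hd, inv_one, one_mul] at hd3
  obtain ⟨C, hC, hCX⟩ := key e3 hd3
  have hA' : Commute A (A⁻¹ * B) := by
    rcases π_eq_iff.1 hC with e | e
    · subst e; exact hCX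
    · have := hCX.neg_left
      rwa [← e] at this
  have := (Commute.refl A).mul_right hA'
  rw [mul_inv_cancel_left] at this
  exact hne this

/-- Matrices with prescribed traces. -/
theorem exists_tr [Fintype F] (τ σ ρ : F) (hτ : τ ^ 2 ≠ 4) :
    ∃ B : SL(2, F), tr B = σ ∧ tr ((comp τ)⁻¹ * B) = ρ := by
  classical
  suffices ∃ x y : F, x * (σ - x) - y * (ρ - τ * x + y) = 1 by
    obtain ⟨x, y, h⟩ := this
    refine ⟨sl x y (ρ - τ * x + y) (σ - x) h, by simp [tr, sl00, sl11], ?_⟩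
    obtain ⟨i0, i1, i2, i3⟩ := inv_val (comp τ)
    simp only [tr, val_mul, i0, i1, i2, i3]
    simp [comp, sl00, sl01, sl10, sl11]
    ring
  by_cases h2 : ringChar F = 2
  · haveI : CharP F 2 := ringChar.of_eq h2
    have h20 : (2 : F) = 0 := CharTwo.two_eq_zero
    have h0 : τ ≠ 0 := fun e => hτ (by rw [e]; linear_combination (-2 : F) * h20)
    obtain ⟨x, hx⟩ := exists_sq (σ ^ 2 / τ ^ 2 + ρ * (σ / τ) + 1)
    refine ⟨x, σ / τ, ?_⟩
    have e : τ * x * (σ / τ) = σ * x := by field_simp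
    linear_combination (-1 : F) * hx + e + (σ * x - σ ^ 2 / τ ^ 2 - ρ * (σ / τ) - 1) * h20
  · have h20 : (2 : F) ≠ 0 := Ring.two_ne_zero h2
    obtain ⟨u, x, h⟩ := FiniteField.exists_root_sum_quadratic
      (f := (Polynomial.X : Polynomial F) ^ 2)
      (g := Polynomial.C (-(τ ^ 2 - 4)) * Polynomial.X ^ 2 + Polynomial.C (-(4 * σ - 2 * τ * ρ)) * Polynomial.X +
        Polynomial.C (-(ρ ^ 2 - 4))) (Polynomial.degree_X_pow 2)
      (Polynomial.degree_quadratic (neg_ne_zero.2 (sub_ne_zero.2 hτ))) (FiniteField.odd_card_of_char_ne_two h2)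
    simp at h
    refine ⟨x, (u - (ρ - τ * x)) / 2, ?_⟩
    field_simp
    linear_combination -h

/-- The invariant of a commuting pair. -/
theorem kappa {τ σ ρ : F} {B : SL(2, F)} (hσ : tr B = σ) (hρ : tr ((comp τ)⁻¹ * B) = ρ) (h : Commute (comp τ) B) :
    τ ^ 2 + σ ^ 2 + ρ ^ 2 - τ * σ * ρ - 4 = 0 := by
  obtain ⟨i0, i1, i2, i3⟩ := inv_val (comp τ)
  simp only [tr, val_mul, i0, i1, i2, i3] at hρ hσ
  simp only [comp, sl00, sl01, sl10, sl11] at hρ
  obtain ⟨h0, h1, -⟩ := commute_iff.1 h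
  simp only [comp, sl00, sl01, sl10, sl11] at h0 h1
  have hd := det_eq_one B
  have hz : B.1 1 0 = -B.1 0 1 := by linear_combination -h0
  have hw : B.1 1 1 = B.1 0 0 - τ * B.1 0 1 := by linear_combination h1
  rw [hz, hw] at hd hρ
  rw [hw] at hσ
  subst hσ hρ
  linear_combination (4 - τ ^ 2) * hd

/-- Cyclic subgroups of order prime to the characteristic. -/
theorem cyclic_not_bin [Fintype F] {s : SL(2, F)} (hs : tr s ^ 2 ≠ 4)
    (hex : (2 : F) ≠ 0 ∨ tr s ≠ 1 ∨ ∃ ω : F, ω ^ 2 + ω + 1 = 0) : ¬ Bin (Subgroup.zpowers (π s)) := by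
  have key : ∀ ε : F, ε = 1 ∨ ε = -1 → (τ : F) → τ = tr s →
      τ ^ 2 + τ ^ 2 + (ε * τ) ^ 2 - τ * τ * (ε * τ) - 4 ≠ 0 → ¬ Bin (Subgroup.zpowers (π s)) := by
    intro ε hε τ hτ hne
    subst hτ
    obtain ⟨B, hB, hAB⟩ := exists_tr (tr s) (tr s) (ε * tr s) hs
    refine cyclic_cert hs (A := comp (tr s)) (B := B) (Or.inl (tr_comp _)) (Or.inl hB) ?_
      (fun h => hne (kappa hB hAB h))
    rcases hε with rfl | rfl
    · exact Or.inl (hAB.trans (one_mul _))
    · exact Or.inr (hAB.trans (neg_one_mul _))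
  have h2 : tr s - 2 ≠ 0 := fun e => hs (by linear_combination (tr s + 2) * e)
  have h2' : tr s + 2 ≠ 0 := fun e => hs (by linear_combination (tr s - 2) * e)
  by_cases h1 : tr s + 1 = 0
  swap
  · refine key 1 (Or.inl rfl) _ rfl ?_
    rw [show tr s ^ 2 + tr s ^ 2 + (1 * tr s) ^ 2 - tr s * tr s * (1 * tr s) - 4 =
      -((tr s + 1) * (tr s - 2) * (tr s - 2)) by ring]
    exact neg_ne_zero.2 (mul_ne_zero (mul_ne_zero h1 h2) h2)
  by_cases h20 : (2 : F) = 0
  · obtain ⟨ω, hω⟩ : ∃ ω : F, ω ^ 2 + ω + 1 = 0 := by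
      rcases hex with h | h | h
      · exact absurd h20 h
      · exact absurd (by linear_combination h1 - h20) h
      · exact h
    have hω3 : ω * ω ^ 2 - 0 * 0 = 1 := by linear_combination (ω - 1) * hω
    have hω3' : ω ^ 2 * ω - 1 * 0 = 1 := by linear_combination (ω - 1) * hω
    refine cyclic_cert hs (A := sl ω 0 0 (ω ^ 2) hω3) (B := sl (ω ^ 2) 1 0 ω hω3') ?_ ?_ ?_ ?_
    · left; simp only [tr, sl00, sl11] at h1 ⊢; linear_combination hω - h1
    · left; simp only [tr, sl00, sl11] at h1 ⊢; linear_combination hω - h1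
    · left
      obtain ⟨i0, i1, i2, i3⟩ := inv_val (sl ω 0 0 (ω ^ 2) hω3)
      simp only [tr, val_mul, i0, i1, i2, i3, sl00, sl01, sl10, sl11] at h1 ⊢
      linear_combination (ω ^ 2 - ω + 1) * hω - h1
    · intro h
      obtain ⟨-, h', -⟩ := commute_iff.1 h
      simp only [sl00, sl01, sl11] at h'
      have : (1 : F) = 0 := by linear_combination -h' + hω - ω * h20
      exact one_ne_zero this
  · refine key (-1) (Or.inr rfl) _ rfl ?_
    rw [show tr s ^ 2 + tr s ^ 2 + (-1 * tr s) ^ 2 - tr s * tr s * (-1 * tr s) - 4 =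
      (tr s - 1) * (tr s + 2) * (tr s + 2) by ring]
    refine mul_ne_zero (mul_ne_zero (fun e => h20 ?_) h2') h2'
    linear_combination h1 - e

section OrderThree

variable [CharP F 2]

theorem π_inj {x y : SL(2, F)} (h : π x = π y) : x = y := by
  rcases π_eq_iff.1 h with e | e
  · exact e.symm
  · rw [e]; exact ext_four (by simp [val_neg, CharTwo.neg_eq]) (by simp [val_neg, CharTwo.neg_eq])
      (by simp [val_neg, CharTwo.neg_eq]) (by simp [val_neg, CharTwo.neg_eq])

theorem mem_order_three {y : Matrix.ProjectiveSpecialLinearGroup (Fin 2) F}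
    (hy : y ∈ Subgroup.zpowers (π (comp (1 : F)))) :
    y = 1 ∨ y = π (comp 1) ∨ y = π (comp 1)⁻¹ := by
  have h20 : (2 : F) = 0 := CharTwo.two_eq_zero
  have h3 : (comp (1 : F)) ^ 3 = 1 := by
    refine ext_four ?_ ?_ ?_ ?_ <;>
      simp [pow_succ, val_mul, comp, sl00, sl01, sl10, sl11] <;> linear_combination (-1 : F) * h20
  obtain ⟨n, rfl⟩ := Subgroup.mem_zpowers_iff.1 hy
  rw [← map_zpow, ← Int.emod_add_mul_ediv n 3, zpow_add, zpow_mul, show (comp (1 : F)) ^ (3 : ℤ) = 1 from h3, one_zpow,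
    mul_one]
  have h0 := Int.emod_nonneg n (b := 3) (by norm_num)
  have h1 := Int.emod_lt_of_pos n (b := 3) (by norm_num)
  rcases (by omega : n % 3 = 0 ∨ n % 3 = 1 ∨ n % 3 = 2) with e | e | e <;> rw [e]
  · exact Or.inl (by simp)
  · exact Or.inr (Or.inl (by simp))
  · refine Or.inr (Or.inr (congrArg π (eq_inv_of_mul_eq_one_left ?_)))
    rw [← zpow_add_one]
    exact h3

/-- A subgroup of order three without cube roots of unity. -/
theorem bin_order_three [Fintype F] (hω : ∀ ω : F, ω ^ 2 + ω + 1 ≠ 0) :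
    Bin (Subgroup.zpowers (π (comp (1 : F)))) := by
  have h20 : (2 : F) = 0 := CharTwo.two_eq_zero
  have hlift : ∀ {a}, (∃ c, c⁻¹ * a * c ∈ Subgroup.zpowers (π (comp (1 : F)))) →
      a = 1 ∨ ∃ A, π A = a ∧ tr A = 1 := by
    rintro a ⟨c, hc⟩
    obtain ⟨c, rfl⟩ := QuotientGroup.mk'_surjective _ c
    rcases mem_order_three hc with e | e | e
    · left
      calc a = π c * ((π c)⁻¹ * a * π c) * (π c)⁻¹ := by group
        _ = 1 := by rw [e]; group
    · right
      refine ⟨c * comp 1 * c⁻¹, ?_, by rw [tr_conj, tr_comp]⟩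
      rw [← π_conj, ← e]; group
    · right
      refine ⟨c * (comp 1)⁻¹ * c⁻¹, ?_, by rw [tr_conj, tr_inv, tr_comp]⟩
      rw [← π_conj, ← e]; group
  refine bin_of_comm _ (fun a b ha hb hab => ?_) (fun h hh h1 y hy hc => ?_) (fun x hx y hy => ?_)
  · rcases hlift ha with rfl | ⟨A, rfl, hA⟩
    · exact Commute.one_left _
    rcases hlift hb with rfl | ⟨B, rfl, hB⟩
    · exact Commute.one_right _
    rcases hlift hab with e | ⟨D, hD, hDt⟩
    · rw [inv_mul_eq_one.1 e]
    rw [← map_inv, ← map_mul] at hD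
    obtain rfl := π_inj hD
    by_cases hs : tr A ^ 2 = 4
    · rw [hA] at hs
      exact absurd (show (1 : F) = 0 by linear_combination hs + 2 * h20) one_ne_zero
    obtain ⟨X, hX⟩ := isConj_iff.1 (conj_comp A hs)
    rw [hA] at hX
    suffices Commute (comp (1 : F)) (X⁻¹ * B * X) by
      have h' := this.map (MulAut.conj X).toMonoidHom
      have h'' : Commute A B := by rw [← hX]; simpa [mul_assoc] using h'
      exact h''.map π
    have hσ : tr (X⁻¹ * B * X) = 1 := by rw [tr_mul_comm, mul_inv_cancel_left, hB]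
    have hρ : tr ((comp (1 : F))⁻¹ * (X⁻¹ * B * X)) = 1 := by
      rw [show (comp (1 : F))⁻¹ * (X⁻¹ * B * X) = X⁻¹ * ((X * comp 1 * X⁻¹)⁻¹ * B) * X⁻¹⁻¹ by group, tr_conj, hX,
        hDt]
    generalize X⁻¹ * B * X = E at hσ hρ
    obtain ⟨i0, i1, i2, i3⟩ := inv_val (comp (1 : F))
    simp only [tr, val_mul, i0, i1, i2, i3] at hρ hσ
    simp only [comp, sl00, sl01, sl10, sl11] at hρ
    have hd := det_eq_one E
    have hq : (E.1 0 0 + 1) ^ 2 + (E.1 0 0 + 1) * (E.1 0 1 + 1) + (E.1 0 1 + 1) ^ 2 = 0 := by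
      linear_combination -hd + E.1 0 0 * hσ - E.1 0 1 * hρ + (2 * E.1 0 0 + E.1 0 1 + 1 + E.1 0 0 * E.1 0 1) * h20
    have hv : E.1 0 1 + 1 = 0 := by
      by_contra hv
      refine hω ((E.1 0 0 + 1) / (E.1 0 1 + 1)) ?_
      field_simp
      linear_combination hq
    have hu : E.1 0 0 + 1 = 0 := by
      rw [hv, mul_zero, add_zero] at hq
      simpa using hq
    refine commute_iff.2 ?_
    simp only [comp, sl00, sl01, sl10, sl11]
    refine ⟨?_, ?_, ?_⟩
    · linear_combination -hρ + hu - (1 + E.1 0 1) * h20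
    · linear_combination hσ + hv - 2 * hu + h20
    · linear_combination -hσ + hu + hu + hu + hρ - hv + (E.1 0 1 - E.1 0 0 - 1) * h20
  · rcases hlift hy with rfl | ⟨Y, rfl, hY⟩
    · exact one_mem _
    have hc' : Commute (comp (1 : F)) Y := by
      rcases mem_order_three hh with rfl | rfl | rfl
      · exact absurd rfl h1
      · exact π_inj (by simpa using hc.eq)
      · have : Commute (comp (1 : F))⁻¹ Y := π_inj (by simpa using hc.eq)
        simpa using this.inv_left
    obtain ⟨e0, e1, -⟩ := commute_iff.1 hc'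
    simp only [comp, sl00, sl01, sl10, sl11] at e0 e1
    simp only [tr] at hY
    have hd := det_eq_one Y
    have h01 : Y.1 0 1 = 1 := by linear_combination -e1 + hY + (Y.1 0 1 - Y.1 0 0) * h20
    have h10 : Y.1 1 0 = 1 := by linear_combination -e0 - h01 - h20
    have hx : Y.1 0 0 * (Y.1 0 0 + 1) = 0 := by
      rw [h01, h10] at hd
      linear_combination hd - Y.1 0 0 * hY + (Y.1 0 0 ^ 2 + 1) * h20
    rcases mul_eq_zero.1 hx with h00 | h00
    · have : Y = comp 1 := by
        refine ext_four ?_ ?_ ?_ ?_ <;> simp only [comp, sl00, sl01, sl10, sl11]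
        · exact h00
        · linear_combination h01 + h20
        · exact h10
        · linear_combination hY - h00
      rw [this]; exact Subgroup.mem_zpowers _
    · have : Y = (comp 1)⁻¹ := by
        obtain ⟨i0, i1, i2, i3⟩ := inv_val (comp (1 : F))
        refine ext_four ?_ ?_ ?_ ?_ <;> simp only [i0, i1, i2, i3] <;> simp only [comp, sl00, sl01, sl10, sl11]
        · linear_combination h00 - h20
        · linear_combination h01
        · linear_combination h10 + h20
        · linear_combination hY - h00 + h20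
      rw [this, map_inv]; exact inv_mem (Subgroup.mem_zpowers _)
  · obtain ⟨m, rfl⟩ := Subgroup.mem_zpowers_iff.1 hx
    obtain ⟨k, rfl⟩ := Subgroup.mem_zpowers_iff.1 hy
    exact Commute.zpow_zpow_self _ _ _

end OrderThree

end Cfsg.Lib.PSLBinary
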