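import Cfsg.Agent.PSLBinary.Upper
import Mathlib

/-!
Cosets of dihedral subgroups.
-/

set_option autoImplicit false
set_option linter.unusedSectionVars false
set_option linter.style.haveILetI false

namespace Cfsg.Lib.PSLBinary

open Cfsg.Lib.Suz.Binary Cfsg.Lib.Classical.PSLFour
open scoped MatrixGroups

variable {F : Type*} [Field F]

local notation "PSL₂" k => Matrix.ProjectiveSpecialLinearGroup (Fin 2) k

theorem conj_ne {G : Type*} [Group G] {g x : G} (h : x ≠ 1) : g⁻¹ * x * g ≠ 1 := fun e => h (by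
  calc x = g * (g⁻¹ * x * g) * g⁻¹ := by group
    _ = 1 := by rw [e]; group)

section Two

variable [CharP F 2]

theorem sq_up (b : F) : π (up b) * π (up b) = 1 := by
  rw [← map_mul, up_mul, CharTwo.add_self_eq_zero, up_zero, map_one]

theorem up_ne {b : F} (hb : b ≠ 0) : π (up b) ≠ 1 := fun e =>
  hb (up_injective (e.trans (by rw [up_zero, map_one])))

theorem sq_of_commute_up {b : F} (hb : b ≠ 0) {d : PSL₂ F} (hc : Commute d (π (up b))) : d * d = 1 := by
  obtain ⟨Y, rfl⟩ := QuotientGroup.mk'_surjective _ d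
  have hc' : Commute (up b) Y := π_inj (by simpa using hc.eq.symm)
  obtain ⟨e0, e1, -⟩ := commute_iff.1 hc'
  simp only [up, sl00, sl01, sl10, sl11, mul_zero, sub_self] at e0 e1
  have h10 : Y.1 1 0 = 0 := (mul_eq_zero.1 e0).resolve_left hb
  have h00 : Y.1 0 0 = Y.1 1 1 := sub_eq_zero.1 ((mul_eq_zero.1 e1).resolve_left hb)
  have hd := det_eq_one Y
  rw [h10, mul_zero, sub_zero, ← h00, ← pow_two] at hd
  have h1' : Y.1 0 0 = 1 := by
    rcases sq_eq_one_iff.1 hd with e | e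
    · exact e
    · rw [e, CharTwo.neg_eq]
  rw [show Y = up (Y.1 0 1) from ext_four (by simp [up, sl00, h1']) (by simp [up, sl01]) (by simp [up, sl10, h10])
    (by simp [up, sl11, ← h00, h1'])]
  exact sq_up _

/-- In characteristic two the involutions are conjugate to translations. -/
theorem conj_to_up [Fintype F] {s : PSL₂ F} (h1 : s ≠ 1) (h2 : s * s = 1) : IsConj (π (up (1 : F))) s := by
  have h20 : (2 : F) = 0 := CharTwo.two_eq_zero
  obtain ⟨S, rfl⟩ := QuotientGroup.mk'_surjective _ s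
  have hS : S * S = 1 := π_inj (by rw [map_mul, map_one]; exact h2)
  have hd := det_eq_one S
  have htr : S.1 1 1 = S.1 0 0 := by
    obtain ⟨i0, -, -, -⟩ := inv_val S
    rw [inv_eq_of_mul_eq_one_right hS] at i0
    exact i0.symm
  have key : ∀ T : SL(2, F), π T ≠ 1 → T * T = 1 → T.1 1 0 = 0 → IsConj (π (up (1 : F))) (π T) := by
    intro T hT1 hT2 h10
    have hd' := det_eq_one T
    obtain ⟨i0, -, -, -⟩ := inv_val T
    rw [inv_eq_of_mul_eq_one_right hT2] at i0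
    rw [h10, mul_zero, sub_zero, ← i0, ← pow_two] at hd'
    have h00 : T.1 0 0 = 1 := by
      rcases sq_eq_one_iff.1 hd' with e | e
      · exact e
      · rw [e, CharTwo.neg_eq]
    have hT : T = up (T.1 0 1) := ext_four (by simp [up, sl00, h00]) (by simp [up, sl01]) (by simp [up, sl10, h10])
      (by simp [up, sl11, ← i0, h00])
    have hb : T.1 0 1 ≠ 0 := fun e => hT1 (by rw [hT, e, up_zero, map_one])
    obtain ⟨r, hr⟩ := exists_sq (T.1 0 1)
    refine isConj_iff.2 ⟨π (dg r fun e => hb (by rw [← hr, e]; ring)), ?_⟩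
    rw [π_conj, dg_up, hr, mul_one, ← hT]
  rcases eq_or_ne (S.1 1 0) 0 with h10 | h10
  · exact key S h1 hS h10
  set X : SL(2, F) := sl (S.1 0 0 + 1) (S.1 1 0)⁻¹ (S.1 1 0) 0 (by
    rw [inv_mul_cancel₀ h10]; linear_combination -h20) with hX
  have h10' : (X⁻¹ * S * X).1 1 0 = 0 := by
    obtain ⟨x0, x1, x2, x3⟩ := inv_val X
    simp only [val_mul, x0, x1, x2, x3]
    simp only [hX, sl00, sl01, sl10, sl11, htr]
    rw [htr] at hd
    linear_combination (-S.1 1 0) * hd + S.1 1 0 * (S.1 0 0 ^ 2 + S.1 0 0 - S.1 0 1 * S.1 1 0) * h20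
  have h := key (X⁻¹ * S * X) (by rw [map_mul, map_mul, map_inv]; exact conj_ne h1)
    (by rw [show X⁻¹ * S * X * (X⁻¹ * S * X) = X⁻¹ * (S * S) * X by group, hS]; group) h10'
  refine h.trans (isConj_iff.2 ⟨π X, ?_⟩)
  rw [π_conj]; congr 1; group

/-- A dihedral subgroup in characteristic two. -/
theorem dihedral_two [Fintype F] (h4 : 4 ≤ Fintype.card F) {H : Subgroup (PSL₂ F)} {s : PSL₂ F} (hs : s ∈ H)
    (hs1 : s ≠ 1) (hs2 : s * s = 1)
    (P1 : ∀ x ∈ H, ∀ y ∈ H, x ≠ 1 → y ≠ 1 → x * x = 1 → y * y = 1 → x ≠ y → x * y * (x * y) ≠ 1)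
    (P2 : ∀ x ∈ H, ∀ y ∈ H, x ≠ 1 → x * x = 1 → y * y ≠ 1 → x * y * x = y⁻¹) : ¬ Bin H := by
  classical
  obtain ⟨κ, -, hκ⟩ := Finset.exists_mem_notMem_of_card_lt_card
    (show ({0, 1} : Finset F).card < (Finset.univ : Finset F).card by
      rw [Finset.card_univ]; exact Finset.card_le_two.trans_lt (by omega))
  simp only [Finset.mem_insert, Finset.mem_singleton, not_or] at hκ
  have hk0 : 1 + κ ≠ 0 := fun e => hκ.2 (by rw [add_comm, CharTwo.add_eq_zero] at e; exact e)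
  have hfind : ∀ {b : F}, b ≠ 0 → ∃ g, g⁻¹ * π (up b) * g ∈ H := fun {b} hb => by
    obtain ⟨g, e⟩ := isConj_iff.1 ((conj_to_up hs1 hs2).symm.trans (conj_to_up (up_ne hb) (sq_up b)))
    exact ⟨g, by rw [← e, show g⁻¹ * (g * s * g⁻¹) * g = s by group]; exact hs⟩
  obtain ⟨g1, e1⟩ := hfind (one_ne_zero (α := F))
  obtain ⟨g2, e2⟩ := hfind hκ.1
  obtain ⟨g3, e3⟩ := hfind hk0
  have hii : (π (up (1 : F)))⁻¹ = π (up 1) := inv_eq_of_mul_eq_one_right (sq_up 1)
  have hsq : ∀ {g x : PSL₂ F}, g⁻¹ * x * g * (g⁻¹ * x * g) = 1 ↔ x * x = 1 := fun {g x} => by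
    rw [show g⁻¹ * x * g * (g⁻¹ * x * g) = g⁻¹ * (x * x) * g by group]
    exact ⟨fun h => by_contra fun h' => conj_ne h' h, fun h => by rw [h]; group⟩
  have q1 : ∀ {g x y : PSL₂ F}, g⁻¹ * x * g ∈ H → g⁻¹ * y * g ∈ H → x ≠ 1 → y ≠ 1 → x * x = 1 → y * y = 1 →
      x ≠ y → x * y * (x * y) ≠ 1 := fun {g x y} hx hy x1 y1 x2 y2 hxy h => by
    refine P1 _ hx _ hy (conj_ne x1) (conj_ne y1) (hsq.2 x2) (hsq.2 y2) (fun e => hxy ?_) ?_
    · exact mul_left_cancel (mul_right_cancel e)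
    · rw [show g⁻¹ * x * g * (g⁻¹ * y * g) * (g⁻¹ * x * g * (g⁻¹ * y * g)) =
        g⁻¹ * (x * y * (x * y)) * g by group, h]
      group
  have q2 : ∀ {g x y : PSL₂ F}, g⁻¹ * x * g ∈ H → g⁻¹ * y * g ∈ H → x ≠ 1 → x * x = 1 → y * y ≠ 1 →
      x * y * x = y⁻¹ := fun {g x y} hx hy x1 x2 y2 => by
    have h := P2 _ hx _ hy (conj_ne x1) (hsq.2 x2) (fun e => y2 (hsq.1 e))
    calc x * y * x = g * (g⁻¹ * x * g * (g⁻¹ * y * g) * (g⁻¹ * x * g)) * g⁻¹ := by group
      _ = y⁻¹ := by rw [h]; group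
  have hk : (π (up (1 : F)))⁻¹ * π (up κ) = π (up (1 + κ)) := by rw [hii, ← map_mul, up_mul]
  have hij : π (up (1 : F)) ≠ π (up κ) := fun e => hκ.2 (up_injective e).symm
  have hcomm : ∀ {x y v w : PSL₂ F}, x * x = 1 → y * y = 1 → x * v * x = w → y * v * y = w → Commute v (x * y) := by
    intro x y v w hx hy h1 h2
    show v * (x * y) = x * y * v
    have hx' := inv_eq_of_mul_eq_one_right hx
    have hy' := inv_eq_of_mul_eq_one_right hy
    calc v * (x * y) = x⁻¹ * (x * v * x) * y := by group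
      _ = x⁻¹ * (y * v * y) * y := by rw [h1, h2]
      _ = x * y * v := by rw [hx', mul_assoc, mul_assoc (y * v), hy, mul_one, ← mul_assoc]
  refine not_bin_three H g1 g2 g3 _ _ e1 e2 (by rw [hk]; exact e3) fun d hd1 hd2 hd3 => ?_
  by_cases hd : d = 1
  · rw [hd, inv_one, one_mul] at hd3
    refine q1 hd3 e3 (up_ne one_ne_zero) (up_ne hk0) (sq_up _) (sq_up _)
      (fun e => hκ.1 ?_) (by rw [← map_mul, up_mul]; exact sq_up _)
    have := up_injective e
    linear_combination -this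
  by_cases hd2' : d * d = 1
  · by_cases hdi : d = π (up 1)
    · rw [hdi] at hd2
      exact q1 hd2 e2 (up_ne one_ne_zero) (up_ne hκ.1) (sq_up _) (sq_up _) hij
        (by rw [← map_mul, up_mul]; exact sq_up _)
    have hne := q1 hd1 e1 hd (up_ne one_ne_zero) hd2' (sq_up _) hdi
    rw [inv_eq_of_mul_eq_one_right hd2'] at hd3
    have hA : g1⁻¹ * (d * π (up 1)) * g1 ∈ H := by
      rw [show g1⁻¹ * (d * π (up 1)) * g1 = (g1⁻¹ * d * g1) * (g1⁻¹ * π (up 1) * g1) by group]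
      exact mul_mem hd1 e1
    have hc := hcomm (sq_up 1) (sq_up (1 + κ)) (q2 e1 hA (up_ne one_ne_zero) (sq_up _) hne)
      (q2 e3 hd3 (up_ne hk0) (sq_up _) hne)
    rw [← map_mul, up_mul, ← add_assoc, CharTwo.add_self_eq_zero, zero_add] at hc
    exact hne (sq_of_commute_up hκ.1 hc)
  · have hc := hcomm (sq_up 1) (sq_up κ) (q2 e1 hd1 (up_ne one_ne_zero) (sq_up _) hd2')
      (q2 e2 hd2 (up_ne hκ.1) (sq_up _) hd2')
    rw [← map_mul, up_mul] at hc
    exact hd2' (sq_of_commute_up hk0 hc)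

end Two

/-- A dihedral subgroup in odd characteristic, with its reflection in standard position. -/
theorem dihedral_odd [Fintype F] (hodd : Odd (Fintype.card F)) (h7 : 7 ≤ Fintype.card F) {H : Subgroup (PSL₂ F)}
    (hJ : π J ∈ H) {R : SL(2, F)} (hR : R.1 0 1 = R.1 1 0) (hRt : tr R ^ 2 ≠ 4)
    (hel : ∀ T : SL(2, F), π T ∈ H → Commute T R ∨ Commute (J * T) R) : ¬ Bin H := by
  classical
  have h20 : (2 : F) ≠ 0 := two_ne hodd
  set u := (R.1 0 0 - R.1 1 1) / 2 with hu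
  set v := R.1 0 1 with hv
  have h2u : R.1 0 0 - R.1 1 1 = 2 * u := by rw [hu]; field_simp
  have huv : u * u + v * v ≠ 0 := fun e => hRt (by
    have hd := det_eq_one R
    rw [← hR] at hd
    rw [tr]
    linear_combination 4 * hd + 4 * e + (R.1 0 0 - R.1 1 1 + 2 * u) * h2u)
  -- a suitable second basis element
  obtain ⟨p, r, hpr, hap, hbp⟩ : ∃ p r : F, p * p + r * r = -1 ∧ u * p + v * r ≠ 0 ∧ u * r - v * p ≠ 0 := by
    obtain ⟨p0, r0, h0⟩ := exists_sum_sq hodd (-1 : F)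
    obtain ⟨t, ht⟩ : ∃ t : F, 1 + t * t ≠ 0 ∧ (u * p0 + v * r0) * (1 - t * t) + (v * p0 - u * r0) * (2 * t) ≠ 0 ∧
        (u * r0 - v * p0) * (1 - t * t) + (u * p0 + v * r0) * (2 * t) ≠ 0 := by
      open Polynomial in
      let P : F → F → F[X] := fun a b => C (-a) * X ^ 2 + C (2 * b) * X + C a
      have hP : ∀ a b, ¬ (a = 0 ∧ b = 0) → (P a b).natDegree ≤ 2 ∧ P a b ≠ 0 := by
        intro a b hab
        refine ⟨Polynomial.natDegree_quadratic_le, fun e => hab ?_⟩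
        have e0 := congrArg (fun f => Polynomial.coeff f 0) e
        have e1 := congrArg (fun f => Polynomial.coeff f 1) e
        simp [P, Polynomial.coeff_X, Polynomial.coeff_C, h20] at e0 e1
        exact ⟨e0, e1⟩
      obtain ⟨d1, n1⟩ := hP (u * p0 + v * r0) (v * p0 - u * r0) (fun h => huv (by
        linear_combination -(u * p0 + v * r0) * h.1 - (v * p0 - u * r0) * h.2 + (u * u + v * v) * h0))
      obtain ⟨d2, n2⟩ := hP (u * r0 - v * p0) (u * p0 + v * r0) (fun h => huv (by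
        linear_combination -(u * r0 - v * p0) * h.1 - (u * p0 + v * r0) * h.2 + (u * u + v * v) * h0))
      have d3 : ((Polynomial.X : Polynomial F) ^ 2 + 1).natDegree ≤ 2 := by
        rw [show (1 : Polynomial F) = Polynomial.C 1 from (map_one _).symm, Polynomial.natDegree_X_pow_add_C]
      have n3 : (Polynomial.X : Polynomial F) ^ 2 + 1 ≠ 0 := fun e => by
        have := congrArg (fun f => Polynomial.coeff f 0) e
        simp at this
      obtain ⟨t, ht⟩ : ∃ t : F, Polynomial.eval t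
          (((Polynomial.X : Polynomial F) ^ 2 + 1) * P (u * p0 + v * r0) (v * p0 - u * r0) *
            P (u * r0 - v * p0) (u * p0 + v * r0)) ≠ 0 := by
        by_contra hall
        push Not at hall
        refine mul_ne_zero (mul_ne_zero n3 n1) n2
          (Polynomial.eq_zero_of_natDegree_lt_card_of_eval_eq_zero' _ Finset.univ (fun t _ => hall t) ?_)
        rw [Finset.card_univ]
        refine lt_of_le_of_lt (Polynomial.natDegree_mul_le.trans
          (Nat.add_le_add Polynomial.natDegree_mul_le le_rfl)) ?_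
        omega
      simp only [Polynomial.eval_mul, mul_ne_zero_iff, Polynomial.eval_add, Polynomial.eval_pow, Polynomial.eval_X,
        Polynomial.eval_one, Polynomial.eval_C, P] at ht
      exact ⟨t, fun e => ht.1.1 (by linear_combination e), fun e => ht.1.2 (by linear_combination e),
        fun e => ht.2 (by linear_combination e)⟩
    refine ⟨(p0 * (1 - t * t) - r0 * (2 * t)) / (1 + t * t), (r0 * (1 - t * t) + p0 * (2 * t)) / (1 + t * t), ?_,
      fun e => ht.2.1 ?_, fun e => ht.2.2 ?_⟩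
    · have h' : (1 : F) + t ^ 2 ≠ 0 := by rw [pow_two]; exact ht.1
      have := ht.1
      field_simp
      linear_combination (1 + t * t) ^ 2 * h0
    · have h' : (1 : F) + t ^ 2 ≠ 0 := by rw [pow_two]; exact ht.1
      have := ht.1
      field_simp at e
      linear_combination e
    · have h' : (1 : F) + t ^ 2 ≠ 0 := by rw [pow_two]; exact ht.1
      have := ht.1
      field_simp at e
      linear_combination e
  set a := -(u * p + v * r) with ha
  set b := -(u * r - v * p) with hb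
  have ha0 : a ≠ 0 := neg_ne_zero.2 hap
  have hb0 : b ≠ 0 := neg_ne_zero.2 hbp
  have hua : u = a * p + b * r := by rw [ha, hb]; linear_combination u * hpr
  have hvb : v = a * r - b * p := by rw [ha, hb]; linear_combination v * hpr
  -- coordinates
  let Q : SL(2, F) → F → F → F → F → Prop := fun T w x y z =>
    T.1 0 0 = w + y * p + z * r ∧ T.1 0 1 = x + y * r - z * p ∧ T.1 1 0 = -x + y * r - z * p ∧
      T.1 1 1 = w - y * p - z * r
  have hQ : ∀ T, ∃ w x y z, Q T w x y z := fun T => by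
    refine ⟨(T.1 0 0 + T.1 1 1) / 2, (T.1 0 1 - T.1 1 0) / 2,
      -((T.1 0 0 - T.1 1 1) * p + (T.1 0 1 + T.1 1 0) * r) / 2,
      -((T.1 0 0 - T.1 1 1) * r - (T.1 0 1 + T.1 1 0) * p) / 2, ?_, ?_, ?_, ?_⟩ <;> field_simp
    · linear_combination (T.1 0 0 - T.1 1 1) * hpr
    · linear_combination (T.1 0 1 + T.1 1 0) * hpr
    · linear_combination (T.1 0 1 + T.1 1 0) * hpr
    · linear_combination -(T.1 0 0 - T.1 1 1) * hpr
  have hcomR : ∀ T w x y z, Q T w x y z → Commute T R → x = 0 ∧ a * z = b * y := by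
    intro T w x y z hT hc
    obtain ⟨e0, e1, e2, e3⟩ := hT
    obtain ⟨c0, c1, c2⟩ := commute_iff.1 hc
    rw [← hR, e1, e2] at c0
    rw [h2u, e0, e1, e3] at c1
    rw [h2u, ← hR, e0, e2, e3] at c2
    have hx : x = 0 := by
      by_contra hx
      refine huv ?_
      have h1 : 2 * x * u = 0 := mul_left_cancel₀ h20 (by linear_combination c1 - c2)
      have h2 : 2 * x * v = 0 := by linear_combination c0
      have hu0 := (mul_eq_zero.1 h1).resolve_left (mul_ne_zero h20 hx)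
      have hv0 := (mul_eq_zero.1 h2).resolve_left (mul_ne_zero h20 hx)
      rw [hu0, hv0]; ring
    refine ⟨hx, mul_left_cancel₀ h20 ?_⟩
    rw [hx] at c1
    linear_combination c1 + 2 * (-(y * r - z * p)) * hua + 2 * (y * p + z * r) * hvb + 2 * (a * z - b * y) * hpr
  have hH : ∀ T w x y z, Q T w x y z → π T ∈ H → (x = 0 ∧ a * z = b * y) ∨ (w = 0 ∧ a * y + b * z = 0) := by
    intro T w x y z hT hm
    rcases hel T hm with h | h
    · exact Or.inl (hcomR T w x y z hT h)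
    · have hJT : Q (J * T) (-x) w (-z) y := by
        obtain ⟨e0, e1, e2, e3⟩ := hT
        refine ⟨?_, ?_, ?_, ?_⟩ <;> simp only [val_mul, J, sl00, sl01, sl10, sl11, e0, e1, e2, e3] <;> ring
      obtain ⟨h1, h2⟩ := hcomR (J * T) (-x) w (-z) y hJT h
      exact Or.inr ⟨h1, by linear_combination h2⟩
  have hhalf : ((1 + p + r) / 2) * ((1 - p - r) / 2) - ((1 + r - p) / 2) * ((-1 + r - p) / 2) = 1 := by
    field_simp; linear_combination (-2 : F) * hpr
  set ω : SL(2, F) := sl ((1 + p + r) / 2) ((1 + r - p) / 2) ((-1 + r - p) / 2) ((1 - p - r) / 2) hhalf with hω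
  obtain ⟨i0, i1, i2, i3⟩ := inv_val ω
  have hrot : ∀ T w x y z, Q T w x y z → Q (ω⁻¹ * T * ω) w y z x := by
    intro T w x y z hT
    obtain ⟨e0, e1, e2, e3⟩ := hT
    refine ⟨?_, ?_, ?_, ?_⟩ <;> simp only [val_mul, i0, i1, i2, i3, e0, e1, e2, e3] <;>
      simp only [hω, sl00, sl01, sl10, sl11] <;> field_simp
    · linear_combination ((-(2 * w) + 2 * x * r - 2 * x * p - 2 * y * p - 2 * y - 2 * z * r + 2 * z) + ((2*y - 2*z) + (p - r) * (2*y - 2*z + 2*x))) * hpr
    · linear_combination ((-(2 * w) + 2 * x * r - 2 * x * p - 2 * y * p - 2 * y - 2 * z * r + 2 * z) + ((2*w - 2*y - 2*z + 2*x) + p * (4*y + 2*x) - r * (2*x))) * hpr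
    · linear_combination ((-(2 * w) + 2 * x * r - 2 * x * p - 2 * y * p - 2 * y - 2 * z * r + 2 * z) + ((2*w + 6*y - 2*z - 2*x) + p * (4*y + 2*x) - r * (2*x))) * hpr
    · linear_combination ((-(2 * w) + 2 * x * r - 2 * x * p - 2 * y * p - 2 * y - 2 * z * r + 2 * z) + ((2*y - 2*z) + p * (2*y + 2*z + 2*x) + r * (2*y + 2*z - 2*x))) * hpr
  have hJ' : p * -p - r * r = 1 := by linear_combination -hpr
  set B : SL(2, F) := sl p r r (-p) hJ' with hB
  have hQuniq : ∀ {S T w x y z}, Q S w x y z → Q T w x y z → S = T := fun {S T w x y z} hS hT =>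
    ext_four (hS.1.trans hT.1.symm) (hS.2.1.trans hT.2.1.symm) (hS.2.2.1.trans hT.2.2.1.symm)
      (hS.2.2.2.trans hT.2.2.2.symm)
  have hQJ : Q J 0 1 0 0 := by refine ⟨?_, ?_, ?_, ?_⟩ <;> simp [J, sl00, sl01, sl10, sl11]
  have hQB : Q B 0 0 1 0 := by refine ⟨?_, ?_, ?_, ?_⟩ <;> simp [hB, sl00, sl01, sl10, sl11]
  obtain ⟨j0, j1, j2, j3⟩ := inv_val (J : SL(2, F))
  have hQK : Q (-(J⁻¹ * B)) 0 0 0 1 := by
    refine ⟨?_, ?_, ?_, ?_⟩ <;> simp only [val_neg, val_mul, j0, j1, j2, j3] <;>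
      simp [hB, J, sl00, sl01, sl10, sl11]
  have hω2 : ∀ T, (π ω)⁻¹ * π T * π ω = π (ω⁻¹ * T * ω) := fun T => by rw [map_mul, map_mul, map_inv]
  refine not_bin_three H 1 (π ω) (π ω * π ω) (π J) (π B) (by simpa using hJ) ?_ ?_ fun d hd1 hd2 hd3 => ?_
  · rw [hω2, hQuniq (hrot _ _ _ _ _ hQB) hQJ]; exact hJ
  · rw [show (π ω * π ω)⁻¹ * ((π J)⁻¹ * π B) * (π ω * π ω) =
      (π ω)⁻¹ * ((π ω)⁻¹ * ((π J)⁻¹ * π B) * π ω) * π ω by group, ← map_inv (π : SL(2, F) →* _) J,
      ← map_mul (π : SL(2, F) →* _) J⁻¹, ← π_neg (J⁻¹ * B), hω2, hω2,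
      hQuniq (hrot _ _ _ _ _ (hrot _ _ _ _ _ hQK)) hQJ]
    exact hJ
  simp only [inv_one, one_mul, mul_one] at hd1
  obtain ⟨T, rfl⟩ := QuotientGroup.mk'_surjective _ d
  obtain ⟨w, x, y, z, hT⟩ := hQ T
  have hA := hH T w x y z hT hd1
  have hB' := hH _ w y z x (hrot _ _ _ _ _ hT) (by rw [← hω2]; exact hd2)
  have hTJ : Q (T⁻¹ * J) x w (-z) y := by
    obtain ⟨t0, t1, t2, t3⟩ := inv_val T
    obtain ⟨e0, e1, e2, e3⟩ := hT
    refine ⟨?_, ?_, ?_, ?_⟩ <;> simp only [val_mul, t0, t1, t2, t3, e0, e1, e2, e3, J, sl00, sl01, sl10, sl11] <;> ring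
  have hC := hH _ x y w (-z) (hrot _ _ _ _ _ (hrot _ _ _ _ _ hTJ)) (by
    rw [← hω2, ← hω2, map_mul, map_inv]
    simpa [mul_assoc] using hd3)
  have hnz : ¬ (w = 0 ∧ x = 0 ∧ y = 0 ∧ z = 0) := by
    rintro ⟨rfl, rfl, rfl, rfl⟩
    have hd := det_eq_one T
    obtain ⟨e0, e1, e2, e3⟩ := hT
    simp [e0, e1, e2, e3] at hd
  rcases hA with ⟨hx, hA⟩ | ⟨hw, hA⟩ <;> rcases hB' with ⟨hy, hB'⟩ | ⟨hw', hB'⟩
  · have hz : z = 0 := by simpa [hy, ha0] using hA
    rcases hC with ⟨-, hC⟩ | ⟨-, hC⟩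
    · have : w = 0 := by simpa [hz, hb0] using hC.symm
      exact hnz ⟨this, hx, hy, hz⟩
    · have : w = 0 := by simpa [hz, ha0] using hC
      exact hnz ⟨this, hx, hy, hz⟩
  · have hz : z = 0 := by simpa [hx, ha0] using hB'
    exact hnz ⟨hw', hx, by simpa [hz, hb0] using hA.symm, hz⟩
  · have hz : z = 0 := by simpa [hy, hb0] using hA
    exact hnz ⟨hw, by simpa [hz, ha0] using hB', hy, hz⟩
  · rcases hC with ⟨hy, hC⟩ | ⟨hx, -⟩
    · have hz : z = 0 := by simpa [hy, hb0] using hA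
      exact hnz ⟨hw, by simpa [hz, hb0] using hB', hy, hz⟩
    · have hz : z = 0 := by simpa [hx, ha0] using hB'
      exact hnz ⟨hw, hx, by simpa [hz, ha0] using hA, hz⟩

end Cfsg.Lib.PSLBinary
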