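import Cfsg.Agent.Suz.Binary.Generic
import Mathlib

/-!
Coset actions of subgroups isomorphic to `A₄`, `S₄` or `A₅` through a suborbit.
-/

set_option autoImplicit false
set_option linter.unusedSectionVars false
set_option linter.style.haveILetI false

namespace Cfsg.Lib.PSLBinary

open Cfsg.Lib.Suz.Binary Equiv

variable {G P : Type*} [Group G] [Group P]

/-- Tuples witnessing that an action on cosets is not binary. -/
theorem not_bin_tuple (K : Subgroup P) (p : P → Prop) (hp : ∀ x, x ∈ K ↔ p x) (n : ℕ) (hn : 2 ≤ n)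
    (I J : Fin n → P) (hpair : ∀ i j : Fin n, i ≠ j → ∃ g, p ((J i)⁻¹ * g * I i) ∧ p ((J j)⁻¹ * g * I j))
    (hno : ∀ g, ∃ i, ¬ p ((J i)⁻¹ * g * I i)) : ¬ Bin K := by
  have key : ∀ (g x y : P), g • (x : P ⧸ K) = (y : P ⧸ K) ↔ p (y⁻¹ * g * x) := fun g x y => by
    rw [MulAction.Quotient.smul_coe, eq_comm, QuotientGroup.eq, smul_eq_mul, ← mul_assoc]
    exact hp _
  intro hbin
  obtain ⟨g, hg⟩ := hbin n (fun i => (I i : P ⧸ K)) (fun i => (J i : P ⧸ K)) hn fun i j hij =>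
    (hpair i j hij).imp fun g h => ⟨(key _ _ _).2 h.1, (key _ _ _).2 h.2⟩
  obtain ⟨i, hi⟩ := hno g
  exact hi ((key _ _ _).1 (hg i))

/-- A suborbit which is not binary. -/
theorem suborbit (H : Subgroup G) (ψ : H ≃* P) (g : G) (K : Subgroup P)
    (hK : ∀ x : H, ψ x ∈ K ↔ g⁻¹ * (x : G) * g ∈ H) (hnb : ¬ Bin K) : ¬ Bin H := by
  intro hbin
  refine hnb fun n I J hn hpair => ?_
  choose i hi using fun m => QuotientGroup.mk_surjective (I m)
  choose j hj using fun m => QuotientGroup.mk_surjective (J m)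
  have hrel : ∀ (x : H) (u v : P), ψ x • (u : P ⧸ K) = (v : P ⧸ K) ↔
      (x : G) • ((((ψ.symm u : H) : G) * g : G) : G ⧸ H) = ((((ψ.symm v : H) : G) * g : G) : G ⧸ H) := by
    intro x u v
    rw [MulAction.Quotient.smul_coe, eq_comm, QuotientGroup.eq, MulAction.Quotient.smul_coe, eq_comm (a := QuotientGroup.mk _),
      QuotientGroup.eq, smul_eq_mul, smul_eq_mul]
    have := hK ((ψ.symm v)⁻¹ * (x * ψ.symm u))
    rw [map_mul, map_mul, map_inv, ψ.apply_symm_apply, ψ.apply_symm_apply] at this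
    rw [this]
    simp [mul_assoc]
  obtain ⟨y, hy⟩ := hbin (n + 1) (Fin.cons ((1 : G) : G ⧸ H) fun m => (((ψ.symm (i m) : H) : G) * g : G))
    (Fin.cons ((1 : G) : G ⧸ H) fun m => (((ψ.symm (j m) : H) : G) * g : G)) (by omega) (fun a b hab => by
      have hfix : ∀ x : H, (x : G) • ((1 : G) : G ⧸ H) = ((1 : G) : G ⧸ H) := fun x =>
        (smul_mk_eq_iff H _ 1).2 (by simp)
      have hone : ∀ m, ∃ x : H, ψ x • I m = J m := fun m => by
        obtain ⟨m', hm'⟩ : ∃ m', m' ≠ m := by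
          haveI : Nontrivial (Fin n) := Fin.nontrivial_iff_two_le.2 hn
          exact exists_ne m
        obtain ⟨u, hu, -⟩ := hpair m m' hm'.symm
        exact ⟨ψ.symm u, by rwa [ψ.apply_symm_apply]⟩
      induction a using Fin.cases with
      | zero =>
        induction b using Fin.cases with
        | zero => exact absurd rfl hab
        | succ m =>
          obtain ⟨x, hx⟩ := hone m
          rw [← hi, ← hj, hrel] at hx
          exact ⟨x, hfix x, by simpa using hx⟩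
      | succ m =>
        induction b using Fin.cases with
        | zero =>
          obtain ⟨x, hx⟩ := hone m
          rw [← hi, ← hj, hrel] at hx
          exact ⟨x, by simpa using hx, hfix x⟩
        | succ m' =>
          obtain ⟨u, hu, hu'⟩ := hpair m m' fun e => hab (by rw [e])
          obtain ⟨x, rfl⟩ := ψ.surjective u
          rw [← hi, ← hj, hrel] at hu hu'
          exact ⟨x, by simpa using hu, by simpa using hu'⟩)
  have h0 := hy 0
  simp only [Fin.cons_zero] at h0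
  have hyH : y ∈ H := by simpa using (smul_mk_eq_iff H y 1).1 h0
  refine ⟨ψ ⟨y, hyH⟩, fun m => ?_⟩
  rw [← hi, ← hj, hrel]
  simpa using hy m.succ

/-- The involutions generating a four group with a conjugate under an element. -/
def Spin (l v : P) : Prop := v * v = 1 ∧ v * (l * v * l⁻¹) = l * v * l⁻¹ * v ∧ l * v * l⁻¹ ≠ v

/-- The orbit under an element of order three. -/
def InO (l v w : P) : Prop := w = v ∨ w = l * v * l⁻¹ ∨ w = l⁻¹ * v * l

instance [DecidableEq P] (l v : P) : Decidable (Spin l v) :=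
  inferInstanceAs (Decidable (_ ∧ _ ∧ _))

instance [DecidableEq P] (l v w : P) : Decidable (InO l v w) :=
  inferInstanceAs (Decidable (_ ∨ _ ∨ _))

/-- The centralisers of four groups are trivial modulo themselves. -/
def FourCent (G : Type*) [Group G] : Prop :=
  ∀ v w x : G, v * v = 1 → w * w = 1 → v * w = w * v → v ≠ w → v ≠ 1 → w ≠ 1 → Commute x v → Commute x w →
    x = 1 ∨ x = v ∨ x = w ∨ x = v * w

theorem spin_map (H : Subgroup G) (ψ : H ≃* P) {l v : P} (h : Spin l v) :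
    Spin ((ψ.symm l : H) : G) ((ψ.symm v : H) : G) := by
  obtain ⟨h1, h2, h3⟩ := h
  refine ⟨?_, ?_, fun e => h3 ?_⟩
  · rw [← Subgroup.coe_mul, ← map_mul, h1, map_one, Subgroup.coe_one]
  · simp only [← Subgroup.coe_mul, ← Subgroup.coe_inv, ← map_mul, ← map_inv, h2]
  · simp only [← Subgroup.coe_mul, ← Subgroup.coe_inv, ← map_mul, ← map_inv] at e
    exact ψ.symm.injective (Subtype.ext e)

/-- An element centralising `l` and carrying a spin to a spin of the same orbit lies in the subgroup. -/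
theorem mem_of_inO (hC : FourCent G) {H : Subgroup G} {l v g : G} (hl : l ∈ H) (hv : v ∈ H) (hs : Spin l v)
    (hgl : Commute g l) (hO : InO l v (g⁻¹ * v * g)) : g ∈ H := by
  obtain ⟨h1, h2, h3⟩ := hs
  have key : ∀ g' : G, Commute g' l → Commute g' v → g' ∈ H := fun g' hl' hv' => by
    have hw : Commute g' (l * v * l⁻¹) := (hl'.mul_right hv').mul_right hl'.inv_right
    have hv1 : v ≠ 1 := fun e => h3 (by rw [e]; group)
    have hw1 : l * v * l⁻¹ ≠ 1 := fun e => hv1 (by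
      calc v = l⁻¹ * (l * v * l⁻¹) * l := by group
        _ = 1 := by rw [e]; group)
    have hwm : l * v * l⁻¹ ∈ H := mul_mem (mul_mem hl hv) (inv_mem hl)
    rcases hC v (l * v * l⁻¹) g' h1 (by rw [show l * v * l⁻¹ * (l * v * l⁻¹) = l * (v * v) * l⁻¹ by group, h1]; group)
      h2 (Ne.symm h3) hv1 hw1 hv' hw with e | e | e | e <;> rw [e]
    exacts [one_mem H, hv, hwm, mul_mem hv hwm]
  rcases hO with e | e | e
  · refine key g hgl ?_
    exact (show v * g = g * v by rw [← mul_inv_cancel_left g (v * g), ← mul_assoc g⁻¹, e]).symm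
  · have hm : g * l ∈ H := key (g * l) (hgl.mul_left (Commute.refl l)) (by
      show g * l * v = v * (g * l)
      calc g * l * v = g * (l * v * l⁻¹) * l := by group
        _ = v * (g * l) := by rw [← e]; group)
    simpa using mul_mem hm (inv_mem hl)
  · have hm : g * l⁻¹ ∈ H := key (g * l⁻¹) (hgl.mul_left (Commute.refl l).inv_left) (by
      show g * l⁻¹ * v = v * (g * l⁻¹)
      calc g * l⁻¹ * v = g * (l⁻¹ * v * l) * l⁻¹ := by group
        _ = v * (g * l⁻¹) := by rw [← e]; group)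
    simpa using mul_mem hm hl

theorem spin_conj {l v g : G} (hgl : Commute g l) (h : Spin l v) : Spin l (g⁻¹ * v * g) := by
  obtain ⟨h1, h2, h3⟩ := h
  have e : l * (g⁻¹ * v * g) * l⁻¹ = g⁻¹ * (l * v * l⁻¹) * g := by
    calc l * (g⁻¹ * v * g) * l⁻¹ = (l * g⁻¹) * v * (g * l⁻¹) := by group
      _ = (g⁻¹ * l) * v * (l⁻¹ * g) := by rw [hgl.symm.inv_right.eq, hgl.inv_right.eq]
      _ = g⁻¹ * (l * v * l⁻¹) * g := by group
  refine ⟨?_, ?_, fun h => h3 ?_⟩
  · rw [show g⁻¹ * v * g * (g⁻¹ * v * g) = g⁻¹ * (v * v) * g by group, h1]; group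
  · rw [e, show g⁻¹ * v * g * (g⁻¹ * (l * v * l⁻¹) * g) = g⁻¹ * (v * (l * v * l⁻¹)) * g by group, h2]; group
  · rw [e] at h
    exact mul_left_cancel (mul_right_cancel h)

section Setup

variable (hC : FourCent G) {H : Subgroup G} (ψ : H ≃* P) (l0 : P) {g : G}
  (hgl : Commute g ((ψ.symm l0 : H) : G))

/-- The point stabiliser in the suborbit. -/
def sub (g : G) : Subgroup P := ((H.map (MulAut.conj g).toMonoidHom).subgroupOf H).map ψ.toMonoidHom

theorem mem_sub {x : H} : ψ x ∈ sub ψ g ↔ g⁻¹ * (x : G) * g ∈ H := by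
  rw [sub, Subgroup.mem_map_equiv, MulEquiv.symm_apply_apply, Subgroup.mem_subgroupOf, Subgroup.mem_map_equiv]
  simp [mul_assoc]

theorem mem_sub' {u : P} : u ∈ sub ψ g ↔ g⁻¹ * ((ψ.symm u : H) : G) * g ∈ H := by
  rw [← mem_sub ψ, ψ.apply_symm_apply]

include hgl in
theorem l_mem : l0 ∈ sub ψ g := by
  rw [mem_sub', mul_assoc, ← hgl.eq, inv_mul_cancel_left]
  exact (ψ.symm l0).2

include hgl in
theorem spin_image {v : P} (hv : Spin l0 v) (hvK : v ∈ sub ψ g) :
    ∃ w, Spin l0 w ∧ ((ψ.symm w : H) : G) = g⁻¹ * ((ψ.symm v : H) : G) * g := by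
  rw [mem_sub'] at hvK
  refine ⟨ψ ⟨_, hvK⟩, ?_, by rw [ψ.symm_apply_apply]⟩
  obtain ⟨h1, h2, h3⟩ := spin_conj hgl (spin_map H ψ hv)
  refine ⟨?_, ?_, fun e => h3 ?_⟩
  · rw [← map_mul, ← map_one ψ]
    exact congrArg ψ (Subtype.ext h1)
  · rw [show l0 = ψ (ψ.symm l0) from (ψ.apply_symm_apply l0).symm, ← map_inv, ← map_mul, ← map_mul, ← map_mul, ← map_mul]
    exact congrArg ψ (Subtype.ext h2)
  · rw [show l0 = ψ (ψ.symm l0) from (ψ.apply_symm_apply l0).symm, ← map_inv, ← map_mul, ← map_mul] at e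
    exact congrArg Subtype.val (ψ.injective e)

include hC hgl in
theorem no_spin (hO : ∀ v : P, Spin l0 v → ∀ w : P, Spin l0 w → InO l0 v w) (hg : g ∉ H) {v : P} (hv : Spin l0 v) :
    v ∉ sub ψ g := fun hvK => by
  obtain ⟨w, hw, e⟩ := spin_image ψ l0 hgl hv hvK
  refine hg (mem_of_inO hC (ψ.symm l0).2 (ψ.symm v).2 (spin_map H ψ hv) hgl ?_)
  rw [← e]
  rcases hO v hv w hw with h | h | h <;> rw [h]
  · exact Or.inl rfl
  · exact Or.inr (Or.inl (by simp))
  · exact Or.inr (Or.inr (by simp))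

include hC hgl in
theorem not_all (hthree : ∀ v : P, Spin l0 v → ∀ x : P, Spin l0 x → ∀ y : P, Spin l0 y →
      ¬ InO l0 v x → ¬ InO l0 x y → InO l0 v y)
    (hg : g * g ∉ H) {v : P} (hv : Spin l0 v) : sub ψ g ≠ ⊤ := fun htop => by
  have hlH := (ψ.symm l0).2
  have hin : ∀ x y : P, InO l0 x y → InO ((ψ.symm l0 : H) : G) ((ψ.symm x : H) : G) ((ψ.symm y : H) : G) := by
    rintro x y (h | h | h) <;> rw [h]
    · exact Or.inl rfl
    · exact Or.inr (Or.inl (by simp))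
    · exact Or.inr (Or.inr (by simp))
  have hgH : g ∉ H := fun h => hg (mul_mem h h)
  have step : ∀ x, Spin l0 x → ∃ y, Spin l0 y ∧ ¬ InO l0 x y ∧
      ((ψ.symm y : H) : G) = g⁻¹ * ((ψ.symm x : H) : G) * g := fun x hx => by
    obtain ⟨y, hy, e⟩ := spin_image ψ l0 hgl hx (htop ▸ Subgroup.mem_top x)
    exact ⟨y, hy, fun h => hgH (mem_of_inO hC hlH (ψ.symm x).2 (spin_map H ψ hx) hgl (e ▸ hin x y h)), e⟩
  obtain ⟨x, hx, h1, e1⟩ := step v hv
  obtain ⟨y, hy, h2, e2⟩ := step x hx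
  refine hg (mem_of_inO hC hlH (ψ.symm v).2 (spin_map H ψ hv) (hgl.mul_left hgl) ?_)
  rw [show (g * g)⁻¹ * ((ψ.symm v : H) : G) * (g * g) = g⁻¹ * (g⁻¹ * ((ψ.symm v : H) : G) * g) * g by group, ← e1,
    ← e2]
  exact hin v y (hthree v hv x hx y hy h1 h2)

include hgl in
theorem no_inverting {t : P} (hinv : (ψ.symm t : G) * g * ((ψ.symm t : H) : G)⁻¹ = g⁻¹) (hg : g * g ∉ H) :
    t ∉ sub ψ g := fun htK => by
  rw [mem_sub'] at htK
  refine hg ?_
  generalize hT : ((ψ.symm t : H) : G) = T at htK hinv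
  have h1 : T * g = g⁻¹ * T := mul_inv_eq_iff_eq_mul.1 hinv
  have h2 : T⁻¹ * g⁻¹ * T = g := by rw [mul_assoc, ← h1, inv_mul_cancel_left]
  rw [show g * g = T⁻¹ * g⁻¹ * T * g by rw [h2],
    show T⁻¹ * g⁻¹ * T * g = T⁻¹ * (g⁻¹ * T * g) by group]
  exact mul_mem (inv_mem (hT ▸ (ψ.symm t).2)) htK

theorem not_bin_of_sub (h : ¬ Bin (sub ψ g)) : ¬ Bin H :=
  suborbit H ψ g (sub ψ g) (fun _ => mem_sub ψ) h

end Setup

/-! ### The three groups -/

/-- An even permutation. -/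
def ev {n : ℕ} (p : Perm (Fin n)) (h : Perm.sign p = 1) : alternatingGroup (Fin n) :=
  ⟨p, Perm.mem_alternatingGroup.2 h⟩

/-- The standard three-cycle. -/
def c4 : Perm (Fin 4) := swap 0 1 * swap 1 2

/-- The standard three-cycle. -/
def a4 : alternatingGroup (Fin 4) := ev (c4) (by decide +kernel)

/-- The standard three-cycle. -/
def a5 : alternatingGroup (Fin 5) := ev (swap 0 1 * swap 1 2) (by decide +kernel)

set_option maxRecDepth 20000

theorem altFour (hC : FourCent G) {H : Subgroup G} (ψ : H ≃* alternatingGroup (Fin 4)) {g : G}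
    (hgl : Commute g ((ψ.symm a4 : H) : G)) (hg : g ∉ H) : ¬ Bin H := by
  refine not_bin_of_sub (g := g) ψ ?_
  have hl : a4 ∈ sub ψ g := l_mem ψ a4 hgl
  have hn : ∀ v, Spin a4 v → v ∉ sub ψ g := fun v hv => no_spin hC ψ a4 hgl (by decide +kernel) hg hv
  have hcl : ∀ x : alternatingGroup (Fin 4), (x = 1 ∨ x = a4 ∨ x = a4⁻¹) ∨ Spin a4 (x * a4 * x⁻¹ * a4⁻¹) := by
    decide +kernel
  refine not_bin_tuple _ (fun x => x = 1 ∨ x = a4 ∨ x = a4⁻¹) (fun x => ⟨fun hx => ?_, ?_⟩) 3 (by norm_num)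
    ![1, ev (swap 1 2 * swap 2 3) (by decide +kernel), ev (swap 1 3 * swap 3 2) (by decide +kernel)]
    ![1, ev (swap 1 2 * swap 2 3) (by decide +kernel),
      a4 * ev (swap 1 3 * swap 3 2) (by decide +kernel)] (by decide +kernel) (by decide +kernel)
  · exact (hcl x).resolve_right fun h => hn _ h (mul_mem (mul_mem (mul_mem hx hl) (inv_mem hx)) (inv_mem hl))
  · rintro (rfl | rfl | rfl)
    exacts [one_mem _, hl, inv_mem hl]

theorem symFour (hC : FourCent G) {H : Subgroup G} (ψ : H ≃* Perm (Fin 4)) {g : G}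
    (hgl : Commute g ((ψ.symm c4 : H) : G)) (hg : g * g ∉ H)
    (hinv : ∀ t : Perm (Fin 4), t ≠ 1 → t * t = 1 → t * c4 * t = c4⁻¹ →
      ((ψ.symm t : H) : G) * g * ((ψ.symm t : H) : G)⁻¹ = g⁻¹) : ¬ Bin H := by
  refine not_bin_of_sub (g := g) ψ ?_
  have hgH : g ∉ H := fun h => hg (mul_mem h h)
  have hl : c4 ∈ sub ψ g := l_mem ψ c4 hgl
  have hn : ∀ v, Spin c4 v ∨ (v ≠ 1 ∧ v * v = 1 ∧ v * c4 * v = c4⁻¹) → v ∉ sub ψ g := by
    rintro v (hv | ⟨h1, h2, h3⟩)
    · exact no_spin hC ψ c4 hgl (by decide +kernel) hgH hv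
    · exact no_inverting ψ c4 hgl (hinv v h1 h2 h3) hg
  have hcl : ∀ x : Perm (Fin 4), (x = 1 ∨ x = c4 ∨ x = c4⁻¹) ∨ ∃ w ∈ [x * c4 * x⁻¹ * c4, x * c4 * x⁻¹ * c4⁻¹, x],
      Spin c4 w ∨ (w ≠ 1 ∧ w * w = 1 ∧ w * c4 * w = c4⁻¹) := by decide +kernel
  refine not_bin_tuple _ (fun x => x = 1 ∨ x = c4 ∨ x = c4⁻¹) (fun x => ⟨fun hx => ?_, ?_⟩) 3 (by norm_num)
    ![1, swap 2 3, swap 1 2 * swap 2 3]
    ![1, swap 2 3, c4⁻¹ * (swap 1 2 * swap 2 3)] (by decide +kernel) (by decide +kernel)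
  · rcases hcl x with h | ⟨w, hw, hbad⟩
    · exact h
    refine absurd ?_ (hn w hbad)
    simp only [List.mem_cons, List.not_mem_nil, or_false] at hw
    rcases hw with rfl | rfl | rfl
    exacts [mul_mem (mul_mem (mul_mem hx hl) (inv_mem hx)) hl,
      mul_mem (mul_mem (mul_mem hx hl) (inv_mem hx)) (inv_mem hl), hx]
  · rintro (rfl | rfl | rfl)
    exacts [one_mem _, hl, inv_mem hl]

local notation "A5" => alternatingGroup (Fin 5)

/-- The stabiliser of a point. -/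
def fixPt (i : Fin 5) : Subgroup A5 where
  carrier := {x | x.1 i = i}
  one_mem' := rfl
  mul_mem' := fun {x y} hx hy => by show x.1 (y.1 i) = i; rw [hy, hx]
  inv_mem' := fun {x} hx => by show x.1⁻¹ i = i; exact Perm.inv_eq_iff_eq.2 hx.symm

/-- The standard spins. -/
def v5 : A5 := ev (swap 0 1 * swap 2 3) (by decide +kernel)

/-- The standard spins. -/
def w5 : A5 := ev (swap 0 1 * swap 2 4) (by decide +kernel)

/-- The standard inverting involution. -/
def t5 : A5 := ev (swap 1 2 * swap 3 4) (by decide +kernel)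

theorem card_fixPt : ∀ i : Fin 5, Fintype.card {x : A5 // x.1 i = i} = 12 := by decide +kernel

theorem spin_cases : ∀ v : A5, Spin a5 v →
    v ∈ [v5, a5 * v5 * a5⁻¹, a5⁻¹ * v5 * a5, w5, a5 * w5 * a5⁻¹, a5⁻¹ * w5 * a5] := by decide +kernel

theorem three_orbits (v : A5) (hv : Spin a5 v) (x : A5) (hx : Spin a5 x) (y : A5) (hy : Spin a5 y) :
    ¬ InO a5 v x → ¬ InO a5 x y → InO a5 v y := by
  have hv' := spin_cases v hv
  have hx' := spin_cases x hx
  have hy' := spin_cases y hy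
  simp only [List.mem_cons, List.not_mem_nil, or_false] at hv' hx' hy'
  clear hv hx hy
  rcases hv' with rfl | rfl | rfl | rfl | rfl | rfl <;> rcases hx' with rfl | rfl | rfl | rfl | rfl | rfl <;>
    rcases hy' with rfl | rfl | rfl | rfl | rfl | rfl <;> decide +kernel

set_option maxHeartbeats 1600000 in
theorem altFive (hC : FourCent G) {H : Subgroup G} (ψ : H ≃* A5) {g : G}
    (hgl : Commute g ((ψ.symm a5 : H) : G)) (hg : g ∉ H)
    (hN : g * g ∉ H ∨ ∃ x ∈ H, g⁻¹ * x * g ∉ H) : ¬ Bin H := by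
  refine not_bin_of_sub (g := g) ψ ?_
  have hl : a5 ∈ sub ψ g := l_mem ψ a5 hgl
  have hne : sub ψ g ≠ ⊤ := by
    rcases hN with h | ⟨x, hx, hx'⟩
    · exact not_all hC ψ a5 hgl three_orbits h (v := v5) (by decide +kernel)
    · exact fun e => hx' ((mem_sub ψ (x := ⟨x, hx⟩)).1 (e ▸ Subgroup.mem_top _))
  -- a point stabiliser contained in the suborbit stabiliser is all of it
  have hfix : ∀ i : Fin 5, fixPt i ≤ sub ψ g → ∀ x, x ∈ sub ψ g ↔ x.1 i = i := by
    intro i hle x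
    refine ⟨fun hx => ?_, fun h => hle h⟩
    by_contra hni
    refine hne (Subgroup.eq_top_of_card_eq _ ?_)
    have h12 : Nat.card (fixPt i) = 12 := by
      rw [show Nat.card (fixPt i) = Nat.card {x : A5 // x.1 i = i} from rfl, Nat.card_eq_fintype_card]
      exact card_fixPt i
    have h60 : Nat.card A5 = 60 := by rw [nat_card_alternatingGroup, Nat.card_fin]; rfl
    obtain ⟨a, ha⟩ := Subgroup.card_dvd_of_le hle
    obtain ⟨b, hb⟩ := Subgroup.card_subgroup_dvd_card (sub ψ g)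
    have hlt : Nat.card (fixPt i) < Nat.card (sub ψ g) := by
      by_contra hlt
      exact hni ((Subgroup.eq_of_le_of_card_ge hle (not_lt.1 hlt)).symm ▸ hx : x ∈ fixPt i)
    rw [h12] at ha hlt
    rw [h60, ha] at hb
    rw [h60]
    have h5 : (5 : ℕ).Prime := by norm_num
    rcases h5.eq_one_or_self_of_dvd a ⟨b, by linarith⟩ with rfl | rfl <;> omega
  have hnb : ∀ i : Fin 5, i = 3 ∨ i = 4 → fixPt i ≤ sub ψ g → ¬ Bin (sub ψ g) := by
    intro i hi hle
    rcases hi with rfl | rfl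
    · refine not_bin_tuple _ (fun x => x.1 3 = 3) (hfix 3 hle) 4 (by norm_num)
        ![ev (swap 3 0 * swap 1 2) (by decide +kernel), ev (swap 3 1 * swap 0 2) (by decide +kernel),
          ev (swap 3 2 * swap 0 1) (by decide +kernel), ev (swap 3 4 * swap 0 1) (by decide +kernel)]
        ![ev (swap 3 1 * swap 0 2) (by decide +kernel), ev (swap 3 0 * swap 1 2) (by decide +kernel),
          ev (swap 3 2 * swap 0 1) (by decide +kernel), ev (swap 3 4 * swap 0 1) (by decide +kernel)]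
        (by decide +kernel) (by decide +kernel)
    · refine not_bin_tuple _ (fun x => x.1 4 = 4) (hfix 4 hle) 4 (by norm_num)
        ![ev (swap 4 0 * swap 1 2) (by decide +kernel), ev (swap 4 1 * swap 0 2) (by decide +kernel),
          ev (swap 4 2 * swap 0 1) (by decide +kernel), ev (swap 4 3 * swap 0 1) (by decide +kernel)]
        ![ev (swap 4 1 * swap 0 2) (by decide +kernel), ev (swap 4 0 * swap 1 2) (by decide +kernel),
          ev (swap 4 2 * swap 0 1) (by decide +kernel), ev (swap 4 3 * swap 0 1) (by decide +kernel)]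
        (by decide +kernel) (by decide +kernel)
  have hgen : ∀ x : A5, (x.1 4 = 4 → ∃ a ∈ [1, v5, a5 * v5 * a5⁻¹, a5⁻¹ * v5 * a5], ∃ b ∈ [1, a5, a5⁻¹], x = a * b) ∧
      (x.1 3 = 3 → ∃ a ∈ [1, w5, a5 * w5 * a5⁻¹, a5⁻¹ * w5 * a5], ∃ b ∈ [1, a5, a5⁻¹], x = a * b) := by
    decide +kernel
  have hmem : ∀ v, v ∈ sub ψ g → ∀ x : A5, (∃ a ∈ [1, v, a5 * v * a5⁻¹, a5⁻¹ * v * a5], ∃ b ∈ [1, a5, a5⁻¹],
      x = a * b) → x ∈ sub ψ g := by
    rintro v hv x ⟨a, ha, b, hb, rfl⟩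
    simp only [List.mem_cons, List.not_mem_nil, or_false] at ha hb
    refine mul_mem ?_ ?_
    · rcases ha with rfl | rfl | rfl | rfl
      exacts [one_mem _, hv, mul_mem (mul_mem hl hv) (inv_mem hl), mul_mem (mul_mem (inv_mem hl) hv) hl]
    · rcases hb with rfl | rfl | rfl
      exacts [one_mem _, hl, inv_mem hl]
  by_cases hv : v5 ∈ sub ψ g
  · exact hnb 4 (Or.inr rfl) fun x hx => hmem v5 hv x ((hgen x).1 hx)
  by_cases hw : w5 ∈ sub ψ g
  · exact hnb 3 (Or.inl rfl) fun x hx => hmem w5 hw x ((hgen x).2 hx)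
  have horb : ∀ z, z ∉ sub ψ g → a5 * z * a5⁻¹ ∉ sub ψ g ∧ a5⁻¹ * z * a5 ∉ sub ψ g := fun z hz =>
    ⟨fun h => hz (by simpa [mul_assoc] using mul_mem (mul_mem (inv_mem hl) h) hl),
      fun h => hz (by simpa [mul_assoc] using mul_mem (mul_mem hl h) (inv_mem hl))⟩
  have hspin : ∀ z, Spin a5 z → z ∉ sub ψ g := by
    have hall : ∀ z, Spin a5 z → InO a5 v5 z ∨ InO a5 w5 z := fun z hz => by
      have := spin_cases z hz
      simp only [List.mem_cons, List.not_mem_nil, or_false] at this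
      unfold InO; tauto
    intro z hz
    rcases hall z hz with (rfl | rfl | rfl) | (rfl | rfl | rfl)
    exacts [hv, (horb _ hv).1, (horb _ hv).2, hw, (horb _ hw).1, (horb _ hw).2]
  have hnor : ∀ x : A5, x * a5 * x⁻¹ = a5 ∨ x * a5 * x⁻¹ = a5⁻¹ ∨
      ∃ w ∈ [x * x * x * a5 * x * a5⁻¹ * x⁻¹, x * a5 * x⁻¹ * a5, x * x * a5⁻¹ * x⁻¹], Spin a5 w := by
    decide +kernel
  have hup : ∀ x ∈ sub ψ g, x * a5 * x⁻¹ = a5 ∨ x * a5 * x⁻¹ = a5⁻¹ := fun x hx => by
    rcases hnor x with h | h | ⟨w, hw', hs⟩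
    · exact Or.inl h
    · exact Or.inr h
    refine absurd ?_ (hspin w hs)
    simp only [List.mem_cons, List.not_mem_nil, or_false] at hw'
    rcases hw' with rfl | rfl | rfl
    exacts [mul_mem (mul_mem (mul_mem (mul_mem (mul_mem (mul_mem hx hx) hx) hl) hx) (inv_mem hl)) (inv_mem hx),
      mul_mem (mul_mem (mul_mem hx hl) (inv_mem hx)) hl, mul_mem (mul_mem (mul_mem hx hx) (inv_mem hl)) (inv_mem hx)]
  by_cases ht : t5 ∈ sub ψ g
  · refine not_bin_tuple _ (fun x => x * a5 * x⁻¹ = a5 ∨ x * a5 * x⁻¹ = a5⁻¹) (fun x => ⟨hup x, fun h => ?_⟩) 3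
      (by norm_num)
      ![1, ev (swap 2 3 * swap 3 4) (by decide +kernel), ev (swap 2 4 * swap 4 3) (by decide +kernel)]
      ![1, ev (swap 2 3 * swap 3 4) (by decide +kernel),
        t5 * ev (swap 2 4 * swap 4 3) (by decide +kernel)] (by decide +kernel) (by decide +kernel)
    have hd : ∀ x : A5, (x * a5 * x⁻¹ = a5 ∨ x * a5 * x⁻¹ = a5⁻¹) →
        x ∈ [1, a5, a5⁻¹, t5, t5 * a5, t5 * a5⁻¹] := by decide +kernel
    have hx := hd x h
    simp only [List.mem_cons, List.not_mem_nil, or_false] at hx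
    rcases hx with rfl | rfl | rfl | rfl | rfl | rfl
    exacts [one_mem _, hl, inv_mem hl, ht, mul_mem ht hl, mul_mem ht (inv_mem hl)]
  · refine not_bin_tuple _ (fun x => x = 1 ∨ x = a5 ∨ x = a5⁻¹) (fun x => ⟨fun hx => ?_, ?_⟩) 3 (by norm_num)
      ![1, ev (swap 2 3 * swap 3 4) (by decide +kernel), ev (swap 1 2 * swap 2 3) (by decide +kernel)]
      ![1, ev (swap 2 3 * swap 3 4) (by decide +kernel),
        a5⁻¹ * ev (swap 1 2 * swap 2 3) (by decide +kernel)] (by decide +kernel) (by decide +kernel)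
    · have hd : ∀ x : A5, (x * a5 * x⁻¹ = a5 ∨ x * a5 * x⁻¹ = a5⁻¹) →
          (x = 1 ∨ x = a5 ∨ x = a5⁻¹) ∨ (t5 = x ∨ t5 = x * a5 ∨ t5 = x * a5⁻¹) := by decide +kernel
      refine (hd x (hup x hx)).resolve_right ?_
      rintro (e | e | e) <;> refine ht (e ▸ ?_)
      exacts [hx, mul_mem hx hl, mul_mem hx (inv_mem hl)]
    · rintro (rfl | rfl | rfl)
      exacts [one_mem _, hl, inv_mem hl]

end Cfsg.Lib.PSLBinary
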