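import Cfsg.Agent.PSLBinary.Cyclic
import Cfsg.Agent.PSLBinary.Platonic
import Mathlib

/-!
Centralisers of four groups and of elements of order three in `PSL₂` in odd characteristic.
-/

set_option autoImplicit false
set_option linter.unusedSectionVars false
set_option linter.style.haveILetI false

namespace Cfsg.Lib.PSLBinary

open Cfsg.Lib.Classical.PSLFour
open scoped MatrixGroups

variable {F : Type*} [Field F] [Fintype F]

local notation "PSL₂" k => Matrix.ProjectiveSpecialLinearGroup (Fin 2) k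

theorem four_cent (hodd : Odd (Fintype.card F)) : FourCent (PSL₂ F) := by
  intro v w x hv hw hvw hne hv1 hw1 hxv hxw
  obtain ⟨g, h, rfl, rfl, hp⟩ := lift_pair hodd hv hw hvw hv1 hw1 hne
  obtain ⟨X, rfl⟩ := QuotientGroup.mk'_surjective _ x
  have hgh : ¬ Commute g h := fun hc => neg_ne hodd (g * h) (by
    nth_rw 1 [hc.eq]; exact hp.2.2.symm)
  have hdo : ∀ {Y : SL(2, F)}, Commute Y g → Commute Y h → π Y = 1 := fun {Y} h1 h2 => by
    by_contra h0
    exact hgh (commute_of_common h0 h1.symm h2.symm)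
  have hhg : h * g = -(g * h) := by rw [hp.2.2, neg_neg]
  rcases π_eq_iff.1 ((map_mul π X g).trans (hxv.eq.trans (map_mul π g X).symm)) with e1 | e1 <;>
    rcases π_eq_iff.1 ((map_mul π X h).trans (hxw.eq.trans (map_mul π h X).symm)) with e2 | e2
  · exact Or.inl (hdo (e1.symm) (e2.symm))
  · -- anticommutes with `h`
    right; left
    have h1 : Commute (X * g) g := by
      show X * g * g = g * (X * g)
      rw [← mul_assoc, e1]
    have h2 : Commute (X * g) h := by
      show X * g * h = h * (X * g)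
      rw [← mul_assoc, e2, neg_mul, mul_assoc X h, hhg, mul_neg, neg_neg, ← mul_assoc]
    have := hdo h1 h2
    rw [map_mul] at this
    rw [← mul_left_inj (π g), this, hv]
  · right; right; left
    have h1 : Commute (X * h) g := by
      show X * h * g = g * (X * h)
      rw [← mul_assoc, e1, neg_mul, mul_assoc X h, hhg, mul_assoc X g, mul_neg]
    have h2 : Commute (X * h) h := by
      show X * h * h = h * (X * h)
      rw [← mul_assoc, e2]
    have := hdo h1 h2
    rw [map_mul] at this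
    rw [← mul_left_inj (π h), this, hw]
  · right; right; right
    have h1 : Commute (X * (g * h)) g := by
      show X * (g * h) * g = g * (X * (g * h))
      rw [← mul_assoc g X, e1, neg_mul, mul_assoc X (g * h), mul_assoc g h, hhg, mul_neg, mul_neg, mul_assoc X g]
    have h2 : Commute (X * (g * h)) h := by
      show X * (g * h) * h = h * (X * (g * h))
      rw [← mul_assoc h X, e2, neg_mul, mul_assoc X h, ← mul_assoc h g, hhg, neg_mul, mul_neg, neg_neg, mul_assoc]
    have := hdo h1 h2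
    rw [map_mul, map_mul] at this
    have hinv : π X = (π g * π h)⁻¹ := eq_inv_of_mul_eq_one_left this
    rw [hinv, mul_inv_rev, inv_eq_of_mul_eq_one_right hv, inv_eq_of_mul_eq_one_right hw, hvw]

theorem π_cube {G : SL(2, F)} (h : tr G ^ 2 = 1) : π G ^ 3 = 1 := by
  have hd := det_eq_one G
  simp only [tr] at h
  rw [← map_pow, π_one_iff, pow_succ, pow_two]
  rcases sq_eq_one_iff.1 h with e | e
  · right
    refine ext_four ?_ ?_ ?_ ?_ <;> simp [val_mul, val_neg]
    · linear_combination (G.1 0 0 + 1) * e - (2 * G.1 0 0 + G.1 1 1) * hd + G.1 0 0 * (G.1 0 0 + G.1 1 1) * e - 2 * e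
    · linear_combination G.1 0 1 * h - G.1 0 1 * hd
    · linear_combination G.1 1 0 * h - G.1 1 0 * hd
    · linear_combination (G.1 1 1 + 1) * e - (G.1 0 0 + 2 * G.1 1 1) * hd + G.1 1 1 * (G.1 0 0 + G.1 1 1) * e - 2 * e
  · left
    refine ext_four ?_ ?_ ?_ ?_ <;> simp [val_mul]
    · linear_combination (1 - G.1 0 0) * e - (2 * G.1 0 0 + G.1 1 1) * hd + G.1 0 0 * (G.1 0 0 + G.1 1 1) * e - 2 * e
    · linear_combination G.1 0 1 * h - G.1 0 1 * hd
    · linear_combination G.1 1 0 * h - G.1 1 0 * hd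
    · linear_combination (1 - G.1 1 1) * e - (G.1 0 0 + 2 * G.1 1 1) * hd + G.1 1 1 * (G.1 0 0 + G.1 1 1) * e - 2 * e

/-- A lift of an element of order three. -/
theorem lift_three {l : PSL₂ F} (hl : l ≠ 1) (hl3 : l ^ 3 = 1) : ∃ L : SL(2, F), π L = l ∧ tr L = -1 := by
  obtain ⟨L, rfl⟩ := QuotientGroup.mk'_surjective _ l
  suffices ∀ M : SL(2, F), π M ≠ 1 → M * M * M = 1 → tr M = -1 by
    rw [← map_pow, π_one_iff, pow_succ, pow_two] at hl3
    rcases hl3 with e | e
    · exact ⟨L, rfl, this L hl e⟩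
    · exact ⟨-L, π_neg L, this (-L) (by rw [π_neg]; exact hl) (by rw [neg_mul_neg, mul_neg, e, neg_neg])⟩
  intro M hM h
  have hd := det_eq_one M
  have e := fun i j => congrArg (fun z : SL(2, F) => z.1 i j) h
  have e00 := e 0 0
  have e01 := e 0 1
  have e10 := e 1 0
  have e11 := e 1 1
  simp [val_mul] at e00 e01 e10 e11
  have t01 : M.1 0 1 * (tr M ^ 2 - 1) = 0 := by rw [tr]; linear_combination e01 + M.1 0 1 * hd
  have t10 : M.1 1 0 * (tr M ^ 2 - 1) = 0 := by rw [tr]; linear_combination e10 + M.1 1 0 * hd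
  have td : (M.1 0 0 - M.1 1 1) * (tr M ^ 2 - 1) = 0 := by
    rw [tr]; linear_combination e00 - e11 + (M.1 0 0 - M.1 1 1) * hd
  have hτ : tr M ^ 2 - 1 = 0 := by
    by_contra h0
    refine hM (π_one_iff.2 ?_)
    have a1 := (mul_eq_zero.1 t01).resolve_right h0
    have a2 := (mul_eq_zero.1 t10).resolve_right h0
    have a3 := sub_eq_zero.1 ((mul_eq_zero.1 td).resolve_right h0)
    rw [a2, mul_zero, sub_zero, a3, ← pow_two] at hd
    rcases sq_eq_one_iff.1 hd with e | e
    · exact Or.inl (ext_four (by simp [a3, e]) (by simp [a1]) (by simp [a2]) (by simp [e]))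
    · exact Or.inr (ext_four (by simp [val_neg, a3, e]) (by simp [val_neg, a1]) (by simp [val_neg, a2])
        (by simp [val_neg, e]))
  rw [tr] at hτ ⊢
  linear_combination -e00 + M.1 0 0 * hτ - (2 * M.1 0 0 + M.1 1 1) * hd

theorem commute_of_π {l : PSL₂ F} {L : SL(2, F)} (hL : π L = l) (ht : tr L = -1) (h20 : (2 : F) ≠ 0)
    {G : SL(2, F)} (h : Commute (π G) l) : Commute G L := by
  rw [← hL] at h
  rcases π_eq_iff.1 ((map_mul π G L).trans (h.eq.trans (map_mul π L G).symm)) with e | e
  · exact e.symm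
  · exfalso
    have h' : tr (G * L * G⁻¹) = tr (-L) := by
      congr 1
      rw [mul_inv_eq_iff_eq_mul, neg_mul, e, neg_neg]
    rw [tr_conj, tr_neg, ht, neg_neg] at h'
    exact h20 (by linear_combination -h')

/-- An involution inverting an element of order three inverts its centraliser. -/
theorem inverts_cent (hodd : Odd (Fintype.card F)) {l t g : PSL₂ F} (hl : l ≠ 1) (hl3 : l ^ 3 = 1)
    (hlt : t * l * t = l⁻¹) (ht : t * t = 1) (hg : Commute g l) : t * g * t⁻¹ = g⁻¹ := by
  have h20 := two_ne (F := F) hodd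
  obtain ⟨L, hL, hLt⟩ := lift_three hl hl3
  obtain ⟨G, rfl⟩ := QuotientGroup.mk'_surjective _ g
  obtain ⟨T, rfl⟩ := QuotientGroup.mk'_surjective _ t
  have hc := commute_of_π hL hLt h20 hg
  have hti : (π T)⁻¹ = π T := inv_eq_of_mul_eq_one_right ht
  have hTL : T * L * T⁻¹ = L⁻¹ := by
    have h : π (T * L * T⁻¹) = π L⁻¹ := by rw [← π_conj, map_inv, hL, hti]; exact hlt
    rcases π_eq_iff.1 h with e | e
    · exact e.symm
    · exfalso
      have h' := congrArg tr e
      rw [tr_inv, tr_neg, tr_conj, hLt, neg_neg] at h'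
      exact h20 (by linear_combination -h')
  rw [π_conj, ← map_inv]
  congr 1
  rw [mul_inv_eq_iff_eq_mul] at hTL ⊢
  obtain ⟨c0, c1, c2⟩ := commute_iff.1 hc
  obtain ⟨i0, i1, i2, i3⟩ := inv_val L
  obtain ⟨j0, j1, j2, j3⟩ := inv_val G
  have k00 := congrArg (fun z : SL(2, F) => z.1 0 0) hTL
  have k01 := congrArg (fun z : SL(2, F) => z.1 0 1) hTL
  have k10 := congrArg (fun z : SL(2, F) => z.1 1 0) hTL
  have k11 := congrArg (fun z : SL(2, F) => z.1 1 1) hTL
  simp only [val_mul, i0, i1, i2, i3] at k00 k01 k10 k11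
  have hL0 : ∀ z : F, L.1 0 1 * z = 0 → L.1 1 0 * z = 0 → (L.1 0 0 - L.1 1 1) * z = 0 → z = 0 := by
    intro z a b c
    by_contra hz
    refine hl (hL ▸ π_one_iff.2 ?_)
    have a1 := (mul_eq_zero.1 a).resolve_right hz
    have a2 := (mul_eq_zero.1 b).resolve_right hz
    have a3 := sub_eq_zero.1 ((mul_eq_zero.1 c).resolve_right hz)
    have hd := det_eq_one L
    rw [a2, mul_zero, sub_zero, a3, ← pow_two] at hd
    rcases sq_eq_one_iff.1 hd with e | e
    · exact Or.inl (ext_four (by simp [a3, e]) (by simp [a1]) (by simp [a2]) (by simp [e]))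
    · exact Or.inr (ext_four (by simp [val_neg, a3, e]) (by simp [val_neg, a1]) (by simp [val_neg, a2])
        (by simp [val_neg, e]))
  refine ext_four ?_ ?_ ?_ ?_ <;> simp only [val_mul, j0, j1, j2, j3] <;> refine sub_eq_zero.1 (hL0 _ ?_ ?_ ?_)
  · linear_combination G.1 0 1 * k00 - T.1 0 0 * c1 - T.1 0 1 * c0
  · linear_combination G.1 1 0 * k00 - T.1 0 0 * c2 + T.1 1 0 * c0
  · linear_combination (G.1 0 0 - G.1 1 1) * k00 + T.1 0 1 * c2 + T.1 1 0 * c1
  · linear_combination G.1 0 1 * k01 + T.1 0 0 * c0 * 0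
  · linear_combination G.1 1 0 * k01 + (T.1 0 0 + T.1 1 1) * c0
  · linear_combination (G.1 0 0 - G.1 1 1) * k01 + (T.1 0 0 + T.1 1 1) * c1
  · linear_combination G.1 0 1 * k10 - (T.1 0 0 + T.1 1 1) * c0
  · linear_combination G.1 1 0 * k10
  · linear_combination (G.1 0 0 - G.1 1 1) * k10 + (T.1 0 0 + T.1 1 1) * c2
  · linear_combination G.1 0 1 * k11 + T.1 1 1 * c1 - T.1 0 1 * c0
  · linear_combination G.1 1 0 * k11 + T.1 1 1 * c2 + T.1 1 0 * c0
  · linear_combination (G.1 0 0 - G.1 1 1) * k11 + T.1 1 0 * c1 + T.1 0 1 * c2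

/-- Many elements centralising an element of order three. -/
theorem cent_family (hodd : Odd (Fintype.card F)) {l : PSL₂ F} (hl : l ≠ 1) (hl3 : l ^ 3 = 1) :
    ∃ S : Finset SL(2, F), Fintype.card F ≤ S.card + 2 ∧
      ∀ G ∈ S, Commute (π G) l ∧ ((3 : F) = 0 → tr G ^ 2 = 1) := by
  classical
  obtain ⟨L, hL, ht⟩ := lift_three hl hl3
  have hd := det_eq_one L
  simp only [tr] at ht
  let D : F → F := fun t => t * t - t + 1
  let x : F → F := fun t => (t * t - 1) / D t
  let y : F → F := fun t => t * (t - 2) / D t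
  have hnorm : ∀ t, D t ≠ 0 → x t * x t - x t * y t + y t * y t = 1 := fun t h => by
    obtain ⟨d, hd'⟩ : ∃ d, D t = d := ⟨_, rfl⟩
    rw [hd'] at h
    simp only [x, y, hd']
    field_simp
    rw [← hd']
    ring
  have hxy : ∀ t, D t ≠ 0 → y t = t * (x t - 1) := fun t h => by
    obtain ⟨d, hd'⟩ : ∃ d, D t = d := ⟨_, rfl⟩
    rw [hd'] at h
    simp only [x, y, hd']
    field_simp
    rw [← hd']
    ring
  have hx1 : ∀ t, D t ≠ 0 → x t = 1 → t = 2 := fun t h e => by
    simp only [x] at e
    rw [div_eq_one_iff_eq h] at e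
    simp only [D] at e
    linear_combination e
  let M : F → SL(2, F) := fun t => if h : D t ≠ 0 then
      sl (x t + y t * L.1 0 0) (y t * L.1 0 1) (y t * L.1 1 0) (x t + y t * L.1 1 1) (by
        linear_combination hnorm t h + (x t * y t) * ht + y t * y t * hd)
    else 1
  have hM : ∀ t, D t ≠ 0 → (M t).1 0 0 = x t + y t * L.1 0 0 ∧ (M t).1 0 1 = y t * L.1 0 1 ∧
      (M t).1 1 0 = y t * L.1 1 0 ∧ (M t).1 1 1 = x t + y t * L.1 1 1 := fun t h => by
    simp only [M, dif_pos h]
    exact sl_val _ _ _ _ _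
  refine ⟨(Finset.univ.filter fun t => D t ≠ 0).image M, ?_, ?_⟩
  · rw [Finset.card_image_of_injOn]
    · have h2 : (Finset.univ.filter fun t => ¬ D t ≠ 0).card ≤ 2 := by
        open Polynomial in
        have hne : (X ^ 2 - X + 1 : F[X]) ≠ 0 := fun e => by
          have := congrArg (fun f => Polynomial.coeff f 0) e
          simp at this
        refine le_trans ?_ (show (X ^ 2 - X + 1 : Polynomial F).natDegree ≤ 2 by compute_degree!)
        refine le_trans (Finset.card_le_card (t := (Polynomial.X ^ 2 - Polynomial.X + 1 : Polynomial F).roots.toFinset) ?_)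
          ((Multiset.toFinset_card_le _).trans (Polynomial.card_roots' _))
        intro t ht'
        simp only [Finset.mem_filter, not_not, D] at ht'
        rw [Multiset.mem_toFinset, Polynomial.mem_roots hne]
        simp [Polynomial.IsRoot, pow_two, ht'.2]
      have := Finset.card_filter_add_card_filter_not (s := (Finset.univ : Finset F)) (fun t => D t ≠ 0)
      rw [Finset.card_univ] at this
      omega
    · intro s hs t ht' e
      simp only [Finset.coe_filter, Finset.mem_univ, true_and, Set.mem_setOf_eq] at hs ht'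
      obtain ⟨a0, a1, a2, a3⟩ := hM s hs
      rw [e] at a0 a1 a2 a3
      obtain ⟨b0, b1, b2, b3⟩ := hM t ht'
      have hy : y t = y s := by
        by_contra hne
        have h0 := sub_ne_zero.2 hne
        refine hl (hL ▸ π_one_iff.2 ?_)
        have c1 : L.1 0 1 = 0 := (mul_eq_zero.1 (show (y t - y s) * L.1 0 1 = 0 by
          linear_combination a1 - b1)).resolve_left h0
        have c2 : L.1 1 0 = 0 := (mul_eq_zero.1 (show (y t - y s) * L.1 1 0 = 0 by
          linear_combination a2 - b2)).resolve_left h0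
        have c3 : L.1 0 0 = L.1 1 1 := sub_eq_zero.1 ((mul_eq_zero.1 (show (y t - y s) * (L.1 0 0 - L.1 1 1) = 0 by
          linear_combination a0 - b0 - a3 + b3)).resolve_left h0)
        rw [c2, mul_zero, sub_zero, c3, ← pow_two] at hd
        rcases sq_eq_one_iff.1 hd with e | e
        · exact Or.inl (ext_four (by simp [c3, e]) (by simp [c1]) (by simp [c2]) (by simp [e]))
        · exact Or.inr (ext_four (by simp [val_neg, c3, e]) (by simp [val_neg, c1]) (by simp [val_neg, c2])
            (by simp [val_neg, e]))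
      have hx : x t = x s := by linear_combination a0 - b0 - L.1 0 0 * hy
      by_cases hs1 : x s = 1
      · rw [hx1 s hs hs1, hx1 t ht' (hx.trans hs1)]
      · exact mul_right_cancel₀ (sub_ne_zero.2 hs1) (by rw [← hxy s hs, ← hy, hxy t ht', hx])
  · intro G hG
    simp only [Finset.mem_image, Finset.mem_filter, Finset.mem_univ, true_and] at hG
    obtain ⟨t, hD, rfl⟩ := hG
    obtain ⟨b0, b1, b2, b3⟩ := hM t hD
    refine ⟨?_, fun h3 => ?_⟩
    · rw [← hL]
      refine (commute_iff.2 ⟨?_, ?_, ?_⟩).map π <;> simp only [b0, b1, b2, b3] <;> ring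
    · simp only [tr, b0, b3]
      linear_combination 4 * hnorm t hD + (4 * x t * y t + y t ^ 2 * (L.1 0 0 + L.1 1 1 - 1)) * ht +
        (1 - y t * y t) * h3

/-- An element centralising an element of order three outside its group. -/
theorem exists_cent (hodd : Odd (Fintype.card F)) (h9 : 9 ≤ Fintype.card F) {l : PSL₂ F} (hl : l ≠ 1)
    (hl3 : l ^ 3 = 1) : ∃ g : PSL₂ F, Commute g l ∧ g ≠ 1 ∧ g ≠ l ∧ g ≠ l⁻¹ := by
  classical
  obtain ⟨S, hS, hc⟩ := cent_family hodd hl hl3
  obtain ⟨L, hL, -⟩ := lift_three hl hl3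
  obtain ⟨G, hG, hG'⟩ := Finset.exists_mem_notMem_of_card_lt_card
    (show ({1, -1, L, -L, L⁻¹, -L⁻¹} : Finset SL(2, F)).card < S.card from
      (Finset.card_le_six).trans_lt (by omega))
  simp only [Finset.mem_insert, Finset.mem_singleton, not_or] at hG'
  refine ⟨π G, (hc G hG).1, ?_, ?_, ?_⟩
  · rw [ne_eq, π_one_iff]; tauto
  · rw [← hL, ne_eq, π_eq_iff]; rintro (e | e) <;> simp_all
  · rw [← hL, ← map_inv, ne_eq, π_eq_iff]; rintro (e | e) <;> simp_all

/-- An element centralising an element of order three whose square is outside its group. -/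
theorem exists_cent_sq (hodd : Odd (Fintype.card F))
    (hq : 17 ≤ Fintype.card F ∨ (9 ≤ Fintype.card F ∧ (3 : F) = 0)) {l : PSL₂ F} (hl : l ≠ 1) (hl3 : l ^ 3 = 1) :
    ∃ g : PSL₂ F, Commute g l ∧ g * g ≠ 1 ∧ g * g ≠ l ∧ g * g ≠ l⁻¹ := by
  classical
  obtain ⟨S, hS, hc⟩ := cent_family hodd hl hl3
  obtain ⟨L, hL, -⟩ := lift_three hl hl3
  rcases hq with hq | ⟨h9, h3⟩
  · have hfib : ∀ b ∈ S.image (fun G => G * G), (S.filter fun G => G * G = b).card ≤ 2 := by
      intro b hb
      obtain ⟨G0, hG0, rfl⟩ := Finset.mem_image.1 hb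
      refine (Finset.card_le_card (t := {G0, -G0}) fun G hG => ?_).trans Finset.card_le_two
      simp only [Finset.mem_filter] at hG
      have hcm : Commute G G0 := by
        obtain ⟨L', hL', ht'⟩ := lift_three hl hl3
        have h20 := two_ne (F := F) hodd
        exact commute_of_common (hL' ▸ hl) (commute_of_π hL' ht' h20 (hc G hG.1).1)
          (commute_of_π hL' ht' h20 (hc G0 hG0).1)
      have h1 : G * G0⁻¹ * (G * G0⁻¹) = 1 := by
        rw [mul_assoc, ← mul_assoc G0⁻¹, ← hcm.inv_right.eq, mul_assoc G, ← mul_inv_rev, ← mul_assoc, hG.2,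
          mul_inv_cancel]
      rcases eq_or_neg hodd h1 with e | e
      · simp [mul_inv_eq_one.1 e]
      · simp [mul_inv_eq_iff_eq_mul.1 e]
    have hle := Finset.card_le_mul_card_image (f := fun G => G * G) S 2 hfib
    obtain ⟨b, hb, hb'⟩ := Finset.exists_mem_notMem_of_card_lt_card
      (show ({1, -1, L, -L, L⁻¹, -L⁻¹} : Finset SL(2, F)).card < (S.image fun G => G * G).card from
        (Finset.card_le_six).trans_lt (by omega))
    obtain ⟨G, hG, rfl⟩ := Finset.mem_image.1 hb
    simp only [Finset.mem_insert, Finset.mem_singleton, not_or] at hb'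
    refine ⟨π G, (hc G hG).1, ?_, ?_, ?_⟩ <;> rw [← map_mul]
    · rw [ne_eq, π_one_iff]; tauto
    · rw [← hL, ne_eq, π_eq_iff]; rintro (e | e) <;> simp_all
    · rw [← hL, ← map_inv, ne_eq, π_eq_iff]; rintro (e | e) <;> simp_all
  · obtain ⟨G, hG, hG'⟩ := Finset.exists_mem_notMem_of_card_lt_card
      (show ({1, -1, L, -L, L⁻¹, -L⁻¹} : Finset SL(2, F)).card < S.card from
        (Finset.card_le_six).trans_lt (by omega))
    simp only [Finset.mem_insert, Finset.mem_singleton, not_or] at hG'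
    have hg3 := π_cube ((hc G hG).2 h3)
    rw [pow_succ, pow_two] at hg3
    have hl3' : l * l * l = 1 := by rw [← hl3, pow_succ, pow_two]
    have hll : l * l = l⁻¹ := eq_inv_of_mul_eq_one_left hl3'
    have hgg : π G = (π G * π G)⁻¹ := eq_inv_of_mul_eq_one_right hg3
    refine ⟨π G, (hc G hG).1, fun e => ?_, fun e => ?_, fun e => ?_⟩ <;> rw [e] at hgg
    · rw [inv_one, π_one_iff] at hgg; tauto
    · rw [← hL, ← map_inv, π_eq_iff] at hgg; rcases hgg with e' | e' <;> simp_all
    · rw [inv_inv, ← hL, π_eq_iff] at hgg; rcases hgg with e' | e' <;> simp_all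

end Cfsg.Lib.PSLBinary
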