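import Cfsg.Agent.PSLBinary.Upper
import Cfsg.Agent.PSLBinary.Elements
import Cfsg.Agent.Classical.Misc.SmallPSL
import Mathlib

/-!
Tetrahedral and octahedral subgroups of `PSL₂(7)`.
-/

set_option autoImplicit false
set_option linter.unusedSectionVars false
set_option linter.style.haveILetI false

namespace Cfsg.Lib.PSLBinary

open Cfsg.Lib.Suz.Binary Cfsg.Lib.Classical.PSLFour
open scoped MatrixGroups

section Abstract

variable {G : Type*} [Group G] [Finite G]

/-- What is used about `PSL₂(7)`. -/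
structure Seven (G : Type*) [Group G] : Prop where
  four : FourCent G
  card : Nat.card G = 168
  simple : IsSimpleGroup G
  six : ∀ u z : G, u ≠ 1 → u ^ 3 = 1 → z ≠ 1 → z * z = 1 → ¬ Commute u z
  small : ∀ z : G, z ≠ 1 → z * z = 1 → Nat.card (Subgroup.centralizer ({z} : Set G)) ≤ 16

variable (S : Seven G) {H V : Subgroup G}

/-- A four group normal in a subgroup of order divisible by three and permuted transitively by it. -/
structure FourIn (H V : Subgroup G) : Prop where
  le : V ≤ H
  card : Nat.card V = 4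
  sq : ∀ v ∈ V, v * v = 1
  norm : ∀ h ∈ H, ∀ v ∈ V, h * v * h⁻¹ ∈ V
  trans : ∀ v ∈ V, v ≠ 1 → ∀ w ∈ V, w ≠ 1 → ∃ h ∈ H, h * v * h⁻¹ = w
  three : 3 ∣ Nat.card H

variable (T : FourIn H V)

include T in
theorem le_normalizer : H ≤ Subgroup.normalizer (V : Set G) := fun h hh =>
  Subgroup.mem_normalizer_fintype fun v hv => T.norm h hh v hv

include S T in
theorem card_normalizer : Nat.card (Subgroup.normalizer (V : Set G)) = 24 := by
  have : Fact (Nat.Prime 2) := ⟨Nat.prime_two⟩
  have h8 : 2 ^ 3 ∣ Nat.card G := by rw [S.card]; norm_num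
  obtain ⟨P, hP, hVP⟩ := Sylow.exists_subgroup_card_pow_prime_le 2 h8 V (n := 2) T.card (by norm_num)
  have hVn : (V.subgroupOf P).Normal := Subgroup.normal_of_index_eq_two (by
    have := Subgroup.index_mul_card (V.subgroupOf P)
    rw [Nat.card_congr (Subgroup.subgroupOfEquivOfLe hVP).toEquiv, T.card, hP] at this
    omega)
  have hPN : P ≤ Subgroup.normalizer (V : Set G) := (Subgroup.normal_subgroupOf_iff_le_normalizer hVP).1 hVn
  have a := T.three.trans (Subgroup.card_dvd_of_le (le_normalizer T))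
  have b := hP ▸ Subgroup.card_dvd_of_le hPN
  have h24 : 24 ∣ Nat.card (Subgroup.normalizer (V : Set G)) :=
    Nat.Coprime.mul_dvd_of_dvd_of_dvd (by norm_num : Nat.Coprime 3 8) a b
  have h168 := S.card ▸ Subgroup.card_subgroup_dvd_card (Subgroup.normalizer (V : Set G))
  obtain ⟨k, hk⟩ := h24
  have hk7 : k ∣ 7 := by
    rw [hk, show 168 = 24 * 7 from rfl] at h168
    exact Nat.dvd_of_mul_dvd_mul_left (by norm_num) h168
  rcases (Nat.dvd_prime (by norm_num : Nat.Prime 7)).1 hk7 with rfl | rfl
  · exact hk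
  · exfalso
    have htop : Subgroup.normalizer (V : Set G) = ⊤ := Subgroup.eq_top_of_card_eq _ (by rw [hk, S.card])
    haveI := S.simple
    have hn : V.Normal := Subgroup.normalizer_eq_top_iff.1 htop
    rcases hn.eq_bot_or_eq_top with e | e
    · have := T.card
      rw [e, Subgroup.card_bot] at this
      omega
    · have := T.card
      rw [e, Subgroup.card_top, S.card] at this
      omega

include S T in
theorem cent_le {x : G} (hx : x ∈ V) (hx1 : x ≠ 1) :
    Subgroup.centralizer ({x} : Set G) ≤ Subgroup.normalizer (V : Set G) := by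
  classical
  set C := Subgroup.centralizer ({x} : Set G)
  set M := Subgroup.normalizer (V : Set G) with hM
  have h3 : ¬ 3 ∣ Nat.card C := fun h => by
    have : Fact (Nat.Prime 3) := ⟨Nat.prime_three⟩
    obtain ⟨u, hu⟩ := exists_prime_orderOf_dvd_card' 3 h
    refine S.six u x (fun e => ?_) (by rw [← Subgroup.orderOf_coe] at hu; rw [← hu]; exact pow_orderOf_eq_one _) hx1
      (T.sq x hx) (Subgroup.mem_centralizer_singleton_iff.1 u.2)
    rw [← Subgroup.orderOf_coe, e, orderOf_one] at hu
    omega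
  have h16 := S.small x hx1 (T.sq x hx)
  have h168 := S.card ▸ Subgroup.card_subgroup_dvd_card C
  have hge : 8 ≤ Nat.card (C ⊓ M : Subgroup G) := by
    haveI := Fintype.ofFinite G
    have hfib : ∀ b ∈ (Finset.univ : Finset M).image (fun m : M => (m : G) * x * (m : G)⁻¹),
        ((Finset.univ : Finset M).filter fun m : M => (m : G) * x * (m : G)⁻¹ = b).card ≤ Nat.card (C ⊓ M : Subgroup G) := by
      intro b hb
      obtain ⟨m0, -, rfl⟩ := Finset.mem_image.1 hb
      rw [Nat.card_eq_fintype_card, ← Finset.card_univ]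
      refine Finset.card_le_card_of_injOn (fun m => if h : (m0 : G)⁻¹ * m ∈ C ⊓ M then ⟨_, h⟩ else 1)
        (fun _ _ => Finset.mem_coe.2 (Finset.mem_univ _)) ?_
      intro a ha b hb e
      simp only [Finset.coe_filter, Finset.mem_univ, true_and, Set.mem_setOf_eq] at ha hb
      have hmem : ∀ m : M, (m : G) * x * (m : G)⁻¹ = m0 * x * (m0 : G)⁻¹ → (m0 : G)⁻¹ * m ∈ C ⊓ M := fun m hm =>
        ⟨Subgroup.mem_centralizer_singleton_iff.2 (by
          calc (m0 : G)⁻¹ * m * x = (m0 : G)⁻¹ * (m * x * (m : G)⁻¹) * m := by group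
            _ = x * ((m0 : G)⁻¹ * m) := by rw [hm]; group), M.mul_mem (M.inv_mem m0.2) m.2⟩
      simp only [dif_pos (hmem a ha), dif_pos (hmem b hb), Subtype.mk.injEq, mul_right_inj] at e
      exact Subtype.ext e
    have h := Finset.card_le_mul_card_image (f := fun m : M => (m : G) * x * (m : G)⁻¹) Finset.univ _ hfib
    have himg : ((Finset.univ : Finset M).image fun m : M => (m : G) * x * (m : G)⁻¹).card ≤ 3 := by
      refine (Finset.card_le_card (t := (Finset.univ.filter fun v : G => v ∈ V).erase 1) ?_).trans ?_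
      · intro b hb
        obtain ⟨m, -, rfl⟩ := Finset.mem_image.1 hb
        refine Finset.mem_erase.2 ⟨fun e => hx1 (conj_eq_one_iff.1 e), Finset.mem_filter.2 ⟨Finset.mem_univ _, ?_⟩⟩
        exact (Subgroup.mem_normalizer_iff.1 m.2 x).1 hx
      · rw [Finset.card_erase_of_mem (by simp), ← Fintype.card_subtype, ← Nat.card_eq_fintype_card]
        show Nat.card V - 1 ≤ 3
        rw [T.card]
    rw [Finset.card_univ, ← Nat.card_eq_fintype_card, card_normalizer S T] at h
    nlinarith
  have hCle := Subgroup.card_le_of_le (inf_le_left : C ⊓ M ≤ C)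
  have hVC : V ≤ C := fun v hv => Subgroup.mem_centralizer_singleton_iff.2 (by
    have h := T.sq _ (mul_mem hv hx)
    rw [← inv_eq_of_mul_eq_one_right h, mul_inv_rev, inv_eq_of_mul_eq_one_right (T.sq v hv),
      inv_eq_of_mul_eq_one_right (T.sq x hx)])
  have h4 : 4 ∣ Nat.card C := T.card ▸ Subgroup.card_dvd_of_le hVC
  have he : Nat.card C = 8 := by
    have : Nat.card C ∈ Nat.divisors 168 := Nat.mem_divisors.2 ⟨h168, by norm_num⟩
    have h8 : 8 ≤ Nat.card C := hge.trans hCle
    generalize Nat.card C = n at h3 h16 this h8 h4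
    rw [show Nat.divisors 168 = {1, 2, 3, 4, 6, 7, 8, 12, 14, 21, 24, 28, 42, 56, 84, 168} from by decide] at this
    simp only [Finset.mem_insert, Finset.mem_singleton] at this
    omega
  have := Subgroup.eq_of_le_of_card_ge (inf_le_left : C ⊓ M ≤ C) (by omega)
  exact this ▸ inf_le_right

include S T in
theorem mem_of_meet {g x : G} (hx : x ∈ V) (hx1 : x ≠ 1) (hg : g⁻¹ * x * g ∈ V) :
    g ∈ Subgroup.normalizer (V : Set G) := by
  obtain ⟨h, hh, e⟩ := T.trans (g⁻¹ * x * g) hg (conj_ne' hx1) x hx hx1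
  have hc : g * h⁻¹ ∈ Subgroup.centralizer ({x} : Set G) := Subgroup.mem_centralizer_singleton_iff.2 (by
    calc g * h⁻¹ * x = g * h⁻¹ * (h * (g⁻¹ * x * g) * h⁻¹) := by rw [e]
      _ = x * (g * h⁻¹) := by group)
  simpa using mul_mem (cent_le S T hx hx1 hc) (le_normalizer T hh)
where
  conj_ne' {g x : G} (h : x ≠ 1) : g⁻¹ * x * g ≠ 1 := fun e => h (by
    calc x = g * (g⁻¹ * x * g) * g⁻¹ := by group
      _ = 1 := by rw [e]; group)

omit [Finite G] in
theorem rel_dvd {D W N : Subgroup G} (hWN : W ≤ N) (hDN : D ≤ N) (hNW : N ≤ Subgroup.normalizer (W : Set G))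
    (hN : Nat.card N = 24) (hW : Nat.card W = 4) : Nat.card D ∣ 6 * Nat.card (W ⊓ D : Subgroup G) := by
  haveI : (W.subgroupOf N).Normal := (Subgroup.normal_subgroupOf_iff_le_normalizer hWN).2 hNW
  have h6 : (W.subgroupOf N).index = 6 := by
    have := Subgroup.index_mul_card (W.subgroupOf N)
    rw [Nat.card_congr (Subgroup.subgroupOfEquivOfLe hWN).toEquiv, hW, hN] at this
    omega
  have h := Subgroup.relIndex_dvd_index_of_normal (W.subgroupOf N) (D.subgroupOf N)
  rw [Subgroup.relIndex_subgroupOf hDN, h6] at h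
  have a2 := Subgroup.relIndex_mul_relIndex (⊥ : Subgroup G) (W ⊓ D) D bot_le inf_le_right
  rw [Subgroup.relIndex_bot_left, Subgroup.relIndex_bot_left, Subgroup.inf_relIndex_right] at a2
  rw [← a2, mul_comm 6]
  exact Nat.mul_dvd_mul_left _ h

include S T in
theorem meet_lt {g : G} (hg : g ∉ Subgroup.normalizer (V : Set G)) :
    Nat.card (Subgroup.normalizer (V : Set G) ⊓
      (Subgroup.normalizer (V : Set G)).map (MulAut.conj g).toMonoidHom : Subgroup G) < 8 := by
  classical
  set M := Subgroup.normalizer (V : Set G) with hM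
  set M' := M.map (MulAut.conj g).toMonoidHom with hM'
  set V' := V.map (MulAut.conj g).toMonoidHom with hV'
  set D := M ⊓ M' with hD
  by_contra hlt
  push Not at hlt
  have hM'c : Nat.card M' = 24 := by
    rw [hM', Subgroup.card_map_of_injective (MulAut.conj g).injective, card_normalizer S T]
  have hV'c : Nat.card V' = 4 := by rw [hV', Subgroup.card_map_of_injective (MulAut.conj g).injective, T.card]
  have hV'M : V' ≤ M' := Subgroup.map_mono (T.le.trans (le_normalizer T))
  have hn : M ≤ Subgroup.normalizer (V : Set G) := le_rfl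
  have hn' : M' ≤ Subgroup.normalizer (V' : Set G) := Subgroup.le_normalizer_map _
  -- a normal four group meets the intersection in all of itself
  have key : ∀ N W : Subgroup G, W ≤ N → Nat.card N = 24 → Nat.card W = 4 → D ≤ N →
      N ≤ Subgroup.normalizer (W : Set G) → (∀ v ∈ W, v * v = 1) → W ≤ D := by
    intro N W hWN hN hW hDN hNW hsq
    have hi : Nat.card (D ⊓ W : Subgroup G) ∣ 4 := hW ▸ Subgroup.card_dvd_of_le inf_le_right
    have hprod := rel_dvd hWN hDN hNW hN hW
    rw [inf_comm] at hprod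
    rcases (by
      have := Nat.le_of_dvd (by norm_num) hi
      have h0 : 0 < Nat.card (D ⊓ W : Subgroup G) := Nat.card_pos
      omega : Nat.card (D ⊓ W : Subgroup G) = 1 ∨ Nat.card (D ⊓ W : Subgroup G) = 2 ∨
        Nat.card (D ⊓ W : Subgroup G) = 3 ∨ Nat.card (D ⊓ W : Subgroup G) = 4) with e | e | e | e
    · rw [e] at hprod
      have := Nat.le_of_dvd (by norm_num) hprod
      omega
    · exfalso
      rw [e] at hprod
      have hd12 : 3 ∣ Nat.card D := by
        have h12 := Nat.le_of_dvd (by norm_num) hprod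
        generalize Nat.card D = d at hprod hlt h12
        interval_cases d <;> omega
      have : Fact (Nat.Prime 3) := ⟨Nat.prime_three⟩
      obtain ⟨u, hu⟩ := exists_prime_orderOf_dvd_card' 3 hd12
      haveI : Nontrivial (D ⊓ W : Subgroup G) := Finite.one_lt_card_iff_nontrivial.1 (by rw [e]; norm_num)
      obtain ⟨⟨z, hzD, hzW⟩, hz⟩ := exists_ne (1 : (D ⊓ W : Subgroup G))
      have hz1 : z ≠ 1 := fun h => hz (Subtype.ext h)
      refine S.six u z (fun e' => ?_) (by rw [← Subgroup.orderOf_coe] at hu; rw [← hu]; exact pow_orderOf_eq_one _)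
        hz1 (hsq z hzW) ?_
      · rw [← Subgroup.orderOf_coe, e', orderOf_one] at hu; omega
      · have hmem : (u : G) * z * (u : G)⁻¹ ∈ D ⊓ W :=
          ⟨D.mul_mem (D.mul_mem u.2 hzD) (D.inv_mem u.2),
            (Subgroup.mem_normalizer_iff.1 (hNW (hDN u.2)) z).1 hzW⟩
        have this := ((Nat.card_eq_two_iff' (1 : (D ⊓ W : Subgroup G))).1 e).unique
          (y₁ := (⟨_, hmem⟩ : (D ⊓ W : Subgroup G))) (y₂ := ⟨z, hzD, hzW⟩)
          (fun h => hz1 (conj_eq_one_iff.1 (congrArg Subtype.val h))) hz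
        exact mul_inv_eq_iff_eq_mul.1 (congrArg Subtype.val this)
    · rw [e] at hi; norm_num at hi
    · exact inf_eq_right.1 (Subgroup.eq_of_le_of_card_ge inf_le_right (by rw [e, hW]))
  have hV1 : V ≤ D := key M V (T.le.trans (le_normalizer T)) (card_normalizer S T) T.card inf_le_left hn T.sq
  have hV2 : V' ≤ D := key M' V' hV'M hM'c hV'c inf_le_right hn' (by
    rintro _ ⟨v, hv, rfl⟩
    rw [← map_mul, T.sq v hv, map_one])
  -- the two four groups meet
  have hne : V ⊓ V' ≠ ⊥ := fun hbot => by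
    have hd := rel_dvd (T.le.trans (le_normalizer T)) (hV2.trans inf_le_left) hn (card_normalizer S T) T.card
    rw [hbot, Subgroup.card_bot, hV'c] at hd
    norm_num at hd
  obtain ⟨⟨x, hxV, hxV'⟩, hx⟩ := Subgroup.ne_bot_iff_exists_ne_one.1 hne
  obtain ⟨v, hv, hve⟩ := hxV'
  refine hg (mem_of_meet S T hxV (fun h => hx (Subtype.ext h)) ?_)
  rw [← hve, MulEquiv.coe_toMonoidHom, MulAut.conj_apply,
    show g⁻¹ * (g * v * g⁻¹) * g = v by group]
  exact hv

include S T in
/-- The normaliser acts transitively on the other points. -/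
theorem other_orbit : ∀ {p : G ⧸ Subgroup.normalizer (V : Set G)},
    p ≠ ((1 : G) : G ⧸ Subgroup.normalizer (V : Set G)) → ∀ r, r ≠ ((1 : G) : G ⧸ Subgroup.normalizer (V : Set G)) → ∃ m ∈ Subgroup.normalizer (V : Set G), m • p = r := by
  classical
  set M := Subgroup.normalizer (V : Set G) with hM
  have hMc := card_normalizer S T
  have hstab : ∀ p : G ⧸ M, p ≠ ((1 : G) : G ⧸ M) → Nat.card (MulAction.stabilizer M p) < 8 := by
    intro p hp
    obtain ⟨g, rfl⟩ := QuotientGroup.mk_surjective p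
    have hg : g ∉ M := fun h => hp (QuotientGroup.eq.2 (by simpa using h))
    refine lt_of_le_of_lt ?_ (meet_lt S T hg)
    refine Nat.card_le_card_of_injective (fun x => ⟨((x : M) : G), (x : M).2, ?_⟩) fun a b e => ?_
    · exact ⟨g⁻¹ * ((x : M) : G) * g, (smul_mk_eq_iff M _ g).1 x.2, by simp [mul_assoc]⟩
    · exact Subtype.ext (Subtype.ext (congrArg Subtype.val e :))
  have hq : Nat.card (G ⧸ M) = 7 := by
    have := Subgroup.card_eq_card_quotient_mul_card_subgroup M
    rw [S.card, hMc] at this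
    omega
  have horb : ∀ p : G ⧸ M, p ≠ ((1 : G) : G ⧸ M) →
      4 ≤ Nat.card (MulAction.orbit M p) ∧ ((1 : G) : G ⧸ M) ∉ MulAction.orbit M p := by
    intro p hp
    refine ⟨?_, ?_⟩
    · have h : Nat.card (MulAction.orbit M p) * Nat.card (MulAction.stabilizer M p) = 24 := by
        rw [← hMc, ← Nat.card_prod]
        exact Nat.card_congr (MulAction.orbitProdStabilizerEquivGroup M p)
      have := hstab p hp
      nlinarith
    · rintro ⟨m, hm⟩
      refine hp ?_
      have : p = (m : G)⁻¹ • ((1 : G) : G ⧸ M) := by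
        rw [← hm]; exact (inv_smul_smul (m : G) p).symm
      rw [this]
      exact (smul_mk_eq_iff M _ 1).2 (by simpa using inv_mem m.2)
  intro p hp r hr
  by_contra hno
  have hdisj : Disjoint (MulAction.orbit M p) (MulAction.orbit M r) := by
    rw [Set.disjoint_left]
    rintro s ⟨m, rfl⟩ ⟨n, hn⟩
    refine hno ⟨((n⁻¹ * m : M) : G), (n⁻¹ * m).2, ?_⟩
    show (n⁻¹ * m) • p = r
    rw [mul_smul, inv_smul_eq_iff]
    exact hn.symm
  haveI := Fintype.ofFinite (G ⧸ M)
  have h1 : ((MulAction.orbit M p ∪ MulAction.orbit M r) ∪ {((1 : G) : G ⧸ M)}).ncard ≤ 7 := by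
    rw [← hq, ← Set.ncard_univ]
    exact Set.ncard_le_ncard (Set.subset_univ _) Set.finite_univ
  rw [Set.ncard_union_eq (Set.disjoint_singleton_right.2 fun h => h.elim (horb p hp).2 (horb r hr).2)
    (Set.toFinite _) (Set.toFinite _), Set.ncard_union_eq hdisj (Set.toFinite _) (Set.toFinite _),
    Set.ncard_singleton] at h1
  have a1 := (horb p hp).1
  have a2 := (horb r hr).1
  rw [Nat.card_coe_set_eq] at a1 a2
  omega

include S T in
/-- An octahedral subgroup gives a doubly transitive action on seven points. -/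
theorem seven_symFour (hH : Nat.card H = 24) : ¬ Bin H := by
  classical
  have hHM : H = Subgroup.normalizer (V : Set G) :=
    Subgroup.eq_of_le_of_card_ge (le_normalizer T) (by rw [card_normalizer S T, hH])
  rw [hHM]
  set M := Subgroup.normalizer (V : Set G) with hM
  haveI := Fintype.ofFinite (G ⧸ M)
  have hq : Nat.card (G ⧸ M) = 7 := by
    have := Subgroup.card_eq_card_quotient_mul_card_subgroup M
    rw [S.card, card_normalizer S T] at this
    omega
  have hfix : ∀ m ∈ M, m • ((1 : G) : G ⧸ M) = ((1 : G) : G ⧸ M) := fun m hm =>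
    (smul_mk_eq_iff M _ 1).2 (by simpa using hm)
  have htwo : ∀ a b c d : G ⧸ M, a ≠ b → c ≠ d → ∃ g : G, g • a = c ∧ g • b = d := by
    intro a b c d hab hcd
    obtain ⟨x, hx⟩ := MulAction.exists_smul_eq G a ((1 : G) : G ⧸ M)
    obtain ⟨y, hy⟩ := MulAction.exists_smul_eq G c ((1 : G) : G ⧸ M)
    obtain ⟨m, hm, e⟩ := other_orbit S T (p := x • b) (fun h => hab (smul_left_cancel x (hx.trans h.symm)))
      (y • d) (fun h => hcd (smul_left_cancel y (hy.trans h.symm)))
    exact ⟨y⁻¹ * m * x, by rw [mul_smul, mul_smul, hx, hfix m hm, ← hy, inv_smul_smul],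
      by rw [mul_smul, mul_smul, e, inv_smul_smul]⟩
  intro hbin
  let e : Fin 7 ≃ G ⧸ M := (Fintype.equivFinOfCardEq (by rw [← Nat.card_eq_fintype_card, hq])).symm
  have hall : ∀ σ : Equiv.Perm (Fin 7), ∃ g : G, ∀ i, g • e i = e (σ i) := fun σ =>
    hbin 7 (fun i => e i) (fun i => e (σ i)) (by norm_num) fun i j hij =>
      htwo _ _ _ _ (fun h => hij (e.injective h)) (fun h => hij (σ.injective (e.injective h)))
  choose f hf using hall
  have hinj : Function.Injective f := fun σ τ h => Equiv.ext fun i => e.injective (by rw [← hf σ i, ← hf τ i, h])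
  have := Nat.card_le_card_of_injective f hinj
  rw [S.card, Nat.card_perm, Nat.card_fin] at this
  norm_num [Nat.factorial] at this

include S T in
/-- Distinct conjugates of a tetrahedral subgroup meet trivially. -/
theorem seven_ti (hH : Nat.card H = 12) (hord : ∀ x ∈ H, x * x = 1 → x ∈ V)
    (hord3 : ∀ x ∈ H, x * x ≠ 1 → x ^ 3 = 1) {g x : G} (hx : x ∈ H) (hx1 : x ≠ 1) (hg : g⁻¹ * x * g ∈ H) :
    ∀ y ∈ H, g⁻¹ * y * g ∈ H := by
  classical
  have hle := le_normalizer T
  set M := Subgroup.normalizer (V : Set G) with hM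
  have hgM : g ∈ M := by
    by_cases hx2 : x * x = 1
    · refine mem_of_meet S T (hord x hx hx2) hx1 (hord _ hg ?_)
      rw [show g⁻¹ * x * g * (g⁻¹ * x * g) = g⁻¹ * (x * x) * g by group, hx2]; group
    · by_contra hgM
      have h3 : orderOf x = 3 :=
        haveI : Fact (Nat.Prime 3) := ⟨Nat.prime_three⟩
        orderOf_eq_prime (hord3 x hx hx2) hx1
      set D := M ⊓ M.map (MulAut.conj g).toMonoidHom
      have hxD : x ∈ D := ⟨hle hx, ⟨g⁻¹ * x * g, hle hg, by simp [mul_assoc]⟩⟩
      have hd : 3 ∣ Nat.card D := h3 ▸ Subgroup.orderOf_dvd_natCard _ hxD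
      have hp : ((g : G) : G ⧸ M) ≠ ((1 : G) : G ⧸ M) := fun h =>
        hgM (by simpa using QuotientGroup.eq.1 h)
      have hq : Nat.card (G ⧸ M) = 7 := by
        have := Subgroup.card_eq_card_quotient_mul_card_subgroup M
        rw [S.card, card_normalizer S T] at this
        omega
      haveI := Fintype.ofFinite (G ⧸ M)
      have horb : MulAction.orbit M ((g : G) : G ⧸ M) = {((1 : G) : G ⧸ M)}ᶜ := by
        refine Set.eq_of_subset_of_subset ?_ fun r hr => ?_
        · rintro r ⟨m, rfl⟩ (h : m • ((g : G) : G ⧸ M) = _)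
          refine hp ?_
          have e : ((g : G) : G ⧸ M) = (m : G)⁻¹ • ((1 : G) : G ⧸ M) := by
            rw [← h]; exact (inv_smul_smul (m : G) _).symm
          rw [e]
          exact (smul_mk_eq_iff M _ 1).2 (by simpa using inv_mem m.2)
        · obtain ⟨m, hm, e⟩ := other_orbit S T hp r hr
          exact ⟨⟨m, hm⟩, e⟩
      have h1 : Nat.card (MulAction.orbit M ((g : G) : G ⧸ M)) * Nat.card (MulAction.stabilizer M ((g : G) : G ⧸ M)) =
          Nat.card M := by
        rw [← Nat.card_prod]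
        exact Nat.card_congr (MulAction.orbitProdStabilizerEquivGroup M _)
      have h2 : Nat.card (MulAction.stabilizer M ((g : G) : G ⧸ M)) = Nat.card D := by
        refine Nat.card_congr ⟨fun x => ⟨((x : M) : G), (x : M).2, g⁻¹ * ((x : M) : G) * g,
          (smul_mk_eq_iff M _ g).1 x.2, by simp [mul_assoc]⟩, fun x => ⟨⟨x.1, x.2.1⟩, ?_⟩, fun x => rfl, fun x => rfl⟩
        obtain ⟨y, hy, hye⟩ := x.2.2
        refine (smul_mk_eq_iff M _ g).2 ?_
        show g⁻¹ * x.1 * g ∈ M
        have e : g⁻¹ * x.1 * g = y := by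
          calc g⁻¹ * x.1 * g = g⁻¹ * (g * y * g⁻¹) * g := by rw [show g * y * g⁻¹ = x.1 from hye]
            _ = y := by group
        rw [e]; exact hy
      rw [h2, horb, Nat.card_coe_set_eq, Set.ncard_compl, Set.ncard_singleton, hq, card_normalizer S T] at h1
      omega
  intro y hy
  haveI : (H.subgroupOf M).Normal := Subgroup.normal_of_index_eq_two (by
    have := Subgroup.index_mul_card (H.subgroupOf M)
    rw [Nat.card_congr (Subgroup.subgroupOfEquivOfLe hle).toEquiv, hH, card_normalizer S T] at this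
    omega)
  have := Subgroup.Normal.conj_mem ‹(H.subgroupOf M).Normal› ⟨y, hle hy⟩ (Subgroup.mem_subgroupOf.2 hy) ⟨g, hgM⟩⁻¹
  simpa [Subgroup.mem_subgroupOf] using this

end Abstract

end Cfsg.Lib.PSLBinary
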